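import Cfsg.Agent.Lib.SL2Pair
import Cfsg.Agent.Lib.StrongFusion.Chain

/-!
Basic facts on a finite group acting on a finite abelian group: commutator images, regular quadratic
subgroups, and the supermodular inequality.
-/

set_option autoImplicit false
set_option linter.unusedSectionVars false
set_option linter.style.haveILetI false

namespace CfsgLib.RootCommute

open CfsgLib.SL2Pair (fix mem_fix)
open CfsgLib.StrongFusion (cm)

universe u v

variable {P : Type u} [Group P] [Finite P] {U : Type v} [AddCommGroup U] [Finite U] (ρ : P →* AddMonoid.End U)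

theorem act_mul (g h : P) (x : U) : ρ (g * h) x = ρ g (ρ h x) := by rw [map_mul]; rfl

theorem act_one (x : U) : ρ 1 x = x := by rw [map_one]; rfl

theorem act_inv (g : P) (x : U) : ρ g⁻¹ (ρ g x) = x := by rw [← act_mul, inv_mul_cancel, act_one]

theorem act_inv' (g : P) (x : U) : ρ g (ρ g⁻¹ x) = x := by rw [← act_mul, mul_inv_cancel, act_one]

theorem act_injective (g : P) : Function.Injective (ρ g) := Function.LeftInverse.injective (act_inv ρ g)

theorem inv_fixed {g : P} {x : U} (h : ρ g x = x) : ρ g⁻¹ x = x := by conv_lhs => rw [← h, act_inv]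

theorem act_ext (hρ : Function.Injective ρ) {g h : P} (e : ∀ x, ρ g x = ρ h x) : g = h :=
  hρ (AddMonoidHom.ext e)

/-- The stabiliser of a vector. -/
def pointStab (x : U) : Subgroup P where
  carrier := {g | ρ g x = x}
  one_mem' := act_one ρ x
  mul_mem' {g h} hg hh := by
    show ρ (g * h) x = x
    rw [act_mul, hh, hg]
  inv_mem' {g} hg := inv_fixed ρ hg

/-- The elements inducing the identity modulo a subgroup and stabilising it. -/
def cosetStab (W : AddSubgroup U) : Subgroup P where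
  carrier := {g | ∀ x, ρ g x - x ∈ W}
  one_mem' x := by rw [act_one, sub_self]; exact W.zero_mem
  mul_mem' {g h} hg hh x := by
    have := W.add_mem (hg (ρ h x)) (hh x)
    rwa [sub_add_sub_cancel, ← act_mul] at this
  inv_mem' {g} hg x := by
    have := W.neg_mem (hg (ρ g⁻¹ x))
    rwa [neg_sub, act_inv'] at this

/-- The stabiliser of a subgroup as a set. -/
def subStab (W : AddSubgroup U) : Subgroup P where
  carrier := {g | ∀ x, ρ g x ∈ W ↔ x ∈ W}
  one_mem' x := by rw [act_one]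
  mul_mem' {g h} hg hh x := by rw [act_mul]; exact (hg _).trans (hh x)
  inv_mem' {g} hg x := by
    have := hg (ρ g⁻¹ x)
    rw [act_inv'] at this
    exact this.symm

/-- The subgroup spanned by the displacements of a subgroup. -/
def img (A : Subgroup P) : AddSubgroup U := AddSubgroup.closure {w | ∃ a ∈ A, ∃ x, w = ρ a x - x}

theorem sub_mem_img {A : Subgroup P} {a : P} (ha : a ∈ A) (x : U) : ρ a x - x ∈ img ρ A :=
  AddSubgroup.subset_closure ⟨a, ha, x, rfl⟩

theorem img_le {A : Subgroup P} {W : AddSubgroup U} : img ρ A ≤ W ↔ ∀ a ∈ A, ∀ x, ρ a x - x ∈ W :=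
  ⟨fun h _ ha x => h (sub_mem_img ρ ha x), fun h => (AddSubgroup.closure_le _).2 (by
    rintro _ ⟨a, ha, x, rfl⟩; exact h a ha x)⟩

theorem img_mono {A B : Subgroup P} (h : A ≤ B) : img ρ A ≤ img ρ B :=
  (img_le ρ).2 fun _ ha x => sub_mem_img ρ (h ha) x

theorem fix_antitone {A B : Subgroup P} (h : A ≤ B) : fix ρ B ≤ fix ρ A := fun _ hx a ha => hx a (h ha)

theorem mem_cm {g x : P} {A : Subgroup P} : x ∈ cm g A ↔ g⁻¹ * x * g ∈ A := by
  constructor
  · rintro ⟨a, ha, rfl⟩; simpa [mul_assoc] using ha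
  · exact fun h => ⟨_, h, by simp [mul_assoc]⟩

theorem mem_fix_cm {g : P} {A : Subgroup P} {x : U} : x ∈ fix ρ (cm g A) ↔ ρ g⁻¹ x ∈ fix ρ A := by
  refine ⟨fun h a ha => ?_, fun h a ha => ?_⟩
  · have := h (g * a * g⁻¹) (by rw [mem_cm]; simpa [mul_assoc] using ha)
    rw [act_mul, act_mul] at this
    exact act_injective ρ g (this.trans (act_inv' ρ g x).symm)
  · have := h _ ((mem_cm).1 ha)
    rw [act_mul, act_mul, act_inv'] at this
    exact act_injective ρ g⁻¹ this

theorem mem_img_cm {g : P} {A : Subgroup P} {x : U} (hx : x ∈ img ρ A) : ρ g x ∈ img ρ (cm g A) := by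
  suffices img ρ A ≤ (img ρ (cm g A)).comap (ρ g : U →+ U) from this hx
  refine (img_le ρ).2 fun a ha y => ?_
  show ρ g (ρ a y - y) ∈ img ρ (cm g A)
  have h := sub_mem_img ρ (A := cm g A) (a := g * a * g⁻¹) (by rw [mem_cm]; simpa [mul_assoc] using ha) (ρ g y)
  rwa [act_mul, act_mul, act_inv, ← map_sub] at h

theorem card_img_cm (g : P) (A : Subgroup P) : Nat.card (img ρ (cm g A)) = Nat.card (img ρ A) := by
  refine le_antisymm ?_ (Nat.card_le_card_of_injective (fun x : img ρ A => (⟨ρ g x, mem_img_cm ρ x.2⟩ : img ρ (cm g A)))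
    fun x y e => Subtype.ext (act_injective ρ g (congrArg Subtype.val e)))
  refine Nat.card_le_card_of_injective (fun x : img ρ (cm g A) => (⟨ρ g⁻¹ x, ?_⟩ : img ρ A))
    fun x y e => Subtype.ext (act_injective ρ g⁻¹ (congrArg Subtype.val e))
  have := mem_img_cm ρ (g := g⁻¹) x.2
  rwa [StrongFusion.cm_inv_cm] at this

theorem card_fix_cm (g : P) (A : Subgroup P) : Nat.card (fix ρ (cm g A)) = Nat.card (fix ρ A) :=
  Nat.card_congr
    { toFun := fun x => ⟨ρ g⁻¹ x, (mem_fix_cm ρ).1 x.2⟩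
      invFun := fun x => ⟨ρ g x, (mem_fix_cm ρ).2 (by rw [act_inv]; exact x.2)⟩
      left_inv := fun x => Subtype.ext (act_inv' ρ g x)
      right_inv := fun x => Subtype.ext (act_inv ρ g x) }

/-- A commutative subgroup acting quadratically with all nontrivial elements alike. -/
structure Regular (n : ℕ) (A : Subgroup P) : Prop where
  card_grp : Nat.card A = n
  comm : ∀ a ∈ A, ∀ b ∈ A, a * b = b * a
  quad : img ρ A ≤ fix ρ A
  ker : ∀ a ∈ A, a ≠ 1 → ∀ x, ρ a x = x → x ∈ fix ρ A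
  card_img : Nat.card (img ρ A) = n
  idx : Nat.card U = n * Nat.card (fix ρ A)

variable {ρ}

theorem Regular.conj {n : ℕ} {A : Subgroup P} (h : Regular ρ n A) (g : P) : Regular ρ n (cm g A) where
  card_grp := (Subgroup.card_map_of_injective (MulAut.conj g).injective).trans h.card_grp
  comm := by
    rintro _ ⟨a, ha, rfl⟩ _ ⟨b, hb, rfl⟩
    rw [← map_mul, ← map_mul, h.comm a ha b hb]
  quad := (img_le ρ).2 fun a ha x => (mem_fix_cm ρ).2 (by
    have := h.quad (sub_mem_img ρ (mem_cm.1 ha) (ρ g⁻¹ x))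
    rwa [act_mul, act_mul, act_inv', ← map_sub] at this)
  ker := fun a ha ha1 x hx => (mem_fix_cm ρ).2 (h.ker _ (mem_cm.1 ha) (fun e => ha1 (by
      calc a = g * (g⁻¹ * a * g) * g⁻¹ := by group
        _ = 1 := by rw [e]; group)) _ (by rw [act_mul, act_mul, act_inv', hx]))
  card_img := (card_img_cm ρ g A).trans h.card_img
  idx := by rw [card_fix_cm]; exact h.idx

theorem Regular.act_fixed {n : ℕ} {A : Subgroup P} (h : Regular ρ n A) {a : P} (ha : a ∈ A) {w : U}
    (hw : w ∈ img ρ A) : ρ a w = w := h.quad hw a ha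

/-- Every displacement is taken by each nontrivial element. -/
theorem Regular.exists_vec {n : ℕ} {A : Subgroup P} (h : Regular ρ n A) {a : P} (ha : a ∈ A) (ha1 : a ≠ 1)
    {w : U} (hw : w ∈ img ρ A) : ∃ x, ρ a x - x = w := by
  let f : U →+ img ρ A := AddMonoidHom.mk' (fun x => ⟨ρ a x - x, sub_mem_img ρ ha x⟩)
    fun x y => Subtype.ext (by
      show ρ a (x + y) - (x + y) = (ρ a x - x) + (ρ a y - y)
      rw [map_add]; abel)
  have hk : f.ker = fix ρ A := le_antisymm
    (fun x hx => h.ker a ha ha1 x (sub_eq_zero.1 (congrArg Subtype.val (AddMonoidHom.mem_ker.1 hx))))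
    fun x hx => AddMonoidHom.mem_ker.2 (Subtype.ext (sub_eq_zero.2 (hx a ha)))
  have h1 := f.ker.card_mul_index
  rw [AddSubgroup.index_ker, hk, h.idx, mul_comm n] at h1
  have h2 : f.range = ⊤ := AddSubgroup.eq_top_of_card_eq _
    ((Nat.eq_of_mul_eq_mul_left Nat.card_pos h1).trans h.card_img.symm)
  obtain ⟨x, hx⟩ := (h2.symm ▸ AddSubgroup.mem_top (⟨w, hw⟩ : img ρ A) : _ ∈ f.range)
  exact ⟨x, congrArg Subtype.val hx⟩

/-- Outside the fixed points a vector is moved onto all displacements. -/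
theorem Regular.exists_elt {n : ℕ} {A : Subgroup P} (h : Regular ρ n A) {x : U} (hx : x ∉ fix ρ A)
    {w : U} (hw : w ∈ img ρ A) : ∃ a ∈ A, ρ a x - x = w := by
  let f : A → img ρ A := fun a => ⟨ρ (a : P) x - x, sub_mem_img ρ a.2 x⟩
  have hf : Function.Injective f := fun a b e => by
    have e' : ρ (a : P) x = ρ (b : P) x := sub_left_inj.1 (congrArg Subtype.val e)
    by_contra hne
    refine hx (h.ker _ (A.mul_mem (A.inv_mem a.2) b.2) (fun e2 => hne (Subtype.ext (inv_mul_eq_one.1 e2))) x ?_)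
    rw [act_mul, ← e', act_inv]
  obtain ⟨a, ha⟩ := ((Nat.bijective_iff_injective_and_card f).2 ⟨hf, h.card_grp.trans h.card_img.symm⟩).2 ⟨w, hw⟩
  exact ⟨a, a.2, congrArg Subtype.val ha⟩

theorem Regular.img_le_of {n : ℕ} {A : Subgroup P} (h : Regular ρ n A) {x : U} (hx : x ∉ fix ρ A)
    {W : AddSubgroup U} (hW : ∀ a ∈ A, ρ a x - x ∈ W) : img ρ A ≤ W := fun w hw => by
  obtain ⟨a, ha, rfl⟩ := h.exists_elt hx hw
  exact hW a ha

variable {p : ℕ} [hp : Fact p.Prime]

variable (ρ) in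
/-- A nontrivial invariant subgroup has a nonzero fixed vector. -/
theorem exists_fix (hU : ∀ x : U, p • x = 0) {E : Subgroup P} (hE : IsPGroup p E) {W : AddSubgroup U}
    (hW : ∀ g ∈ E, ∀ x ∈ W, ρ g x ∈ W) (hne : W ≠ ⊥) : ∃ w ∈ W, w ≠ 0 ∧ w ∈ fix ρ E := by
  letI : MulAction E W :=
    { smul := fun g x => ⟨ρ (g : P) x, hW g g.2 x x.2⟩
      one_smul := fun x => Subtype.ext (act_one ρ _)
      mul_smul := fun g h x => Subtype.ext (act_mul ρ _ _ _) }
  have hdvd : p ∣ Nat.card W := by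
    obtain ⟨⟨x, hx⟩, hx0⟩ : ∃ x : W, x ≠ 0 := by
      by_contra h
      push Not at h
      exact hne ((AddSubgroup.eq_bot_iff_forall W).2 fun x hx => congrArg Subtype.val (h ⟨x, hx⟩))
    have : addOrderOf (⟨x, hx⟩ : W) = p := addOrderOf_eq_prime (Subtype.ext (hU x)) hx0
    exact this ▸ addOrderOf_dvd_natCard _
  have h0 : (0 : W) ∈ MulAction.fixedPoints E W := fun g => Subtype.ext (map_zero (ρ (g : P)))
  obtain ⟨w, hw, hw0⟩ := hE.exists_fixed_point_of_prime_dvd_card_of_fixed_point W hdvd h0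
  exact ⟨w, w.2, fun e => hw0 (Subtype.ext e.symm), fun a ha => congrArg Subtype.val (hw ⟨a, ha⟩)⟩

variable (ρ) in
/-- A `p`-group does not fill a nonzero invariant subgroup with displacements of it. -/
theorem disp_lt (hU : ∀ x : U, p • x = 0) {E : Subgroup P} (hE : IsPGroup p E) {W : AddSubgroup U}
    (hW : ∀ g ∈ E, ∀ x ∈ W, ρ g x ∈ W) (hne : W ≠ ⊥) :
    AddSubgroup.closure {w | ∃ a ∈ E, ∃ x ∈ W, w = ρ a x - x} < W := by
  obtain ⟨L, ⟨hLW, hLi⟩, hmax⟩ := Set.exists_max_image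
    {L : AddSubgroup U | L < W ∧ ∀ g ∈ E, ∀ x ∈ L, ρ g x ∈ L} (fun L => Nat.card L) (Set.toFinite _)
    ⟨⊥, bot_lt_iff_ne_bot.2 hne, fun g _ x hx => by rw [AddSubgroup.mem_bot.1 hx, map_zero]; exact zero_mem _⟩
  letI : MulAction E (U ⧸ L) :=
    { smul := fun g => QuotientAddGroup.map L L (ρ (g : P)) fun x hx => hLi g g.2 x hx
      one_smul := fun q => QuotientAddGroup.induction_on q fun x =>
        congrArg QuotientAddGroup.mk (act_one ρ x)
      mul_smul := fun g h q => QuotientAddGroup.induction_on q fun x =>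
        congrArg QuotientAddGroup.mk (act_mul ρ _ _ x) }
  set Q := W.map (QuotientAddGroup.mk' L) with hQ
  letI : MulAction E Q :=
    { smul := fun g q => ⟨g • (q : U ⧸ L), by
        obtain ⟨x, hx, e⟩ := q.2
        exact ⟨ρ (g : P) x, hW g g.2 x hx, by rw [← e]; rfl⟩⟩
      one_smul := fun q => Subtype.ext (one_smul _ _)
      mul_smul := fun g h q => Subtype.ext (mul_smul _ _ _) }
  obtain ⟨x₀, hx₀, hx₀L⟩ := SetLike.exists_of_lt hLW
  have hdvd : p ∣ Nat.card Q := by
    have hne' : (⟨_, x₀, hx₀, rfl⟩ : Q) ≠ 0 := fun e =>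
      hx₀L ((QuotientAddGroup.eq_zero_iff x₀).1 (congrArg Subtype.val e))
    have : addOrderOf (⟨_, x₀, hx₀, rfl⟩ : Q) = p := addOrderOf_eq_prime (Subtype.ext (by
      show p • QuotientAddGroup.mk' L x₀ = 0
      rw [← map_nsmul, hU, map_zero])) hne'
    exact this ▸ addOrderOf_dvd_natCard _
  have h0 : (0 : Q) ∈ MulAction.fixedPoints E Q := fun g => Subtype.ext
    (map_zero (QuotientAddGroup.map L L (ρ (g : P)) fun x hx => hLi g g.2 x hx))
  obtain ⟨⟨_, w, hwW, rfl⟩, hfix, hw0⟩ := hE.exists_fixed_point_of_prime_dvd_card_of_fixed_point Q hdvd h0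
  have hwL : w ∉ L := fun h => hw0 (Subtype.ext ((QuotientAddGroup.eq_zero_iff w).2 h).symm)
  have hwd : ∀ g ∈ E, ρ g w - w ∈ L := fun g hg => by
    have h1 : QuotientAddGroup.mk' L (ρ g w) = QuotientAddGroup.mk' L w := congrArg Subtype.val (hfix ⟨g, hg⟩)
    rw [← QuotientAddGroup.eq_zero_iff (ρ g w - w)]
    show QuotientAddGroup.mk' L (ρ g w - w) = 0
    rw [map_sub, h1, sub_self]
  set L' := L ⊔ AddSubgroup.zmultiples w with hL'
  have hL'W : L' ≤ W := sup_le hLW.le (AddSubgroup.zmultiples_le.2 hwW)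
  have hdec : ∀ x ∈ L', ∀ g ∈ E, ρ g x - x ∈ L := by
    intro x hx g hg
    obtain ⟨l, hl, m, hm, rfl⟩ := AddSubgroup.mem_sup.1 hx
    obtain ⟨k, rfl⟩ := AddSubgroup.mem_zmultiples_iff.1 hm
    rw [map_add, map_zsmul, show ρ g l + k • ρ g w - (l + k • w) = (ρ g l - l) + k • (ρ g w - w) by
      rw [zsmul_sub]; abel]
    exact add_mem (sub_mem (hLi g hg l hl) hl) (zsmul_mem (hwd g hg) k)
  have hL'i : ∀ g ∈ E, ∀ x ∈ L', ρ g x ∈ L' := fun g hg x hx => by
    have := add_mem ((le_sup_left : L ≤ L') (hdec x hx g hg)) hx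
    rwa [sub_add_cancel] at this
  have htop : L' = W := by
    refine hL'W.eq_or_lt.resolve_right fun hlt => hwL ?_
    have h2 := AddSubgroup.eq_of_le_of_card_ge le_sup_left (hmax L' ⟨hlt, hL'i⟩)
    exact h2.ge ((le_sup_right : AddSubgroup.zmultiples w ≤ L') (AddSubgroup.mem_zmultiples w))
  refine lt_of_le_of_lt ((AddSubgroup.closure_le _).2 ?_) hLW
  rintro _ ⟨a, ha, x, hx, rfl⟩
  exact hdec x (htop ▸ hx) a ha

variable (ρ) in
theorem img_lt_top [Nontrivial U] (hU : ∀ x : U, p • x = 0) {E : Subgroup P} (hE : IsPGroup p E) :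
    img ρ E < ⊤ :=
  lt_of_le_of_lt ((img_le ρ (W := AddSubgroup.closure {w | ∃ a ∈ E, ∃ x ∈ (⊤ : AddSubgroup U), w = ρ a x - x})).2
      fun a ha x => AddSubgroup.subset_closure ⟨a, ha, x, trivial, rfl⟩)
    (disp_lt ρ hU hE (W := ⊤) (fun _ _ _ _ => trivial) top_ne_bot)

theorem card_inf_mul_card_sup {M : Type*} [AddCommGroup M] [Finite M] (S T : AddSubgroup M) :
    Nat.card ↥(S ⊓ T) * Nat.card ↥(S ⊔ T) = Nat.card S * Nat.card T := by
  set f : S × T →+ M := S.subtype.coprod T.subtype with hf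
  have hr : f.range = S ⊔ T := by
    refine le_antisymm ?_ (sup_le (fun x hx => ⟨(⟨x, hx⟩, 0), by simp [hf]⟩) fun x hx => ⟨(0, ⟨x, hx⟩), by simp [hf]⟩)
    rintro _ ⟨⟨a, b⟩, rfl⟩
    exact AddSubgroup.add_mem_sup a.2 b.2
  have hk : Nat.card f.ker = Nat.card ↥(S ⊓ T) := by
    refine Nat.card_congr
      { toFun := fun x => ⟨(x.1.1 : M), x.1.1.2, ?_⟩
        invFun := fun x => ⟨(⟨x, x.2.1⟩, ⟨-x, T.neg_mem x.2.2⟩), AddMonoidHom.mem_ker.2 (by simp [hf])⟩
        left_inv := fun x => ?_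
        right_inv := fun x => rfl }
    · have h : (x.1.1 : M) + x.1.2 = 0 := AddMonoidHom.mem_ker.1 x.2
      rw [eq_neg_of_add_eq_zero_left h]; exact T.neg_mem x.1.2.2
    · have h : (x.1.1 : M) + x.1.2 = 0 := AddMonoidHom.mem_ker.1 x.2
      exact Subtype.ext (Prod.ext rfl (Subtype.ext (eq_neg_of_add_eq_zero_right h).symm))
  have h1 := f.ker.card_mul_index
  rw [AddSubgroup.index_ker, hr, hk, Nat.card_prod] at h1
  exact h1

variable (ρ) in
/-- The order times the number of fixed vectors. -/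
noncomputable def mu (E : Subgroup P) : ℕ := Nat.card E * Nat.card (fix ρ E)

variable (ρ) in
/-- Supermodularity. -/
theorem mu_mul_mu_le (E F : Subgroup P) : mu ρ E * mu ρ F ≤ mu ρ (E ⊔ F) * mu ρ (E ⊓ F) := by
  have h1 := Products.card_mul_card_le E F
  have hsup : fix ρ (E ⊔ F) = fix ρ E ⊓ fix ρ F := by
    refine le_antisymm (le_inf (fix_antitone ρ le_sup_left) (fix_antitone ρ le_sup_right)) ?_
    intro x hx g hg
    have : E ⊔ F ≤ pointStab ρ x := sup_le (fun a ha => hx.1 a ha) fun a ha => hx.2 a ha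
    exact this hg
  have h2 : Nat.card (fix ρ E) * Nat.card (fix ρ F) ≤
      Nat.card (fix ρ (E ⊔ F)) * Nat.card (fix ρ (E ⊓ F)) := by
    rw [hsup, ← card_inf_mul_card_sup (fix ρ E) (fix ρ F)]
    exact Nat.mul_le_mul_left _ (AddSubgroup.card_le_of_le
      (sup_le (fix_antitone ρ inf_le_left) (fix_antitone ρ inf_le_right)))
  calc mu ρ E * mu ρ F = Nat.card E * Nat.card F * (Nat.card (fix ρ E) * Nat.card (fix ρ F)) := by
        unfold mu; ring
    _ ≤ _ := Nat.mul_le_mul h1 h2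
    _ = _ := by unfold mu; ring

end CfsgLib.RootCommute
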