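import Cfsg.Agent.Lib.RootCommute.Main

/-!
A class of least offenders in general position, and the shape of the elements trivial on a short series.
-/

set_option autoImplicit false
set_option linter.unusedSectionVars false
set_option linter.unusedVariables false
set_option linter.style.haveILetI false

namespace CfsgLib.RootCommute

open CfsgLib CfsgLib.StrongFusion
open CfsgLib.SL2Pair (fix)

universe u v

variable {P : Type u} [Group P] [Finite P] {U : Type v} [AddCommGroup U] [Finite U] {ρ : P →* AddMonoid.End U}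
  {p : ℕ} [hp : Fact p.Prime] {T : Sylow p P} {M : Subgroup P}

/-- A class of least offenders with a frame, all members of a Sylow subgroup being apart. -/
theorem exists_class (hs : Setting ρ T M) (hoff : ∃ E, IsOffender ρ p E) :
    ∃ (cl₀ cl : Set (Subgroup P)) (g₀ : P) (n : ℕ) (A R : Subgroup P) (z : P),
      Anchor ρ T M cl₀ g₀ n A R z ∧ ClassData T M cl ∧ A ∈ cl ∧ (∀ S ∈ cl, Regular ρ n S) ∧
      (∀ B ∈ cl, B ≤ (T : Subgroup P) → ∀ S ∈ cl, S ≤ (T : Subgroup P) → Apart ρ B S) ∧ ∀ S ∈ cl, ∃ g, cm g A = S := by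
  classical
  obtain ⟨E₀, hE₀, hmin⟩ := Set.exists_min_image {E | IsOffender ρ p E} (fun E => Nat.card E) (Set.toFinite _) hoff
  have hdata : ∀ cl : Set (Subgroup P), (∀ R ∈ cl, ∀ g, cm g R ∈ cl) → (∀ R ∈ cl, IsLeastOffender ρ p R) →
      cl.Nonempty → ClassData T M cl := fun cl hconj hl ⟨R, hR⟩ => by
    obtain ⟨a, ha⟩ := ZJFailure.exists_le_cm T (hl R hR).1.pgroup
    exact ⟨hconj, fun R hR => (hl R hR).1.pgroup, fun R hR => (hl R hR).1.ne_bot,
      ⟨cm a⁻¹ R, hconj R hR _, (cm_mono ha).trans (cm_inv_cm a _).le⟩, hs.le_M, hs.M_ne, hs.over_le, hs.no_core⟩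
  have hd₀ := hdata {R | IsLeastOffender ρ p R} (fun R hR g => hR.conj g) (fun R hR => hR) ⟨E₀, hE₀, hmin⟩
  obtain ⟨g₀, hg₀⟩ := exists_peak hd₀
  obtain ⟨C, hC, hCT, hCX, hCN⟩ := exists_normalizing hd₀ (kept_le g₀) (kept_eq_sSup g₀) (exists_not_kept hd₀ hg₀)
  obtain ⟨R, z, hanch⟩ := exists_anchor hs hd₀ (fun R hR => hR) hg₀ hC hCT hCN hCX
  set cl : Set (Subgroup P) := Set.range fun g => cm g C with hcl
  have hcl1 : ∀ R ∈ cl, IsLeastOffender ρ p R := by rintro _ ⟨g, rfl⟩; exact IsLeastOffender.conj hC g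
  have hreg : ∀ R ∈ cl, Regular ρ (Nat.card C) R := by rintro _ ⟨g, rfl⟩; exact hanch.frame.regA.conj g
  have hconj : ∀ R ∈ cl, ∀ g, cm g R ∈ cl := by
    rintro _ ⟨h, rfl⟩ g; exact ⟨g * h, (cm_cm g h C).symm⟩
  have hd := hdata cl hconj hcl1 ⟨C, 1, cm_one C⟩
  exact ⟨_, cl, g₀, _, C, R, z, hanch, hd, ⟨1, cm_one C⟩, hreg, fun B hB hBT S hS hST =>
    apart_of_members hs hd hreg hcl1 hB hBT hS hST, fun S hS => hS⟩

/-- Elements fixing the common fixed vectors and mapping into them preserve both parts of a frame. -/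
theorem shear_both (hs : Setting ρ T M) {n : ℕ} {A R : Subgroup P} {z : P}
    (F : Frame ρ n A R z) (hRM : ¬ R ≤ M) {X : Subgroup P} (hXT : X ≤ (T : Subgroup P))
    (hTX : (T : Subgroup P) ≤ Subgroup.normalizer (X : Set P)) (hAX : A ≤ X) (himgA : img ρ A ≤ fix ρ X)
    (hquad : img ρ X ≤ fix ρ X) {g : P} (hg : g ∈ flag ρ ⊥ (fix ρ X)) :
    (∀ v ∈ fix ρ A ⊓ fix ρ R, ρ g v - v ∈ fix ρ A ⊓ fix ρ R) ∧ ∀ y ∈ img ρ R, ρ g y - y ∈ img ρ A := by
  have hU := hs.smul_zero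
  have hp2 := hs.p_odd
  haveI := hs.nontrivial_of_ne (E := R) fun e => hRM (e ▸ bot_le)
  set Fx := fix ρ X with hFx
  set V0 := fix ρ A ⊓ fix ρ R with hV0
  have hFA : Fx ≤ fix ρ A := fix_antitone ρ hAX
  have hgF : ∀ x ∈ Fx, ρ g x = x := fun x hx => sub_eq_zero.1 (AddSubgroup.mem_bot.1 (hg.2.1 x hx))
  have hgd : ∀ u, ρ g u - u ∈ Fx := hg.2.2
  have hsplit : ∀ x ∈ Fx, ∃ x₁ ∈ img ρ A, x - x₁ ∈ V0 ∧ x - x₁ ∈ Fx := fun x hx => by
    obtain ⟨x₁, hx₁, hv⟩ := (F.mem_fix_iff hU hp2).1 (hFA hx)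
    exact ⟨x₁, hx₁, hv, sub_mem hx (himgA hx₁)⟩
  have hz : ∀ x ∈ Fx, ρ z x ∈ Fx ∧ ρ z⁻¹ x ∈ Fx := fun x hx => by
    obtain ⟨x₁, hx₁, hv, hvF⟩ := hsplit x hx
    rw [show x = x₁ + (x - x₁) by abel]
    constructor
    · rw [map_add, F.negA _ hx₁, F.pos hv]; exact add_mem (neg_mem (himgA hx₁)) hvF
    · rw [map_add, F.inv_z (F.negA _ hx₁), inv_fixed ρ (F.pos hv)]; exact add_mem (neg_mem (himgA hx₁)) hvF
  set d := z * g⁻¹ * z⁻¹ * g with hd
  have hdF : ∀ x ∈ Fx, ρ d x = x := fun x hx => by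
    rw [hd, act_mul, hgF x hx, act_mul, act_mul, inv_fixed ρ (hgF _ (hz x hx).2), act_inv']
  have hgi : ∀ u, ρ g⁻¹ u = u - (ρ g u - u) := fun u => by
    have h0 : ρ g (u - (ρ g u - u)) = u := by rw [map_sub, hgF _ (hgd u)]; abel
    conv_lhs => rw [← h0, act_inv]
  -- the two odd parts
  have hdv : ∀ v ∈ V0, ∃ x₁ ∈ img ρ A, ρ g v - v - x₁ ∈ V0 ∧ ρ d v = v + (x₁ + x₁) := fun v hv => by
    obtain ⟨x₁, hx₁, hw, hwF⟩ := hsplit _ (hgd v)
    refine ⟨x₁, hx₁, hw, ?_⟩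
    set w := ρ g v - v - x₁ with hwdef
    have e1 : ρ g v = v + x₁ + w := by rw [hwdef]; abel
    have e2 : ρ g⁻¹ v = v - x₁ - w := by rw [hgi, e1]; abel
    rw [hd, act_mul, act_mul, act_mul, e1]
    simp only [map_add, map_sub, map_neg, F.inv_z (F.negA _ hx₁), inv_fixed ρ (F.pos hv), inv_fixed ρ (F.pos hw), e2,
      inv_fixed ρ (hgF _ (himgA hx₁)), inv_fixed ρ (hgF _ hwF), F.negA _ hx₁, F.pos hv, F.pos hw]
    abel
  have hdy : ∀ y ∈ img ρ R, ∃ x₁ ∈ img ρ A, ρ g y - y - x₁ ∈ V0 ∧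
      ρ d y = y + ((ρ g y - y - x₁) + (ρ g y - y - x₁)) ∧ ρ g y - y - x₁ ∈ Fx := fun y hy => by
    obtain ⟨x₁, hx₁, hw, hwF⟩ := hsplit _ (hgd y)
    refine ⟨x₁, hx₁, hw, ?_, hwF⟩
    set w := ρ g y - y - x₁ with hwdef
    have e1 : ρ g y = y + x₁ + w := by rw [hwdef]; abel
    have e2 : ρ g⁻¹ y = y - x₁ - w := by rw [hgi, e1]; abel
    rw [hd, act_mul, act_mul, act_mul, e1]
    simp only [map_add, map_sub, map_neg, F.inv_z (F.negR _ hy), F.inv_z (F.negA _ hx₁), inv_fixed ρ (F.pos hw), e2,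
      inv_fixed ρ (hgF _ (himgA hx₁)), inv_fixed ρ (hgF _ hwF), F.negR _ hy, F.negA _ hx₁, F.pos hw]
    abel
  set Z := flag ρ ⊥ Fx with hZdef
  have hZp : IsPGroup p Z := isPGroup_flag hs.inj hU hp2 ⊥ Fx
  have hAZ : A ≤ Z := fun a ha => ⟨fun x hx => by rw [AddSubgroup.mem_bot.1 hx, map_zero],
    fun x hx => by rw [hFA hx a ha, sub_self]; exact zero_mem _, fun u => himgA (sub_mem_img ρ ha u)⟩
  have hSn : subStab ρ Fx ≤ Subgroup.normalizer (Z : Set P) := le_normalizer_flag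
    (fun e _ x hx => by rw [AddSubgroup.mem_bot.1 hx, map_zero]; exact zero_mem _) fun e he x hx => (he x).2 hx
  have hZS : Z ≤ subStab ρ Fx := fun h hh x => ⟨fun hx => by
      have := sub_mem hx (hh.2.2 x)
      rwa [sub_sub_cancel] at this,
    fun hx => by have := add_mem (hh.2.2 x) hx; rwa [sub_add_cancel] at this⟩
  have hSM : subStab ρ Fx ≤ M := by
    refine hs.over_le _ (fun t ht x => ?_) fun e => ?_
    · have hinv : ∀ t ∈ (T : Subgroup P), ∀ x ∈ Fx, ρ t x ∈ Fx := fun t ht x hx => by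
        rw [hFx, ← Local.map_conj_eq_of_mem_normalizer (hTX ht)]
        exact (mem_fix_cm ρ).2 (by rw [act_inv]; exact hx)
      exact ⟨fun hx => by have := hinv t⁻¹ (inv_mem ht) _ hx; rwa [act_inv] at this, hinv t ht x⟩
    have hn : Z.Normal := Subgroup.normalizer_eq_top_iff.1 (eq_top_iff.2 (e ▸ hSn))
    have h0 := hs.no_core Z hn hZp
    exact hRM fun r hr => by
      exfalso
      obtain ⟨a, ha, ha1⟩ : ∃ a ∈ A, a ≠ 1 := by
        by_contra hno
        push Not at hno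
        have hA : A = ⊥ := (Subgroup.eq_bot_iff_forall A).2 hno
        refine hRM fun r' hr' => ?_
        have h1 := F.regA.card_grp
        have h2 := F.regR.card_grp
        rw [hA, Subgroup.card_bot] at h1
        rw [← h1] at h2
        rw [Subgroup.eq_bot_of_card_eq R h2, Subgroup.mem_bot] at hr'
        rw [hr']; exact M.one_mem
      exact ha1 (Subgroup.mem_bot.1 (h0 ▸ hAZ ha))
  have hdZ : d ∈ Z := by
    refine ⟨fun x hx => by rw [AddSubgroup.mem_bot.1 hx, map_zero], fun x hx => by rw [hdF x hx, sub_self]; exact zero_mem _,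
      fun u => ?_⟩
    obtain ⟨x, hx, y, hy, hv⟩ := F.dec u
    obtain ⟨x₁, hx₁, hw₁, ey, hw₁F⟩ := hdy y hy
    obtain ⟨x₂, hx₂, hw₂, ev⟩ := hdv _ hv
    rw [show u = x + y + (u - x - y) by abel, map_add, map_add, hdF x (himgA hx), ey, ev]
    rw [show x + (y + ((ρ g y - y - x₁) + (ρ g y - y - x₁))) + ((u - x - y) + (x₂ + x₂)) - (x + y + (u - x - y)) =
      (ρ g y - y - x₁) + (ρ g y - y - x₁) + (x₂ + x₂) by abel]
    exact add_mem (add_mem hw₁F hw₁F) (add_mem (himgA hx₂) (himgA hx₂))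
  -- the commutator of `d` with an element of the opposite group
  have hD : ∀ r ∈ R, r * d * r⁻¹ * d⁻¹ ∈ subStab ρ Fx ∧
      (∀ u, ∀ s ∈ R, ρ (s * d * s⁻¹ * d⁻¹) (ρ (r * d * r⁻¹ * d⁻¹) u - u) = ρ (r * d * r⁻¹ * d⁻¹) u - u) ∧
      (∀ x ∈ img ρ A, ρ (r * d * r⁻¹ * d⁻¹) x = x - (ρ d (ρ r x - x) - (ρ r x - x))) ∧
      (∀ v ∈ V0, ρ (r * d * r⁻¹ * d⁻¹) v = v + (ρ r (ρ d v - v) - (ρ d v - v)) +
        (ρ d (ρ r (ρ d v - v) - (ρ d v - v)) - (ρ r (ρ d v - v) - (ρ d v - v)))) ∧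
      (∀ y ∈ img ρ R, ρ (r * d * r⁻¹ * d⁻¹) y = y) := by
    intro r hr
    set D := r * d * r⁻¹ * d⁻¹ with hDdef
    have hRy : ∀ x, ρ r (ρ r x - x) = ρ r x - x := fun x => F.regR.quad (sub_mem_img ρ hr x) r hr
    have hri : ∀ x, ρ r⁻¹ x = x - (ρ r x - x) := fun x => by
      have h0 : ρ r (x - (ρ r x - x)) = x := by rw [map_sub, hRy]; abel
      conv_lhs => rw [← h0, act_inv]
    have hdyV : ∀ y ∈ img ρ R, ρ d y - y ∈ V0 ∧ ρ d y - y ∈ Fx := fun y hy => by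
      obtain ⟨x₁, -, hw, e, hwF⟩ := hdy y hy
      rw [e, add_sub_cancel_left]; exact ⟨add_mem hw hw, add_mem hwF hwF⟩
    have hdvA : ∀ v ∈ V0, ρ d v - v ∈ img ρ A := fun v hv => by
      obtain ⟨x₁, hx₁, -, e⟩ := hdv v hv
      rw [e, add_sub_cancel_left]; exact add_mem hx₁ hx₁
    have hDx : ∀ x ∈ img ρ A, ρ D x = x - (ρ d (ρ r x - x) - (ρ r x - x)) := fun x hx => by
      set y := ρ r x - x with hy
      have h2 : ρ r (ρ d y) = ρ d y := by
        have h3 := (hdyV y (sub_mem_img ρ hr x)).1.2 r hr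
        rw [map_sub, hRy] at h3
        exact sub_left_inj.1 h3
      rw [hDdef, act_mul, inv_fixed ρ (hdF x (himgA hx)), act_mul, hri x, ← hy, act_mul, map_sub, hdF x (himgA hx),
        map_sub, h2]
      rw [hy]; abel
    have hDy : ∀ y ∈ img ρ R, ρ D y = y := fun y hy => by
      obtain ⟨hδ, hδF⟩ := hdyV y hy
      set δ := ρ d y - y with hδdef
      have h1 : ρ d⁻¹ y = y - δ := by
        have h0 : ρ d (y - δ) = y := by rw [map_sub, hdF δ hδF, hδdef]; abel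
        conv_lhs => rw [← h0, act_inv]
      rw [hDdef, act_mul, h1, act_mul, map_sub, inv_fixed ρ (F.regR.quad hy r hr), inv_fixed ρ (hδ.2 r hr), act_mul,
        map_sub, hdF δ hδF, show ρ d y - δ = y by rw [hδdef]; abel]
      exact F.regR.quad hy r hr
    have hDv : ∀ v ∈ V0, ρ D v = v + (ρ r (ρ d v - v) - (ρ d v - v)) +
        (ρ d (ρ r (ρ d v - v) - (ρ d v - v)) - (ρ r (ρ d v - v) - (ρ d v - v))) := fun v hv => by
      set t := ρ d v - v with ht
      have htA := hdvA v hv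
      set y := ρ r t - t with hy
      have h1 : ρ d⁻¹ v = v - t := by
        have h0 : ρ d (v - t) = v := by rw [map_sub, hdF t (himgA htA), ht]; abel
        conv_lhs => rw [← h0, act_inv]
      have h2 : ρ r (ρ d y) = ρ d y := by
        have h3 := (hdyV y (sub_mem_img ρ hr t)).1.2 r hr
        rw [map_sub, hRy] at h3
        exact sub_left_inj.1 h3
      rw [hDdef, act_mul, h1, act_mul, map_sub (ρ r⁻¹), inv_fixed ρ (hv.2 r hr), hri t, ← hy, act_mul,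
        map_sub (ρ d) v, map_sub (ρ d) t, hdF t (himgA htA), show ρ d v - (t - ρ d y) = v + ρ d y by rw [ht]; abel, map_add, hv.2 r hr, h2]
      abel
    have hDF : ∀ x ∈ Fx, ρ D x - x ∈ Fx ∧ ρ D (ρ D x - x) = ρ D x - x := fun x hx => by
      obtain ⟨x₁, hx₁, hv, hvF⟩ := hsplit x hx
      have e : ρ D x - x = -(ρ d (ρ r x₁ - x₁) - (ρ r x₁ - x₁)) := by
        conv_lhs => rw [show x = x₁ + (x - x₁) by abel, map_add, hDx x₁ hx₁, hDv _ hv, hdF _ hvF]
        simp only [sub_self, map_zero, add_zero]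
        abel
      obtain ⟨h1, h2⟩ := hdyV _ (sub_mem_img ρ hr x₁)
      rw [e]
      refine ⟨neg_mem h2, ?_⟩
      rw [map_neg, hDv _ h1, hdF _ h2]
      simp only [sub_self, map_zero, add_zero]
    have hDe : ∀ u, ∃ w ∈ V0 ⊓ Fx, ∃ y' ∈ img ρ R, ρ D u - u = w + y' := fun u => by
      obtain ⟨x, hx, y, hy, hv⟩ := F.dec u
      set v := u - x - y with hvdef
      set y' := ρ r (ρ d v - v) - (ρ d v - v) with hy'
      have hy'R : y' ∈ img ρ R := sub_mem_img ρ hr _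
      obtain ⟨h1, h2⟩ := hdyV y' hy'R
      obtain ⟨h3, h4⟩ := hdyV _ (sub_mem_img ρ hr x)
      refine ⟨-(ρ d (ρ r x - x) - (ρ r x - x)) + (ρ d y' - y'),
        AddSubgroup.mem_inf.2 ⟨V0.add_mem (V0.neg_mem h3) h1, Fx.add_mem (Fx.neg_mem h4) h2⟩, y', hy'R, ?_⟩
      conv_lhs => rw [show u = x + y + v by rw [hvdef]; abel, map_add, map_add, hDx x hx, hDy y hy, hDv v hv, ← hy']
      abel
    have hDS : D ∈ subStab ρ Fx := by
      intro x
      have hfwd : ∀ y ∈ Fx, ρ D y ∈ Fx := fun y hy => by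
        have := add_mem (hDF y hy).1 hy; rwa [sub_add_cancel] at this
      refine ⟨fun hx => ?_, hfwd x⟩
      have hs' : Function.Surjective (fun y : Fx => (⟨ρ D y, hfwd y y.2⟩ : Fx)) :=
        Finite.injective_iff_surjective.1 fun a b e => Subtype.ext (act_injective ρ D (congrArg Subtype.val e))
      obtain ⟨y, hy⟩ := hs' ⟨ρ D x, hx⟩
      rw [← act_injective ρ D (congrArg Subtype.val hy)]; exact y.2
    refine ⟨hDS, fun u s hs' => ?_, hDx, hDv, hDy⟩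
    obtain ⟨w, ⟨hwV, hwF⟩, y', hy', e⟩ := hDe u
    set D' := s * d * s⁻¹ * d⁻¹ with hD'
    have hw' : ρ D' w = w := by
      rw [hD', act_mul, inv_fixed ρ (hdF w hwF), act_mul, inv_fixed ρ (hwV.2 s hs'), act_mul, hdF w hwF, hwV.2 s hs']
    have hy'' : ρ D' y' = y' := by
      obtain ⟨hδ, hδF⟩ := hdyV y' hy'
      set δ := ρ d y' - y' with hδdef
      have h1 : ρ d⁻¹ y' = y' - δ := by
        have h0 : ρ d (y' - δ) = y' := by rw [map_sub, hdF δ hδF, hδdef]; abel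
        conv_lhs => rw [← h0, act_inv]
      rw [hD', act_mul, h1, act_mul, map_sub, inv_fixed ρ (F.regR.quad hy' s hs'), inv_fixed ρ (hδ.2 s hs'), act_mul,
        map_sub, hdF δ hδF, show ρ d y' - δ = y' by rw [hδdef]; abel]
      exact F.regR.quad hy' s hs'
    rw [e, map_add, hw', hy'']
  -- the group of all those commutators
  set G1 := Subgroup.closure {x | ∃ r ∈ R, x = r * d * r⁻¹ * d⁻¹} with hG1
  have hG1S : G1 ≤ subStab ρ Fx := (Subgroup.closure_le _).2 (by rintro _ ⟨r, hr, rfl⟩; exact (hD r hr).1)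
  have hG1c : ∀ x ∈ G1, ∀ y ∈ G1, x * y = y * x := by
    have hgen : ∀ r ∈ R, ∀ s ∈ R, (r * d * r⁻¹ * d⁻¹) * (s * d * s⁻¹ * d⁻¹) =
        (s * d * s⁻¹ * d⁻¹) * (r * d * r⁻¹ * d⁻¹) := fun r hr s hs' => act_ext ρ hs.inj fun u => by
      have e1 := (hD r hr).2.1 u s hs'
      have e2 := (hD s hs').2.1 u r hr
      rw [map_sub] at e1 e2
      rw [act_mul ρ (r * d * r⁻¹ * d⁻¹) (s * d * s⁻¹ * d⁻¹), act_mul ρ (s * d * s⁻¹ * d⁻¹) (r * d * r⁻¹ * d⁻¹),
        sub_eq_iff_eq_add.1 e1, sub_eq_iff_eq_add.1 e2]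
      abel
    have h1 : G1 ≤ Subgroup.centralizer (G1 : Set P) := by
      refine (Subgroup.closure_le _).2 ?_
      rintro _ ⟨r, hr, rfl⟩
      refine Subgroup.mem_centralizer_iff.2 fun x hx => ?_
      have h2 : G1 ≤ Subgroup.centralizer ({r * d * r⁻¹ * d⁻¹} : Set P) := (Subgroup.closure_le _).2 (by
        rintro _ ⟨s, hs', rfl⟩
        exact Subgroup.mem_centralizer_singleton_iff.2 (hgen s hs' r hr))
      exact Subgroup.mem_centralizer_singleton_iff.1 (h2 hx)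
    exact fun x hx y hy => (Subgroup.mem_centralizer_iff.1 (h1 hx) y hy).symm
  have hG1p : IsPGroup p G1 := by
    let K : Subgroup P :=
      { carrier := {x | x ∈ G1 ∧ x ^ p = 1}
        one_mem' := ⟨one_mem _, one_pow _⟩
        mul_mem' := fun {a b} ha hb =>
          ⟨mul_mem ha.1 hb.1, by rw [Commute.mul_pow (hG1c a ha.1 b hb.1), ha.2, hb.2, one_mul]⟩
        inv_mem' := fun {a} ha => ⟨inv_mem ha.1, by rw [inv_pow, ha.2, inv_one]⟩ }
    have h1 : G1 ≤ K := (Subgroup.closure_le _).2 (by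
      rintro _ ⟨r, hr, rfl⟩
      refine ⟨Subgroup.subset_closure ⟨r, hr, rfl⟩, act_ext ρ hs.inj fun u => ?_⟩
      have key : ∀ k : ℕ, ρ ((r * d * r⁻¹ * d⁻¹) ^ k) u = u + k • (ρ (r * d * r⁻¹ * d⁻¹) u - u) := by
        intro k
        induction k with
        | zero => simp
        | succ k ih =>
          rw [pow_succ', act_mul, ih, map_add, map_nsmul, (hD r hr).2.1 u r hr, succ_nsmul]
          abel
      rw [key, hU, add_zero, act_one])
    exact fun x => ⟨1, Subtype.ext (by rw [pow_one]; exact (h1 x.2).2)⟩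
  have hH : IsPGroup p ↥(G1 ⊔ Z) := hG1p.to_sup_of_normal_right' hZp (hG1S.trans hSn)
  have hHM : G1 ⊔ Z ≤ M := (sup_le hG1S hZS).trans hSM
  obtain ⟨m, hm, hle⟩ := exists_conj_le hs.le_M T.2
    (fun hd' => T.not_dvd_index (hd'.trans (Subgroup.relIndex_dvd_index_of_le hs.le_M))) hHM hH
  have hle' := cm_mono (g := m⁻¹) hle
  rw [cm_inv_cm] at hle'
  have hk : m⁻¹ ∈ M := inv_mem hm
  obtain ⟨w, -, hw0, hw⟩ := exists_fix ρ hU (E := cm m⁻¹ (T : Subgroup P)) (T.2.map _) (W := ⊤)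
    (fun _ _ _ _ => trivial) top_ne_bot
  have hwR : w ∉ fix ρ R := fun h => hRM fun r hr => hs.stab_le hk hw hw0 (h r hr)
  have hwA : w ∈ fix ρ A := fix_antitone ρ (hAZ.trans (le_sup_right.trans hle')) hw
  obtain ⟨x₀, hx₀, hv₀⟩ := (F.mem_fix_iff hU hp2).1 hwA
  have hx₀R : x₀ ∉ fix ρ R := fun h => hwR (by
    have := add_mem h hv₀.2
    rwa [add_sub_cancel] at this)
  have hd0 : ρ d (w - x₀) = w - x₀ := by
    rw [map_sub, hw d (hle' (Subgroup.mem_sup_right hdZ)), hdF x₀ (himgA hx₀)]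
  -- no part of `y` in the common fixed vectors
  have hδ : ∀ y ∈ img ρ R, ρ d y = y := by
    intro y hy
    obtain ⟨r, hr, rfl⟩ := F.regR.exists_elt hx₀R hy
    have e2 : ρ (r * d * r⁻¹ * d⁻¹) w = w := hw _ (hle' (Subgroup.mem_sup_left (Subgroup.subset_closure ⟨r, hr, rfl⟩)))
    rw [show w = x₀ + (w - x₀) by abel, map_add, (hD r hr).2.2.1 x₀ hx₀, (hD r hr).2.2.2.1 _ hv₀, hd0] at e2
    simp only [sub_self, map_zero, add_zero] at e2
    exact sub_eq_zero.1 (sub_eq_self.1 (add_right_cancel e2))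
  have htwo : ∀ x : U, x + x = 0 → x = 0 := fun x => eq_zero_of_add_self hU hp2
  refine ⟨fun v hv => ?_, fun y hy => ?_⟩
  · obtain ⟨x₁, hx₁, hw₁, ev⟩ := hdv v hv
    by_contra hne
    have ht : x₁ + x₁ ≠ 0 := fun e => hne (by
      rw [htwo x₁ e, sub_zero] at hw₁
      exact hw₁)
    have htR : x₁ + x₁ ∉ fix ρ R := fun h => ht (F.eq_zero_A hU hp2 (add_mem hx₁ hx₁) h)
    refine hRM fun r hr => hs.cosetStab_le hk fun u => ?_
    suffices img ρ R ≤ img ρ (cm m⁻¹ (T : Subgroup P)) from this (sub_mem_img ρ hr u)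
    refine F.regR.img_le_of htR fun s hs' => ?_
    have e := (hD s hs').2.2.2.1 v hv
    rw [show ρ d v - v = x₁ + x₁ by rw [ev]; abel, hδ _ (sub_mem_img ρ hs' _), sub_self, add_zero] at e
    have h1 := sub_mem_img ρ (A := cm m⁻¹ (T : Subgroup P))
      (hle' (Subgroup.mem_sup_left (Subgroup.subset_closure ⟨s, hs', rfl⟩))) v
    rwa [e, add_sub_cancel_left] at h1
  · obtain ⟨x₁, hx₁, hw₁, ey, -⟩ := hdy y hy
    rw [hδ y hy, eq_comm, add_eq_left] at ey
    rw [sub_eq_zero.1 (htwo _ ey)]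
    exact hx₁

end CfsgLib.RootCommute
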