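import Cfsg.Agent.Lib.RootCommute.Joins
import Cfsg.Agent.Lib.RootTwo.Natural

/-!
A frame outside `M` in coordinates over the field.
-/

set_option autoImplicit false
set_option linter.unusedSectionVars false
set_option linter.style.haveILetI false

namespace CfsgLib.RootCommute

open CfsgLib CfsgLib.StrongFusion
open CfsgLib.SL2Pair (fix)

universe u v

variable {P : Type u} [Group P] [Finite P] {U : Type v} [AddCommGroup U] [Finite U] {ρ : P →* AddMonoid.End U}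
  {p : ℕ} [hp : Fact p.Prime] {M : Subgroup P} {n : ℕ}

/-- One side of a frame: a line and its parametrisation. -/
theorem Frame.side (hU : ∀ x : U, p • x = 0) (hp2 : p ≠ 2) {A R : Subgroup P} {z : P} (F : Frame ρ n A R z)
    {K : Type} [Field K] [Fintype K] (hK : Fintype.card K = n) (hn : 1 < n) (π : U →+ (Fin 2 → K))
    (hk : ∀ u, π u = 0 ↔ u ∈ fix ρ (A ⊔ R))
    (hm : ∀ g ∈ A ⊔ R, ∃ L : (Fin 2 → K) →ₗ[K] (Fin 2 → K), ∀ u, π (ρ g u) = L (π u))
    (hs : Function.Surjective π) :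
    ∃ (c : Fin 2 → K) (ex : K →+ U), c ≠ 0 ∧ (∀ x, ex x ∈ img ρ A ∧ π (ex x) = x • c) ∧
      ∀ w ∈ img ρ A, ∃ x, ex x = w := by
  classical
  have hA1 : ∃ a ∈ A, a ≠ 1 := by
    by_contra hno
    push Not at hno
    have h := F.regA.card_grp
    rw [(Subgroup.eq_bot_iff_forall A).2 hno, Subgroup.card_bot] at h
    omega
  obtain ⟨a, ha, ha1⟩ := hA1
  obtain ⟨La, hLa⟩ := hm a (Subgroup.mem_sup_left ha)
  have hinj : ∀ w ∈ img ρ A, π w = 0 → w = 0 := fun w hw h0 =>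
    F.disjoint hU hp2 (img_mono ρ le_sup_left hw) ((hk w).1 h0)
  obtain ⟨w₀, hw₀, hw₀0⟩ : ∃ w ∈ img ρ A, w ≠ 0 := by
    by_contra hno
    push Not at hno
    have h := F.regA.card_img
    rw [(AddSubgroup.eq_bot_iff_forall _).2 hno, AddSubgroup.card_bot] at h
    omega
  set c := π w₀ with hcd
  have hc : c ≠ 0 := fun e => hw₀0 (hinj w₀ hw₀ e)
  -- scalar multiples stay on the same side
  have hex : ∀ x : K, ∃ w ∈ img ρ A, π w = x • c := by
    intro x
    obtain ⟨u, hu⟩ := hs (x • c)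
    have hfix : La c = c := by rw [hcd, ← hLa, F.regA.quad hw₀ a ha]
    have hau : ρ a u - u ∈ fix ρ (A ⊔ R) := (hk _).1 (by
      rw [map_sub, hLa, hu, map_smul, hfix, sub_self])
    have h0 : ρ a u = u :=
      sub_eq_zero.1 (F.disjoint hU hp2 (img_mono ρ le_sup_left (sub_mem_img ρ ha u)) hau)
    obtain ⟨w, hw, hv⟩ := (F.mem_fix_iff hU hp2).1 (F.regA.ker a ha ha1 u h0)
    have h1 := (hk _).2 (F.fix_join hv)
    rw [map_sub, sub_eq_zero, hu] at h1
    exact ⟨w, hw, h1.symm⟩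
  choose ex₀ hex₁ hex₂ using hex
  have hex3 : ∀ {w : U} {x : K}, w ∈ img ρ A → π w = x • c → w = ex₀ x := fun {w x} hw e =>
    sub_eq_zero.1 (hinj _ (sub_mem hw (hex₁ x)) (by rw [map_sub, e, hex₂, sub_self]))
  refine ⟨c, AddMonoidHom.mk' ex₀ (fun x y => (hex3 (add_mem (hex₁ x) (hex₁ y))
    (by rw [map_add, hex₂, hex₂, add_smul])).symm), hc, fun x => ⟨hex₁ x, hex₂ x⟩, fun w hw => ?_⟩
  obtain ⟨x, hx⟩ := ((Nat.bijective_iff_injective_and_card fun x : K => (⟨ex₀ x, hex₁ x⟩ : ↥(img ρ A))).2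
    ⟨fun x y e => smul_left_injective K hc (by
      show x • c = y • c
      rw [← hex₂, ← hex₂, show ex₀ x = ex₀ y from congrArg Subtype.val e]),
    by rw [Nat.card_eq_fintype_card, hK, F.regA.card_img]⟩).2 ⟨w, hw⟩
  exact ⟨x, congrArg Subtype.val hx⟩

/-- Parameters of one side. -/
theorem Frame.param (hρ : Function.Injective ρ) (hU : ∀ x : U, p • x = 0) (hp2 : p ≠ 2) {A R : Subgroup P} {z : P}
    (F : Frame ρ n A R z) {K : Type} [Field K] [Fintype K] (hK : Fintype.card K = n) (π : U →+ (Fin 2 → K))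
    (hm : ∀ g ∈ A ⊔ R, ∃ L : (Fin 2 → K) →ₗ[K] (Fin 2 → K), ∀ u, π (ρ g u) = L (π u))
    {c d : Fin 2 → K} (hc : c ≠ 0) {ex ey : K →+ U}
    (hex : ∀ x, ex x ∈ img ρ A ∧ π (ex x) = x • c) (hexs : ∀ w ∈ img ρ A, ∃ x, ex x = w)
    (hey : ∀ y, ey y ∈ img ρ R ∧ π (ey y) = y • d) (heys : ∀ w ∈ img ρ R, ∃ y, ey y = w) :
    ∃ av : K → P, (∀ t, av t ∈ A) ∧ (∀ a ∈ A, ∃ t, av t = a) ∧
      (∀ t x, ρ (av t) (ex x) = ex x) ∧ ∀ t y, ρ (av t) (ey y) = ey y + ex (t * y) := by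
  classical
  have hexi : Function.Injective ex := fun x y e => smul_left_injective K hc (by
    show x • c = y • c
    rw [← (hex x).2, ← (hex y).2, e])
  have hpar : ∀ a ∈ A, ∃ t, ∀ y, ρ a (ey y) = ey y + ex (t * y) := by
    intro a ha
    obtain ⟨L, hL⟩ := hm a (Subgroup.mem_sup_left ha)
    obtain ⟨t, ht⟩ := hexs _ (sub_mem_img ρ ha (ey 1))
    refine ⟨t, fun y => ?_⟩
    obtain ⟨t', ht'⟩ := hexs _ (sub_mem_img ρ ha (ey y))
    have h1 : L d = d + t • c := by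
      have e := (hex t).2
      rw [ht, map_sub, hL, (hey 1).2, one_smul, sub_eq_iff_eq_add] at e
      rw [e, add_comm]
    have h2 : t' • c = (t * y) • c := by
      rw [← (hex t').2, ht', map_sub, hL, (hey y).2, map_smul, h1, smul_add, smul_smul, mul_comm t y,
        add_sub_cancel_left]
    rw [show ρ a (ey y) = ey y + (ρ a (ey y) - ey y) by abel, ← ht', smul_left_injective K hc h2]
  choose! tA htA using hpar
  have hinjA : ∀ a ∈ A, ∀ b ∈ A, tA a = tA b → a = b := fun a ha b hb e => act_ext ρ hρ fun u => by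
    obtain ⟨x, hx, y, hy, hv⟩ := F.dec u
    obtain ⟨y₀, rfl⟩ := heys y hy
    rw [show u = x + ey y₀ + (u - x - ey y₀) by abel]
    simp only [map_add, F.regA.quad hx a ha, F.regA.quad hx b hb, hv.1 a ha, hv.1 b hb, htA a ha, htA b hb, e]
  have hbij : Function.Bijective fun a : A => tA a :=
    (Nat.bijective_iff_injective_and_card _).2 ⟨fun a b e => Subtype.ext (hinjA a a.2 b b.2 e),
      by rw [F.regA.card_grp, Nat.card_eq_fintype_card, hK]⟩
  set av : K → P := fun t => ((Equiv.ofBijective _ hbij).symm t : A)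
  have havt : ∀ t, tA (av t) = t := fun t => (Equiv.ofBijective _ hbij).apply_symm_apply t
  have hav : ∀ t, av t ∈ A := fun t => ((Equiv.ofBijective _ hbij).symm t).2
  refine ⟨av, hav, fun a ha => ⟨tA a, hinjA _ (hav _) a ha (havt _)⟩, fun t x => F.regA.quad (hex x).1 _ (hav t),
    fun t y => ?_⟩
  rw [htA _ (hav t), havt]

variable {T : Sylow p P} {X : Subgroup P} {mem : Set (Subgroup P)} {opp : Subgroup P → Subgroup P}
  {zed : Subgroup P → P}

/-- **A member and its opposite in coordinates.** -/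
theorem Roots.exists_block (h : Roots ρ T M X n mem opp zed) {A : Subgroup P} (hA : A ∈ mem) {K : Type} [Field K]
    [Fintype K] (hK : Fintype.card K = n) (π : U →+ (Fin 2 → K))
    (hk : ∀ u, π u = 0 ↔ u ∈ fix ρ (A ⊔ opp A))
    (hm : ∀ g ∈ A ⊔ opp A, ∃ L : (Fin 2 → K) →ₗ[K] (Fin 2 → K), ∀ u, π (ρ g u) = L (π u))
    (hs : Function.Surjective π) :
    (p : K) = 0 ∧ ∃ (ex ey : K →+ U) (av rv : K → P),
      ((∀ t, av t ∈ A) ∧ (∀ a ∈ A, ∃ t, av t = a) ∧ (∀ t, rv t ∈ opp A) ∧ (∀ r ∈ opp A, ∃ t, rv t = r)) ∧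
      ((∀ t x, ρ (av t) (ex x) = ex x) ∧ (∀ t y, ρ (av t) (ey y) = ey y + ex (t * y)) ∧
        (∀ t y, ρ (rv t) (ey y) = ey y) ∧ (∀ t x, ρ (rv t) (ex x) = ex x + ey (t * x))) ∧
      ((∀ x, ex x ∈ img ρ A) ∧ (∀ y, ey y ∈ img ρ (opp A)) ∧
        (∀ u, ∃ x y, u - (ex x + ey y) ∈ fix ρ (A ⊔ opp A)) ∧
        ∀ x y, ex x + ey y ∈ fix ρ (A ⊔ opp A) → x = 0 ∧ y = 0) := by
  have hU := h.set_up.smul_zero
  have hp2 := h.set_up.p_odd
  have F := (h.framed A hA).frame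
  have hn : 1 < n := hK ▸ Fintype.one_lt_card
  have hsw : opp A ⊔ A = A ⊔ opp A := sup_comm _ _
  obtain ⟨c, ex, hc, hex, hexs⟩ := F.side hU hp2 hK hn π hk hm hs
  obtain ⟨d, ey, hd, hey, heys⟩ := F.swapped.side hU hp2 hK hn π (fun u => by rw [hsw]; exact hk u)
    (fun g hg => hm g (hsw.le hg)) hs
  obtain ⟨av, hav, havs, hax, hay⟩ := F.param h.set_up.inj hU hp2 hK π hm hc hex hexs hey heys
  obtain ⟨rv, hrv, hrvs, hry, hrx⟩ := F.swapped.param h.set_up.inj hU hp2 hK π (fun g hg => hm g (hsw.le hg)) hd hey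
    heys hex hexs
  refine ⟨?_, ex, ey, av, rv, ⟨hav, havs, hrv, hrvs⟩, ⟨hax, hay, hry, hrx⟩, fun x => (hex x).1, fun y => (hey y).1,
    fun u => ?_, fun x y hxy => ?_⟩
  · have h1 : π (p • ex 1) = 0 := by rw [hU, map_zero]
    rw [map_nsmul, (hex 1).2, one_smul, ← Nat.cast_smul_eq_nsmul K, smul_eq_zero] at h1
    exact h1.resolve_right hc
  · obtain ⟨x, hx, y, hy, hv⟩ := F.dec u
    obtain ⟨x₀, rfl⟩ := hexs x hx
    obtain ⟨y₀, rfl⟩ := heys y hy
    exact ⟨x₀, y₀, by rw [← sub_sub]; exact F.fix_join hv⟩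
  · have h0 : ex x + ey y = 0 := F.disjoint hU hp2
      (add_mem (img_mono ρ le_sup_left (hex x).1) (img_mono ρ le_sup_right (hey y).1)) hxy
    have hy0 : ey y = 0 := F.eq_zero_R hU hp2 (hey y).1 (by
      rw [eq_neg_of_add_eq_zero_right h0]; exact neg_mem (F.regA.quad (hex x).1))
    rw [hy0, add_zero] at h0
    have e1 := (hex x).2
    have e2 := (hey y).2
    rw [h0, map_zero, eq_comm, smul_eq_zero] at e1
    rw [hy0, map_zero, eq_comm, smul_eq_zero] at e2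
    exact ⟨e1.resolve_right hc, e2.resolve_right hd⟩

end CfsgLib.RootCommute
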