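import Cfsg.Agent.Lib.RootCommute.Quadratic

/-!
A subgroup of the join of the members never gains, and one that loses nothing contains whole members.
-/

set_option autoImplicit false
set_option linter.unusedSectionVars false
set_option linter.unusedVariables false
set_option linter.style.haveILetI false

namespace CfsgLib.RootCommute

open CfsgLib CfsgLib.StrongFusion
open CfsgLib.SL2Pair (fix)

universe u v

variable {P : Type u} [Group P] [Finite P] {U : Type v} [AddCommGroup U] [Finite U] {ρ : P →* AddMonoid.End U}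
  {p : ℕ} [hp : Fact p.Prime] {T : Sylow p P} {M X : Subgroup P} {n : ℕ}

variable (ρ) in
/-- The elements fixing each vector of a subgroup. -/
def fixer (W : AddSubgroup U) : Subgroup P where
  carrier := {g | ∀ x ∈ W, ρ g x = x}
  one_mem' := fun x _ => act_one ρ x
  mul_mem' := fun {g h} hg hh x hx => by rw [act_mul, hh x hx, hg x hx]
  inv_mem' := fun {g} hg x hx => inv_fixed ρ (hg x hx)

namespace Roots

variable {mem : Set (Subgroup P)} {opp : Subgroup P → Subgroup P} {zed : Subgroup P → P}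
  (h : Roots ρ T M X n mem opp zed)
include h

/-- The count, with the case of equality. -/
theorem count (Z : Subgroup P) (hZ : Z ≤ X) :
    mu ρ Z ≤ Nat.card U ∧
      (Nat.card U ≤ mu ρ Z → ∀ A ∈ mem, A ≤ Z ∨ img ρ (opp A) ≤ fix ρ Z) := by
  classical
  induction' hk : Nat.card Z using Nat.strong_induction_on with k ih generalizing Z
  have hU := h.set_up.smul_zero
  have hp2 := h.set_up.p_odd
  by_cases hall : ∀ A ∈ mem, img ρ (opp A) ≤ fix ρ Z
  · refine ⟨?_, fun _ A hA => Or.inr (hall A hA)⟩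
    have h1 : fix ρ Z = ⊤ := h.span_eq_top (fix_antitone ρ hZ) hall
    haveI := h.nontriv
    have h2 : Z = ⊥ := (Subgroup.eq_bot_iff_forall Z).2 fun z hz => act_ext ρ h.set_up.inj fun u => by
      rw [act_one]; exact h1.ge (AddSubgroup.mem_top u) z hz
    rw [mu, h1, h2, Subgroup.card_bot, one_mul, AddSubgroup.card_top]
  push Not at hall
  obtain ⟨A, hA, hnle⟩ := hall
  have F := (h.framed A hA).frame
  set R := opp A
  set Z₁ := Z ⊓ fixer ρ (img ρ R) with hZ₁
  have hZ₁Z : Z₁ ≤ Z := inf_le_left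
  obtain ⟨z₀, hz₀, hz₀n⟩ : ∃ z ∈ Z, z ∉ fixer ρ (img ρ R) := by
    by_contra hno
    push Not at hno
    exact hnle fun y hy z hz => hno z hz y hy
  have hlt : Nat.card Z₁ < k := hk ▸ lt_of_le_of_ne (Subgroup.card_le_of_le hZ₁Z) fun e => hz₀n
    (inf_eq_left.1 (Subgroup.eq_of_le_of_card_ge hZ₁Z e.ge) hz₀)
  obtain ⟨ihb, iheq⟩ := ih _ hlt Z₁ (hZ₁Z.trans hZ) rfl
  have hflag := h.mem_flag hZ
  choose f hf hfy using fun z : Z => h.exists_match (hflag z.2) hA
  have hact : ∀ z : Z, ∀ y ∈ img ρ R, ρ (z : P) y = ρ (f z) y := fun z y hy => by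
    have := congrArg (ρ (f z)) (hfy z y hy)
    rwa [act_mul, act_inv'] at this
  -- the quotient by `Z₁` embeds in the member
  have hcardZ : Nat.card Z ≤ Nat.card Z₁ * Nat.card A ∧
      (Nat.card Z₁ * Nat.card A ≤ Nat.card Z → ∀ a ∈ A, ∃ z : Z, f z = a) := by
    let q : (↥Z ⧸ Z₁.subgroupOf Z) → A := fun c => ⟨f c.out, hf c.out⟩
    have hq : Function.Injective q := fun c d e => by
      rw [← c.out_eq, ← d.out_eq]
      refine QuotientGroup.eq.2 ⟨Z.mul_mem (Z.inv_mem c.out.2) d.out.2, fun y hy => ?_⟩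
      show ρ ((c.out : P)⁻¹ * (d.out : P)) y = y
      rw [act_mul, hact d.out y hy, show f d.out = f c.out from (congrArg Subtype.val e).symm, ← hact c.out y hy,
        act_inv]
    have hcZ : Nat.card Z = Nat.card (↥Z ⧸ Z₁.subgroupOf Z) * Nat.card Z₁ := by
      rw [← Nat.card_congr (Subgroup.subgroupOfEquivOfLe hZ₁Z).toEquiv]
      exact Subgroup.card_eq_card_quotient_mul_card_subgroup _
    have hle := Nat.card_le_card_of_injective q hq
    refine ⟨by rw [hcZ, mul_comm]; exact Nat.mul_le_mul_left _ hle, fun hge a ha => ?_⟩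
    rw [hcZ, mul_comm] at hge
    have hbij := (Nat.bijective_iff_injective_and_card q).2
      ⟨hq, le_antisymm hle (Nat.le_of_mul_le_mul_right hge Nat.card_pos)⟩
    obtain ⟨c, hc⟩ := hbij.2 ⟨a, ha⟩
    exact ⟨c.out, congrArg Subtype.val hc⟩
  -- the fixed vectors grow by the component
  have hinf : fix ρ Z ⊓ img ρ R = ⊥ := (AddSubgroup.eq_bot_iff_forall _).2 fun y hy => by
    refine F.eq_zero_R hU hp2 hy.2 (F.regA.ker (f ⟨z₀, hz₀⟩) (hf _) (fun e => hz₀n fun y' hy' => ?_) y ?_)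
    · rw [hact ⟨z₀, hz₀⟩ y' hy', e, act_one]
    · rw [← hact ⟨z₀, hz₀⟩ y hy.2]; exact hy.1 z₀ hz₀
  have hsup : fix ρ Z ⊔ img ρ R ≤ fix ρ Z₁ := sup_le (fix_antitone ρ hZ₁Z) fun y hy z hz => hz.2 y hy
  have hfixZ : Nat.card (fix ρ Z) * n ≤ Nat.card (fix ρ Z₁) := by
    have h1 := card_inf_mul_card_sup (fix ρ Z) (img ρ R)
    rw [hinf, AddSubgroup.card_bot, one_mul, F.regR.card_img] at h1
    rw [← h1]
    exact AddSubgroup.card_le_of_le hsup
  have hmu : mu ρ Z ≤ mu ρ Z₁ :=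
    calc Nat.card Z * Nat.card (fix ρ Z) ≤ Nat.card Z₁ * n * Nat.card (fix ρ Z) :=
          Nat.mul_le_mul_right _ (F.regA.card_grp ▸ hcardZ.1)
      _ = Nat.card Z₁ * (Nat.card (fix ρ Z) * n) := by ring
      _ ≤ _ := Nat.mul_le_mul_left _ hfixZ
  refine ⟨hmu.trans ihb, fun hge B hB => ?_⟩
  have heq₁ := iheq (hge.trans hmu)
  have hfull : Nat.card Z₁ * Nat.card A ≤ Nat.card Z := by
    rw [F.regA.card_grp]
    refine Nat.le_of_mul_le_mul_right ?_ (Nat.card_pos (α := fix ρ Z))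
    calc Nat.card Z₁ * n * Nat.card (fix ρ Z) = Nat.card Z₁ * (Nat.card (fix ρ Z) * n) := by ring
      _ ≤ mu ρ Z₁ := Nat.mul_le_mul_left _ hfixZ
      _ ≤ _ := ihb.trans hge
  -- elements fix the components fixed by `Z₁`
  have hother : ∀ z ∈ Z, ∀ B ∈ mem, B ≠ A → img ρ (opp B) ≤ fix ρ Z₁ → ∀ y ∈ img ρ (opp B), ρ z y = y := by
    intro z hz B hB hBA hle y hy
    have hsupeq : fix ρ Z ⊔ img ρ R = fix ρ Z₁ := by
      refine AddSubgroup.eq_of_le_of_card_ge hsup (Nat.le_of_mul_le_mul_left ?_ (Nat.card_pos (α := Z₁)))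
      have h1 := card_inf_mul_card_sup (fix ρ Z) (img ρ R)
      rw [hinf, AddSubgroup.card_bot, one_mul, F.regR.card_img] at h1
      rw [h1]
      calc mu ρ Z₁ ≤ Nat.card U := ihb
        _ ≤ mu ρ Z := hge
        _ ≤ Nat.card Z₁ * n * Nat.card (fix ρ Z) := Nat.mul_le_mul_right _ (F.regA.card_grp ▸ hcardZ.1)
        _ = _ := by ring
    obtain ⟨v, hv, yA, hyA, rfl⟩ := AddSubgroup.mem_sup.1 (hsupeq.ge (hle hy))
    obtain ⟨b, hb, hby⟩ := h.exists_match (hflag hz) hB
    have h2 : ρ z (v + yA) = ρ b (v + yA) := by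
      have := congrArg (ρ b) (hby _ hy)
      rwa [act_mul, act_inv'] at this
    have h3 : ρ z (v + yA) - (v + yA) = ρ (f ⟨z, hz⟩) yA - yA := by
      rw [map_add, hv z hz, hact ⟨z, hz⟩ yA hyA]; abel
    have h4 : ρ z (v + yA) - (v + yA) ∈ img ρ B := by rw [h2]; exact sub_mem_img ρ hb _
    have h5 : ρ z (v + yA) - (v + yA) ∈ img ρ A := by rw [h3]; exact sub_mem_img ρ (hf _) _
    exact sub_eq_zero.1 (F.eq_zero_A hU hp2 h5 ((h.cases hA hB hBA).1 h4).2)
  by_cases hBA : B = A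
  · subst hBA
    left
    intro a ha
    obtain ⟨z, hz⟩ := hcardZ.2 hfull a ha
    have hg : a⁻¹ * (z : P) ∈ Z₁ := by
      refine h.mem_of_rest (mul_mem (inv_mem (h.mem_flag (h.le_X hA) ha)) (hflag z.2)) fun C hC => ?_
      rcases heq₁ C hC with hle | hle
      · exact Or.inl hle
      refine Or.inr fun y hy => ?_
      by_cases hCA : C = B
      · subst hCA; rw [← hz]; exact hfy z y hy
      · rw [act_mul, hother z z.2 C hC hCA hle y hy]
        exact inv_fixed ρ ((h.cases hC hA (Ne.symm hCA)).2 hy a ha)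
    have := Z.mul_mem z.2 (Z.inv_mem (hZ₁Z hg))
    simpa using this
  · rcases heq₁ B hB with hle | hle
    · exact Or.inl (hle.trans hZ₁Z)
    · exact Or.inr fun y hy z hz => hother z hz B hB hBA hle y hy

/-- No elementary abelian subgroup of `T` gains. -/
theorem bound {E : Subgroup P} (hET : E ≤ (T : Subgroup P)) (hcomm : ∀ a ∈ E, ∀ b ∈ E, a * b = b * a)
    (hpow : ∀ a ∈ E, a ^ p = 1) : mu ρ E ≤ Nat.card U := by
  obtain ⟨E₁, hE₁, hmax⟩ := Set.exists_max_image {E₁ : Subgroup P | E₁ ≤ E} (fun E₁ => mu ρ E₁) (Set.toFinite _)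
    ⟨E, Set.mem_setOf.2 le_rfl⟩
  refine (hmax E (Set.mem_setOf.2 le_rfl)).trans (h.count E₁ (h.le_of_best (hE₁.trans hET)
    (fun a ha b hb => hcomm a (hE₁ ha) b (hE₁ hb)) (fun a ha => hpow a (hE₁ ha))
    fun E₂ h₂ => hmax E₂ (h₂.trans hE₁))).1

/-- An offender in `T` lies in `X`. -/
theorem le_of_offender {E : Subgroup P} (hET : E ≤ (T : Subgroup P)) (hE : IsOffender ρ p E) : E ≤ X :=
  h.le_of_best hET hE.comm hE.pow fun E₁ h₁ => (h.bound (h₁.trans hET) (fun a ha b hb => hE.comm a (h₁ ha) b (h₁ hb))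
    fun a ha => hE.pow a (h₁ ha)).trans hE.big

/-- An offender in `X` contains a member. -/
theorem exists_mem_le {E : Subgroup P} (hEX : E ≤ X) (hE : IsOffender ρ p E) : ∃ A ∈ mem, A ≤ E := by
  by_contra hno
  push Not at hno
  have hall : ∀ A ∈ mem, img ρ (opp A) ≤ fix ρ E := fun A hA =>
    ((h.count E hEX).2 hE.big A hA).resolve_left (hno A hA)
  have h1 : fix ρ E = ⊤ := h.span_eq_top (fix_antitone ρ hEX) hall
  exact hE.ne_bot ((Subgroup.eq_bot_iff_forall E).2 fun z hz => act_ext ρ h.set_up.inj fun u => by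
    rw [act_one]; exact h1.ge (AddSubgroup.mem_top u) z hz)

end Roots

end CfsgLib.RootCommute
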