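import Cfsg.Agent.Lib.RootCommute.Interface
import Cfsg.Agent.Lib.RootCommute.Count
import Cfsg.Agent.Lib.SL2Orders

/-!
The root product and its components.
-/

set_option autoImplicit false
set_option linter.unusedSectionVars false
set_option linter.unusedVariables false
set_option linter.style.haveILetI false

namespace CfsgLib.RootCommute

open CfsgLib CfsgLib.StrongFusion
open CfsgLib.SL2Pair (fix)

universe u v

variable {P : Type u} [Group P] [Finite P] {U : Type v} [AddCommGroup U] [Finite U] {ρ : P →* AddMonoid.End U}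
  {p : ℕ} [hp : Fact p.Prime] {T : Sylow p P} {M X : Subgroup P} {n : ℕ}

namespace Roots

variable {mem : Set (Subgroup P)} {opp : Subgroup P → Subgroup P} {zed : Subgroup P → P}
  (h : Roots ρ T M X n mem opp zed)
include h

theorem two_ne_zero' {F : Type} [Field F] [Fintype F] {j : ℕ} (hj : Fintype.card F = p ^ j) : (2 : F) ≠ 0 := by
  intro h0
  obtain ⟨q, hq⟩ := CharP.exists F
  obtain ⟨i, hqp, hi⟩ := FiniteField.card F q
  haveI := hq
  have h2 : q ∣ 2 := (CharP.cast_eq_zero_iff F q 2).1 (by exact_mod_cast h0)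
  have hq2 : q = 2 := ((Nat.prime_dvd_prime_iff_eq hqp Nat.prime_two).1 h2)
  rw [hi, hq2] at hj
  have : (2 : ℕ) ∣ p ^ j := hj ▸ dvd_pow_self 2 i.ne_zero
  exact h.set_up.p_odd ((Nat.prime_dvd_prime_iff_eq Nat.prime_two hp.out).1 (Nat.prime_two.dvd_of_dvd_pow this)).symm

/-- The component of one member. -/
theorem exists_component {A : Subgroup P} (hA : A ∈ mem) :
    ∃ (L : Subgroup P) (F : Type) (_ : Field F) (_ : Fintype F)
      (φ : L →* Matrix.SpecialLinearGroup (Fin 2) F),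
      Component ρ T M X L F φ ∧ A ≤ L ∧ (A.subgroupOf L).map φ = (X.subgroupOf L).map φ := by
  classical
  have hU := h.set_up.smul_zero
  have hp2 := h.set_up.p_odd
  have hF := h.framed A hA
  have F := hF.frame
  set R := opp A
  set Γ := A ⊔ R with hΓ
  set z := zed A
  set Y := sSup {B | B ∈ mem ∧ B ≠ A} with hY
  have hYX : Y ≤ X := sSup_le fun B hB => h.le_X hB.1
  have hXY : X = A ⊔ Y := by
    refine le_antisymm (h.sup_eq.le.trans (sSup_le fun B hB => ?_)) (sup_le (h.le_X hA) hYX)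
    by_cases hBA : B = A
    · exact hBA ▸ le_sup_left
    · exact (le_sSup (show B ∈ {B | B ∈ mem ∧ B ≠ A} from ⟨hB, hBA⟩)).trans le_sup_right
  -- the other members see nothing of the component
  have hYfixR : ∀ y ∈ img ρ R, ∀ s ∈ Y, ρ s y = y := fun y hy s hs => by
    have h2 : Y ≤ pointStab ρ y := sSup_le fun B hB b hb => (h.cases hA hB.1 hB.2).2 hy b hb
    exact h2 hs
  have hYfixA : ∀ x ∈ img ρ A, ∀ s ∈ Y, ρ s x = x := fun x hx s hs => h.img_mem_le_fix hA hx s (hYX hs)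
  have hYc : ∀ s ∈ Y, ∀ g ∈ Γ, s * g = g * s := by
    have h1 : Γ ≤ Subgroup.centralizer (Y : Set P) := sup_le
      (fun a ha => Subgroup.mem_centralizer_iff.2 fun s hs => h.comm s (hYX hs) a (h.le_X hA ha))
      fun r hr => Subgroup.mem_centralizer_iff.2 fun s hs => by
        have h2 : Y ≤ Subgroup.centralizer ({r} : Set P) := sSup_le fun B hB b hb =>
          Subgroup.mem_centralizer_singleton_iff.2 (commute_of_separate h.set_up.inj (h.reg hB.1) F.regR
            ((h.cases hA hB.1 hB.2).1.trans inf_le_right) (h.cases hA hB.1 hB.2).2 hb hr)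
        exact Subgroup.mem_centralizer_singleton_iff.1 (h2 hs)
    exact fun s hs g hg => Subgroup.mem_centralizer_iff.1 (h1 hg) s hs
  have hΓfix : ∀ v ∈ fix ρ A ⊓ fix ρ R, ∀ g ∈ Γ, ρ g v = v := fun v hv g hg =>
    (sup_le (fun a ha => hv.1 a ha) (fun r hr => hv.2 r hr) : Γ ≤ pointStab ρ v) hg
  have hYΓ : ∀ s ∈ Y, s ∈ Γ → s = 1 := fun s hs hsΓ => act_ext ρ h.set_up.inj fun u => by
    obtain ⟨x, hx, y, hy, hv⟩ := F.dec u
    rw [act_one, show u = x + y + (u - x - y) by abel, map_add, map_add, hYfixA x hx s hs, hYfixR y hy s hs,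
      hΓfix _ hv s hsΓ]
  -- the field and the isomorphism
  obtain ⟨K, iK, iK', hK, ⟨eK⟩⟩ := hF.natural
  obtain ⟨j, hj⟩ := IsPGroup.iff_card.1 (T.2.to_le ((h.le_X hA).trans h.le) : IsPGroup p A)
  rw [F.regA.card_grp, ← hK] at hj
  have hj1 : 1 ≤ j := by
    by_contra hj0
    rw [Nat.lt_one_iff.1 (not_le.1 hj0), pow_zero, hK] at hj
    exact h.mem_ne_bot hA (Subgroup.eq_bot_of_card_eq A (F.regA.card_grp.trans hj))
  have h2K : (2 : K) ≠ 0 := h.two_ne_zero' hj
  have hzz : z * z = 1 := act_ext ρ h.set_up.inj fun u => by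
    obtain ⟨x, hx, y, hy, hv⟩ := F.dec u
    rw [act_mul, act_one, show u = x + y + (u - x - y) by abel]
    simp only [map_add, map_neg, F.negA x hx, F.negR y hy, F.pos hv, neg_neg]
  have hz1 : z ≠ 1 := fun e => by
    obtain ⟨x, hx, hx0⟩ := h.img_ne_bot hA
    have h1 := F.negA x hx
    rw [e, act_one] at h1
    exact hx0 (eq_zero_of_add_self hU hp2 (eq_neg_iff_add_eq_zero.1 h1))
  have heKz : eK ⟨z, F.z_mem⟩ = -1 := by
    refine (SL2Orders.eq_one_or_neg_one_of_sq h2K _ ?_).resolve_left fun e => hz1 ?_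
    · rw [← map_mul, show (⟨z, F.z_mem⟩ : ↥Γ) * ⟨z, F.z_mem⟩ = 1 from Subtype.ext hzz, map_one]
    · exact congrArg Subtype.val (eK.injective (e.trans (map_one eK).symm))
  have hzc : ∀ g ∈ Γ, g * z = z * g := fun g hg => congrArg Subtype.val
    (eK.injective (show eK (⟨g, hg⟩ * ⟨z, F.z_mem⟩) = eK (⟨z, F.z_mem⟩ * ⟨g, hg⟩) by
      rw [map_mul, map_mul, heKz]; exact Subtype.ext (by simp)))
  -- the projection
  have hcomm' : ∀ (a : ↥Y) (b : ↥Γ), Commute (Y.subtype a) (Γ.subtype b) := fun a b => hYc a a.2 b b.2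
  let f : ↥Y × ↥Γ →* P := MonoidHom.noncommCoprod Y.subtype Γ.subtype hcomm'
  have hf : Function.Injective f := (injective_iff_map_eq_one f).2 fun ⟨s, g⟩ e => by
    have e' : (s : P) * g = 1 := e
    have hs1 : (s : P) = 1 := hYΓ s s.2 (by rw [eq_inv_of_mul_eq_one_left e']; exact Γ.inv_mem g.2)
    rw [hs1, one_mul] at e'
    exact Prod.ext (Subtype.ext hs1) (Subtype.ext e')
  set L := Y ⊔ Γ with hL
  have hfr : f.range = L := by
    show (MonoidHom.noncommCoprod Y.subtype Γ.subtype hcomm').range = L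
    rw [MonoidHom.noncommCoprod_range, Subgroup.range_subtype, Subgroup.range_subtype]
  let eL : ↥Y × ↥Γ ≃* ↥L := (MonoidHom.ofInjective hf).trans (MulEquiv.subgroupCongr hfr)
  let φ : ↥L →* Matrix.SpecialLinearGroup (Fin 2) K :=
    eK.toMonoidHom.comp ((MonoidHom.snd ↥Y ↥Γ).comp eL.symm.toMonoidHom)
  have hsplit : ∀ l : ↥L, ∃ s ∈ Y, ∃ g : ↥Γ, (l : P) = s * g ∧ φ l = eK g := fun l =>
    ⟨(eL.symm l).1, (eL.symm l).1.2, (eL.symm l).2, congrArg Subtype.val (eL.apply_symm_apply l).symm, rfl⟩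
  have hφ : ∀ (l : ↥L) (s : P) (hs : s ∈ Y) (g : ↥Γ), (l : P) = s * g → φ l = eK g := by
    intro l s hs g e
    show eK (eL.symm l).2 = eK g
    rw [show l = eL (⟨s, hs⟩, g) from Subtype.ext e, eL.symm_apply_apply]
  have hXL : X ≤ L := hXY.le.trans (sup_le (le_sup_left.trans le_sup_right) le_sup_left)
  have hAL : A ≤ L := (h.le_X hA).trans hXL
  have himage : (A.subgroupOf L).map φ = (X.subgroupOf L).map φ := by
    refine le_antisymm (Subgroup.map_mono fun l hl => h.le_X hA hl) ?_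
    rintro _ ⟨l, hl, rfl⟩
    have hlX : (l : P) ∈ A ⊔ Y := hXY.le hl
    have hAY : A ⊔ Y ≤ (A.subgroupOf L ⊔ Y.subgroupOf L).map L.subtype := by
      rw [Subgroup.map_sup, Subgroup.subgroupOf_map_subtype, Subgroup.subgroupOf_map_subtype,
        inf_eq_left.2 hAL, inf_eq_left.2 (le_sup_left : Y ≤ L)]
    obtain ⟨l', hl', e⟩ := hAY hlX
    rw [← Subtype.ext (show (l' : P) = l from e)]
    have h3 : (A.subgroupOf L ⊔ Y.subgroupOf L).map φ ≤ (A.subgroupOf L).map φ := by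
      rw [Subgroup.map_sup]
      refine sup_le le_rfl ?_
      rintro _ ⟨m, hm, rfl⟩
      rw [hφ m m hm 1 (by simp), map_one]
      exact one_mem _
    exact h3 ⟨l', hl', rfl⟩
  have hcard : Nat.card ((X.subgroupOf L).map φ) = Fintype.card K := by
    rw [← himage, hK, ← F.regA.card_grp]
    have hinj : Function.Injective (fun a : A.subgroupOf L => φ (a : ↥L)) := fun a b e => by
      have ha : φ (a : ↥L) = eK ⟨((a : ↥L) : P), Subgroup.mem_sup_left a.2⟩ := hφ _ 1 Y.one_mem _ (by simp)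
      have hb : φ (b : ↥L) = eK ⟨((b : ↥L) : P), Subgroup.mem_sup_left b.2⟩ := hφ _ 1 Y.one_mem _ (by simp)
      have e' : φ (a : ↥L) = φ (b : ↥L) := e
      rw [ha, hb] at e'
      exact Subtype.ext (Subtype.ext (congrArg (fun g : ↥Γ => (g : P)) (eK.injective e') :))
    rw [← Nat.card_congr (Subgroup.subgroupOfEquivOfLe hAL).toEquiv]
    exact (Nat.card_congr (Equiv.ofBijective
      (fun a : A.subgroupOf L => (⟨φ (a : ↥L), _, a.2, rfl⟩ : ↥((A.subgroupOf L).map φ)))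
      ⟨fun a b e => hinj (congrArg Subtype.val e), fun c => by
        obtain ⟨l, hl, e⟩ := c.2
        exact ⟨⟨l, hl⟩, Subtype.ext e⟩⟩)).symm
  have hzL : ∀ l : ↥L, φ l = -1 → l ^ 2 = 1 → (l : P) = z := by
    intro l e hl2
    obtain ⟨s, hs, g, el, eφ⟩ := hsplit l
    have hg : g = ⟨z, F.z_mem⟩ := eK.injective (by rw [← eφ, e, heKz])
    have h1 : (l : P) * l = 1 := by
      have := congrArg Subtype.val hl2
      rwa [sq] at this
    rw [el, hg] at h1 ⊢
    have h2 : s * s = 1 := by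
      rwa [show s * z * (s * z) = (s * s) * (z * z) by
        rw [mul_assoc, ← mul_assoc z, ← hYc s hs z F.z_mem, mul_assoc s z z, ← mul_assoc], hzz, mul_one] at h1
    obtain ⟨i, hi⟩ := IsPGroup.iff_orderOf.1 (T.2.to_le (hYX.trans h.le) : IsPGroup p Y) ⟨s, hs⟩
    have h3 : orderOf (⟨s, hs⟩ : ↥Y) ∣ Nat.gcd 2 (p ^ i) :=
      Nat.dvd_gcd (orderOf_dvd_of_pow_eq_one (Subtype.ext (by rw [SubmonoidClass.coe_pow, sq]; exact h2))) hi.dvd
    rw [((Nat.coprime_primes Nat.prime_two hp.out).2 (Ne.symm hp2)).pow_right i] at h3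
    rw [show s = 1 from congrArg Subtype.val (orderOf_eq_one_iff.1 (Nat.dvd_one.1 h3)), one_mul]
  have hneg : ∀ v : U, ρ z v = -v → ∃ x ∈ img ρ A, ∃ y ∈ img ρ R, v = x + y := by
    intro v hv
    obtain ⟨x, hx, y, hy, hv'⟩ := F.dec v
    refine ⟨x, hx, y, hy, ?_⟩
    set v₀ := v - x - y with hv₀
    have e : ρ z v = -x + -y + v₀ := by
      conv_lhs => rw [show v = x + y + v₀ by rw [hv₀]; abel, map_add, map_add, F.negA x hx, F.negR y hy, F.pos hv']
    have h0 : v₀ + v₀ = 0 := by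
      calc v₀ + v₀ = (-x + -y + v₀) + v := by rw [hv₀]; abel
        _ = 0 := by rw [← e, hv, neg_add_cancel]
    have := eq_zero_of_add_self hU hp2 h0
    rw [hv₀, sub_sub, sub_eq_zero] at this
    exact this
  refine ⟨L, K, iK, iK', φ, ⟨hXL, fun hle => hF.not_le ((le_sup_right.trans le_sup_right).trans hle),
    fun x hx hxM => ?_, ⟨j, hj1, hj⟩, fun c => ?_, fun d => ?_, hcard, fun l e hl2 v w hv hw hv0 hw0 => ?_,
    fun l e hl2 d hd hdl v hv => ?_, fun l e hl2 g hgl hgp v hv => ?_⟩, hAL, himage⟩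
  · -- generation
    obtain ⟨s, hs, g, el, -⟩ := hsplit ⟨x, hx⟩
    have el' : x = s * (g : P) := el
    have hgM : (g : P) ∉ M := fun hg => hxM (el' ▸ M.mul_mem (h.set_up.le_M (h.le (hYX hs))) hg)
    refine le_antisymm (sup_le hXL (Local.map_conj_le fun a ha =>
      L.mul_mem (L.mul_mem hx (hXL ha)) (L.inv_mem hx))) (sup_le (hYX.trans le_sup_left) ?_)
    rw [hΓ, ← hF.gen g g.2 hgM]
    refine sup_le ((h.le_X hA).trans le_sup_left) ?_
    rintro _ ⟨a, ha, rfl⟩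
    show (g : P) * a * (g : P)⁻¹ ∈ X ⊔ cm x X
    have h1 : x * a * x⁻¹ ∈ X ⊔ cm x X := Subgroup.mem_sup_right ⟨a, h.le_X hA ha, rfl⟩
    have h2 := mul_mem (mul_mem (inv_mem (Subgroup.mem_sup_left (hYX hs) : s ∈ X ⊔ cm x X)) h1)
      (Subgroup.mem_sup_left (hYX hs) : s ∈ X ⊔ cm x X)
    rwa [show x * a * x⁻¹ = s * (g : P) * a * (s * (g : P))⁻¹ by rw [el'],
      show s⁻¹ * (s * (g : P) * a * (s * (g : P))⁻¹) * s = (g : P) * a * (g : P)⁻¹ by group] at h2
  · exact ⟨eL (1, eK.symm c), by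
      show eK (eL.symm (eL (1, eK.symm c))).2 = c
      rw [eL.symm_apply_apply, eK.apply_symm_apply]⟩
  · obtain ⟨s, hs, g, el, eφ⟩ := hsplit d
    obtain ⟨i, hi⟩ := (T.2.to_le (hYX.trans h.le) : IsPGroup p Y) ⟨s, hs⟩
    have hg1 : g = 1 := eK.injective (by rw [← eφ, MonoidHom.mem_ker.1 d.2, map_one])
    refine ⟨i, Subtype.ext (Subtype.ext ?_)⟩
    rw [SubmonoidClass.coe_pow, SubmonoidClass.coe_pow, el, hg1, OneMemClass.coe_one, mul_one]
    exact congrArg Subtype.val hi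
  · -- transitivity
    rw [hzL l e hl2] at hv hw
    obtain ⟨c, hc, hc0⟩ := h.img_ne_bot hA
    have hmove : ∀ v : U, ρ z v = -v → v ≠ 0 → ∃ g ∈ Γ, ρ g c = v := by
      intro v hv hv0
      obtain ⟨x, hx, y, hy, rfl⟩ := hneg v hv
      have hcR : c ∉ fix ρ R := fun e => hc0 (F.eq_zero_A hU hp2 hc e)
      have hgen : ∀ x ∈ img ρ A, ∀ y ∈ img ρ R, y ≠ 0 → ∃ g ∈ Γ, ρ g c = x + y := by
        intro x hx y hy hy0
        obtain ⟨r, hr, hry⟩ := F.regR.exists_elt hcR hy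
        have hrc : ρ r c ∉ fix ρ A := fun e => hy0 (F.eq_zero_R hU hp2 hy (by
          rw [← hry]; exact sub_mem e (F.regA.quad hc)))
        obtain ⟨a, ha, hax⟩ := F.regA.exists_elt hrc (sub_mem hx hc)
        exact ⟨a * r, Γ.mul_mem (Subgroup.mem_sup_left ha) (Subgroup.mem_sup_right hr),
          by rw [act_mul, sub_eq_iff_eq_add.1 hax, sub_eq_iff_eq_add.1 hry]; abel⟩
      by_cases hy0 : y = 0
      · subst hy0
        rw [add_zero] at hv0 ⊢
        obtain ⟨r₁, hr₁, hr₁c⟩ : ∃ r ∈ R, ρ r c ≠ c := by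
          by_contra hno; push Not at hno; exact hcR hno
        set y₁ := ρ r₁ c - c with hy₁
        have hy₁R : y₁ ∈ img ρ R := sub_mem_img ρ hr₁ c
        obtain ⟨g, hg, hgc⟩ := hgen x hx y₁ hy₁R (sub_ne_zero.2 hr₁c)
        obtain ⟨r', hr', hr'x⟩ := F.regR.exists_elt (fun e => hv0 (F.eq_zero_A hU hp2 hx e)) (neg_mem hy₁R)
        refine ⟨r' * g, Γ.mul_mem (Subgroup.mem_sup_right hr') hg, ?_⟩
        rw [act_mul, hgc, map_add, sub_eq_iff_eq_add.1 hr'x, F.regR.quad hy₁R r' hr']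
        abel
      · exact hgen x hx y hy hy0
    obtain ⟨g₁, hg₁, hg₁c⟩ := hmove v hv hv0
    obtain ⟨g₂, hg₂, hg₂c⟩ := hmove w hw hw0
    have hg : g₂ * g₁⁻¹ ∈ Γ := Γ.mul_mem hg₂ (Γ.inv_mem hg₁)
    refine ⟨⟨g₂ * g₁⁻¹, (le_sup_right : Γ ≤ L) hg⟩, Subtype.ext ?_, ?_⟩
    · show g₂ * g₁⁻¹ * (l : P) = (l : P) * (g₂ * g₁⁻¹)
      rw [hzL l e hl2]; exact hzc _ hg
    · show ρ (g₂ * g₁⁻¹) v = w
      rw [act_mul, ← hg₁c, act_inv, hg₂c]
  · rw [hzL l e hl2] at hv
    obtain ⟨s, hs, g, el, eφ⟩ := hsplit d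
    have hg1 : g = 1 := eK.injective (by rw [← eφ, hd, map_one])
    obtain ⟨x, hx, y, hy, rfl⟩ := hneg v hv
    rw [el, hg1, OneMemClass.coe_one, mul_one, map_add, hYfixA x hx s hs, hYfixR y hy s hs]
  · rw [hzL l e hl2] at hv
    obtain ⟨x, hx, y, hy, hv'⟩ := F.dec v
    have hvV : v ∈ fix ρ A ⊓ fix ρ R := by
      set v₀ := v - x - y with hv₀
      have e1 : ρ z v = -x + -y + v₀ := by
        conv_lhs => rw [show v = x + y + v₀ by rw [hv₀]; abel, map_add, map_add, F.negA x hx, F.negR y hy, F.pos hv']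
      have h0 : (x + y) + (x + y) = 0 := by
        calc (x + y) + (x + y) = v - (-x + -y + v₀) := by rw [hv₀]; abel
          _ = 0 := by rw [← e1, hv, sub_self]
      have h1 := eq_zero_of_add_self hU hp2 h0
      rwa [hv₀, sub_sub, h1, sub_zero] at hv'
    obtain ⟨s, hs, g', el, -⟩ := hsplit g
    obtain ⟨i, hi⟩ := (T.2.to_le (hYX.trans h.le) : IsPGroup p Y) ⟨s, hs⟩
    have hpow : ρ ((g : P) ^ (p ^ i)) v = v := by
      have hc : Commute s (g' : P) := hYc s hs g' g'.2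
      rw [el, hc.mul_pow, show s ^ (p ^ i) = 1 from congrArg Subtype.val hi, one_mul]
      exact hΓfix v hvV _ (Γ.pow_mem g'.2 _)
    have hgo : Nat.Coprime (orderOf (g : P)) (p ^ i) := by
      rw [Subgroup.orderOf_coe]
      exact ((hp.out.coprime_iff_not_dvd.2 hgp).symm).pow_right i
    obtain ⟨m, hm⟩ := exists_pow_eq_self_of_coprime hgo.symm
    exact hm ▸ (Subgroup.pow_mem (pointStab ρ v) hpow m : ((g : P) ^ (p ^ i)) ^ m ∈ pointStab ρ v)

end Roots

/-- **The root product.** -/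
theorem exists_rootProduct (hs : Setting ρ T M) (hoff : ∃ E, IsOffender ρ p E) :
    ∃ X, RootProduct ρ T M X := by
  classical
  obtain ⟨X, n, mem, opp, zed, h⟩ := exists_roots hs hoff
  refine ⟨X, ⟨h.le, h.ne_bot, h.comm, h.closed, h.quad, fun t ht hf => h.mem_of_fixes ht hf,
    fun E hE hc hpw => h.bound hE hc hpw, fun E hE hoff => h.le_of_offender hE hoff, fun E hEX hoff => ?_⟩⟩
  obtain ⟨A, hA, hAE⟩ := h.exists_mem_le hEX hoff
  obtain ⟨L, F, iF, iF', φ, hC, hAL, himg⟩ := h.exists_component hA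
  exact ⟨L, F, iF, iF', φ, hC, le_antisymm (Subgroup.map_mono fun l hl => hEX hl)
    (himg.ge.trans (Subgroup.map_mono fun l hl => hAE hl))⟩

end CfsgLib.RootCommute
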