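import Cfsg.Agent.Lib.RootCommute.Main
import Mathlib.LinearAlgebra.Matrix.SpecialLinearGroup

/-!
What an irreducible module with an offender gives for odd `p`: the root product `X` and its rank-one
components. (Definitions only.)
-/

set_option autoImplicit false
set_option linter.unusedSectionVars false

namespace CfsgLib.RootCommute

open CfsgLib CfsgLib.StrongFusion
open CfsgLib.SL2Pair (fix)

universe u v

variable {P : Type u} [Group P] [Finite P] {U : Type v} [AddCommGroup U] [Finite U]
  {p : ℕ} [hp : Fact p.Prime]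

/-- One component over `X`: a subgroup `L` not in `M` mapping onto `SL₂(F)` with `p`-group kernel. -/
structure Component (ρ : P →* AddMonoid.End U) (T : Sylow p P) (M X : Subgroup P) (L : Subgroup P)
    (F : Type) [Field F] [Fintype F] (φ : L →* Matrix.SpecialLinearGroup (Fin 2) F) : Prop where
  le : X ≤ L
  not_le : ¬ L ≤ M
  gen : ∀ x ∈ L, x ∉ M → X ⊔ cm x X = L
  card : ∃ n : ℕ, 1 ≤ n ∧ Fintype.card F = p ^ n
  surj : Function.Surjective φ
  ker : IsPGroup p φ.ker
  /-- The image of `X` is a Sylow subgroup. -/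
  card_image : Nat.card ((X.subgroupOf L).map φ) = Fintype.card F
  /-- Nonzero vectors inverted by a lift of `-1` are permuted transitively by its centralizer. -/
  trans : ∀ z : L, φ z = -1 → z ^ 2 = 1 → ∀ v w : U, ρ z v = -v → ρ z w = -w → v ≠ 0 → w ≠ 0 →
    ∃ g : L, g * z = z * g ∧ ρ g v = w
  /-- The kernel is trivial on the vectors inverted by `z`. -/
  ker_neg : ∀ z : L, φ z = -1 → z ^ 2 = 1 → ∀ d : L, φ d = 1 → d * z = z * d →
    ∀ v : U, ρ z v = -v → ρ d v = v
  /-- Elements of order prime to `p` commuting with `z` fix the vectors fixed by `z`. -/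
  fix_pos : ∀ z : L, φ z = -1 → z ^ 2 = 1 → ∀ g : L, g * z = z * g → ¬ p ∣ orderOf g →
    ∀ v : U, ρ z v = v → ρ g v = v

/-- The root product of an irreducible module with an offender. -/
structure RootProduct (ρ : P →* AddMonoid.End U) (T : Sylow p P) (M X : Subgroup P) : Prop where
  le : X ≤ (T : Subgroup P)
  ne_bot : X ≠ ⊥
  comm : ∀ a ∈ X, ∀ b ∈ X, a * b = b * a
  closed : ∀ g, cm g X ≤ (T : Subgroup P) → cm g X = X
  quad : img ρ X ≤ fix ρ X
  /-- An element of the Sylow subgroup fixing `fix X` lies in `X`. -/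
  mem_of_fixes : ∀ t ∈ (T : Subgroup P), (∀ v ∈ fix ρ X, ρ t v = v) → t ∈ X
  /-- No elementary abelian subgroup of `T` gains. -/
  bound : ∀ E : Subgroup P, E ≤ (T : Subgroup P) → (∀ a ∈ E, ∀ b ∈ E, a * b = b * a) →
    (∀ a ∈ E, a ^ p = 1) → mu ρ E ≤ Nat.card U
  /-- Every offender in `T` lies in `X`. -/
  mem_of_offender : ∀ E : Subgroup P, E ≤ (T : Subgroup P) → IsOffender ρ p E → E ≤ X
  /-- Every offender in `X` covers the root group of some component. -/
  exists_component : ∀ E : Subgroup P, E ≤ X → IsOffender ρ p E →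
    ∃ (L : Subgroup P) (F : Type) (_ : Field F) (_ : Fintype F)
      (φ : L →* Matrix.SpecialLinearGroup (Fin 2) F),
      Component ρ T M X L F φ ∧ (E.subgroupOf L).map φ = (X.subgroupOf L).map φ

end CfsgLib.RootCommute
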