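import Cfsg.Agent.Lib.RootCommute.Natural

/-!
An elementary abelian group that loses nothing against its subgroups, moving an invariant subgroup, has
an element moving that subgroup quadratically.
-/

set_option autoImplicit false
set_option linter.unusedSectionVars false
set_option linter.style.haveILetI false
set_option linter.unusedVariables false

namespace CfsgLib.RootCommute

open CfsgLib
open CfsgLib.SL2Pair (fix)

universe u v

variable {P : Type u} [Group P] [Finite P] {U : Type v} [AddCommGroup U] [Finite U] {ρ : P →* AddMonoid.End U}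
  {p : ℕ} [hp : Fact p.Prime]

/-- The fixed points of one element, with an offender of least order above it, are quadratic. -/
theorem quad_of_minimal {Γ : Type*} [Group Γ] [Finite Γ] {W : Type*} [AddCommGroup W] [Finite W]
    (σ : Γ →* AddMonoid.End W) (hW : ∀ x : W, p • x = 0) (hcomm : ∀ a b : Γ, a * b = b * a)
    (hpow : ∀ a : Γ, a ^ p = 1) {B : Subgroup Γ} (hbig : Nat.card W ≤ mu σ B)
    (hmin : ∀ B₁ ≤ B, B₁ ≠ ⊥ → B₁ ≠ B → mu σ B₁ < mu σ B) {a : Γ} (ha : a ∈ B) (x : W) :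
    σ a (σ a x - x) = σ a x - x := by
  haveI : Finite (Model σ) := Finite.of_equiv _ SemidirectProduct.equivProd.symm
  set V := vecs σ with hV
  set B' := B.map (grp σ) with hB'
  have hVc : ∀ v ∈ V, ∀ w ∈ V, v * w = w * v := by
    intro v hv w hw
    obtain ⟨x, rfl⟩ := (mem_vecs σ).1 hv
    obtain ⟨y, rfl⟩ := (mem_vecs σ).1 hw
    rw [← vec_add, ← vec_add, add_comm]
  have hVp : IsPGroup p V := fun ⟨v, hv⟩ => ⟨1, by
    obtain ⟨x, rfl⟩ := (mem_vecs σ).1 hv
    refine Subtype.ext ?_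
    show (SemidirectProduct.inl (Multiplicative.ofAdd x) : Model σ) ^ p ^ 1 = 1
    rw [pow_one, ← map_pow, ← ofAdd_nsmul, hW, ofAdd_zero, map_one]⟩
  have hB'V : B' ≤ Subgroup.normalizer (V : Set (Model σ)) := by
    rintro _ ⟨g, -, rfl⟩
    refine Local.mem_normalizer_of_map_conj_eq (Subgroup.eq_of_le_of_card_ge (Local.map_conj_le fun v hv => ?_)
      (Subgroup.card_map_of_injective (MulAut.conj (grp σ g)).injective).ge)
    obtain ⟨x, rfl⟩ := (mem_vecs σ).1 hv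
    exact (mem_vecs σ).2 ⟨_, (vec_act σ g x).symm⟩
  have hoff : SL2Pair.Offender p V B' := by
    refine ⟨fun ⟨s, hs⟩ => ⟨1, ?_⟩, ?_, hB'V, hVc, hVp, ?_, ?_⟩
    · obtain ⟨s₀, -, rfl⟩ := hs
      refine Subtype.ext ?_
      show grp σ s₀ ^ p ^ 1 = 1
      rw [pow_one, ← map_pow, hpow, map_one]
    · rintro _ ⟨s, -, rfl⟩ _ ⟨t, -, rfl⟩
      rw [← map_mul, ← map_mul, hcomm]
    · rw [card_vecs, card_map_grp, card_fixed]; exact hbig
    · intro E₀ hE h1 h2
      have hE' : E₀ = (E₀.comap (grp σ)).map (grp σ) :=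
        (Subgroup.map_comap_eq_self (hE.trans (Subgroup.map_le_range _ B))).symm
      rw [hE', card_map_grp, card_fixed, card_map_grp, card_fixed]
      refine hmin _ (fun x hx => ?_) (fun h => h1 (by rw [hE', h, Subgroup.map_bot]))
        (fun h => h2 (by rw [hE', h]))
      obtain ⟨b, hb, eb⟩ := hE hx
      exact grp_injective σ eb ▸ hb
  have h := SL2Pair.quad_of_strict hoff ((mem_vecs σ).2 ⟨x, rfl⟩) (b := grp σ a) ⟨a, ha, rfl⟩
    (c := grp σ a) ⟨a, ha, rfl⟩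
  rw [vec_disp, vec_act] at h
  exact vec_injective σ h

/-- An element moving an invariant subgroup quadratically. -/
theorem exists_quad (hU : ∀ x : U, p • x = 0) {E : Subgroup P} (hcomm : ∀ a ∈ E, ∀ b ∈ E, a * b = b * a)
    (hpow : ∀ a ∈ E, a ^ p = 1) (hbest : ∀ E₁ ≤ E, mu ρ E₁ ≤ mu ρ E) {W : AddSubgroup U}
    (hW : ∀ e ∈ E, ∀ x ∈ W, ρ e x ∈ W) (hne : ∃ e ∈ E, ∃ x ∈ W, ρ e x ≠ x) :
    ∃ e ∈ E, (∃ x ∈ W, ρ e x ≠ x) ∧ ∀ x ∈ W, ρ e (ρ e x - x) = ρ e x - x := by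
  classical
  let res : ↥E →* AddMonoid.End ↥W :=
    { toFun := fun e => AddMonoidHom.mk' (fun x => (⟨ρ (e : P) x, hW e e.2 x x.2⟩ : ↥W))
        fun x y => Subtype.ext (map_add (ρ (e : P)) _ _)
      map_one' := AddMonoidHom.ext fun x => Subtype.ext (act_one ρ _)
      map_mul' := fun e f => AddMonoidHom.ext fun x => Subtype.ext (act_mul ρ _ _ _) }
  haveI : res.ker.Normal := inferInstance
  set σ := QuotientGroup.lift res.ker res le_rfl with hσ
  set K := res.ker.map E.subtype with hK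
  have hKE : K ≤ E := Subgroup.map_subtype_le _
  have hKcard : Nat.card K = Nat.card res.ker := Subgroup.card_map_of_injective E.subtype_injective
  have hKW : W ≤ fix ρ K := by
    rintro x hx _ ⟨e, he, rfl⟩
    exact congrArg Subtype.val (DFunLike.congr_fun (MonoidHom.mem_ker.1 he) ⟨x, hx⟩)
  have hEK : fix ρ E ≤ fix ρ K := fix_antitone ρ hKE
  -- the whole quotient loses nothing on `W`
  let ι : ↥(fix σ (⊤ : Subgroup (↥E ⧸ res.ker))) → ↥(W ⊓ fix ρ E) := fun x =>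
    ⟨(x : ↥W), (x : ↥W).2, fun a ha => congrArg Subtype.val (x.2 (QuotientGroup.mk ⟨a, ha⟩) trivial)⟩
  let κ : ↥(W ⊓ fix ρ E) → ↥(fix σ (⊤ : Subgroup (↥E ⧸ res.ker))) := fun x =>
    ⟨⟨x, x.2.1⟩, fun q _ => by
      obtain ⟨a, rfl⟩ := QuotientGroup.mk_surjective q
      exact Subtype.ext (x.2.2 a a.2)⟩
  have hfixtop : Nat.card ↥(fix σ (⊤ : Subgroup (↥E ⧸ res.ker))) = Nat.card ↥(W ⊓ fix ρ E) :=
    Nat.card_congr ⟨ι, κ, fun x => rfl, fun x => rfl⟩
  have hbigtop : Nat.card W ≤ mu σ ⊤ := by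
    have h1 := hbest K hKE
    have h2 : Nat.card ↥(W ⊔ fix ρ E) ≤ Nat.card (fix ρ K) := AddSubgroup.card_le_of_le (sup_le hKW hEK)
    have h3 := card_inf_mul_card_sup W (fix ρ E)
    have h4 : Nat.card (↥E ⧸ res.ker) * Nat.card res.ker = Nat.card E :=
      (Subgroup.card_eq_card_quotient_mul_card_subgroup res.ker).symm
    unfold mu at h1 ⊢
    rw [Subgroup.card_top, hfixtop]
    rw [hKcard] at h1
    refine Nat.le_of_mul_le_mul_right ?_ (Nat.mul_pos (Nat.card_pos (α := res.ker)) (Nat.card_pos (α := fix ρ E)))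
    calc Nat.card W * (Nat.card res.ker * Nat.card (fix ρ E))
        = Nat.card res.ker * (Nat.card ↥(W ⊓ fix ρ E) * Nat.card ↥(W ⊔ fix ρ E)) := by rw [h3]; ring
      _ ≤ Nat.card res.ker * (Nat.card ↥(W ⊓ fix ρ E) * Nat.card (fix ρ K)) := by gcongr
      _ = Nat.card ↥(W ⊓ fix ρ E) * (Nat.card res.ker * Nat.card (fix ρ K)) := by ring
      _ ≤ Nat.card ↥(W ⊓ fix ρ E) * (Nat.card E * Nat.card (fix ρ E)) := Nat.mul_le_mul_left _ h1
      _ = _ := by rw [← h4]; ring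
  have htop : (⊤ : Subgroup (↥E ⧸ res.ker)) ≠ ⊥ := by
    intro h
    obtain ⟨e, he, x, hx, hex⟩ := hne
    have h1 : (QuotientGroup.mk ⟨e, he⟩ : ↥E ⧸ res.ker) = 1 := Subgroup.mem_bot.1 (h ▸ Subgroup.mem_top _)
    have h2 : res ⟨e, he⟩ = 1 := MonoidHom.mem_ker.1 ((QuotientGroup.eq_one_iff _).1 h1)
    exact hex (congrArg Subtype.val (DFunLike.congr_fun h2 (⟨x, hx⟩ : ↥W)))
  obtain ⟨B, ⟨hB0, hBbig⟩, hBmin⟩ := Set.exists_min_image
    {B : Subgroup (↥E ⧸ res.ker) | B ≠ ⊥ ∧ Nat.card W ≤ mu σ B} (fun B => Nat.card B) (Set.toFinite _)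
    ⟨⊤, htop, hbigtop⟩
  have hmin : ∀ B₁ ≤ B, B₁ ≠ ⊥ → B₁ ≠ B → mu σ B₁ < mu σ B := fun B₁ hle h0 hne1 => by
    refine lt_of_lt_of_le (lt_of_not_ge fun h => hne1 ?_) hBbig
    exact Subgroup.eq_of_le_of_card_ge hle (hBmin B₁ ⟨h0, h⟩)
  obtain ⟨q, hq, hq1⟩ : ∃ q ∈ B, q ≠ 1 := by
    by_contra h; push Not at h; exact hB0 ((Subgroup.eq_bot_iff_forall B).2 h)
  obtain ⟨e, rfl⟩ := QuotientGroup.mk_surjective q
  refine ⟨e, e.2, ?_, fun x hx => ?_⟩
  · by_contra h
    push Not at h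
    exact hq1 ((QuotientGroup.eq_one_iff _).2 (MonoidHom.mem_ker.2 (AddMonoidHom.ext fun x =>
      Subtype.ext (h x x.2))))
  · exact congrArg Subtype.val (quad_of_minimal (σ := σ) (fun y => Subtype.ext (hU y))
      (fun a b => by
        obtain ⟨a, rfl⟩ := QuotientGroup.mk_surjective a
        obtain ⟨b, rfl⟩ := QuotientGroup.mk_surjective b
        rw [← QuotientGroup.mk_mul, ← QuotientGroup.mk_mul]
        exact congrArg QuotientGroup.mk (Subtype.ext (hcomm a a.2 b b.2)))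
      (fun a => by
        obtain ⟨a, rfl⟩ := QuotientGroup.mk_surjective a
        rw [← QuotientGroup.mk_pow, show a ^ p = 1 from Subtype.ext (hpow a a.2), QuotientGroup.mk_one])
      hBbig hmin hq ⟨x, hx⟩)

end CfsgLib.RootCommute
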