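import Cfsg.Agent.Lib.RootCommute.Sum
import Cfsg.Agent.Lib.RootCommute.Quad

/-!
Quadratic elements of the Sylow subgroup lie in the join of the members, so no subgroup gains.
-/

set_option autoImplicit false
set_option linter.unusedSectionVars false
set_option linter.unusedVariables false
set_option linter.style.haveILetI false

namespace CfsgLib.RootCommute

open CfsgLib CfsgLib.StrongFusion
open CfsgLib.SL2Pair (fix)

universe u v

variable {P : Type u} [Group P] [Finite P] {U : Type v} [AddCommGroup U] [Finite U] {ρ : P →* AddMonoid.End U}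
  {p : ℕ} [hp : Fact p.Prime] {T : Sylow p P} {M X : Subgroup P} {n : ℕ}

namespace Roots

variable {mem : Set (Subgroup P)} {opp : Subgroup P → Subgroup P} {zed : Subgroup P → P}
  (h : Roots ρ T M X n mem opp zed)
include h

theorem img_ne_bot {A : Subgroup P} (hA : A ∈ mem) : ∃ x ∈ img ρ A, x ≠ 0 := by
  by_contra hno; push Not at hno
  have h1 := (h.reg hA).card_img
  rw [(AddSubgroup.eq_bot_iff_forall _).2 hno, AddSubgroup.card_bot] at h1
  exact h.mem_ne_bot hA (Subgroup.eq_bot_of_card_eq A ((h.reg hA).card_grp.trans h1.symm))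

theorem pow_eq_one {A : Subgroup P} (hA : A ∈ mem) {a : P} (ha : a ∈ A) : a ^ p = 1 :=
  act_ext ρ h.set_up.inj fun u => by
    have key : ∀ k : ℕ, ρ (a ^ k) u = u + k • (ρ a u - u) := by
      intro k
      induction k with
      | zero => simp
      | succ k ih =>
        rw [pow_succ', act_mul, ih, map_add, map_nsmul, (h.reg hA).quad (sub_mem_img ρ ha u) a ha, succ_nsmul]
        abel
    rw [key, h.set_up.smul_zero, add_zero, act_one]

/-- An element of the Sylow subgroup keeping a member centralises one of its elements. -/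
theorem exists_central {g : P} (hg : g ∈ (T : Subgroup P)) {A : Subgroup P} (hA : A ∈ mem) (hgA : cm g A = A) :
    ∃ a ∈ A, a ≠ 1 ∧ g * a * g⁻¹ = a := by
  have hmem : ∀ k ∈ Subgroup.zpowers g, ∀ a ∈ A, k * a * k⁻¹ ∈ A := fun k hk a ha =>
    (Subgroup.mem_normalizer_iff.1
      ((Subgroup.zpowers_le.2 (Local.mem_normalizer_of_map_conj_eq hgA)) hk) a).1 ha
  letI : MulAction (Subgroup.zpowers g) A :=
    { smul := fun k a => ⟨(k : P) * a * (k : P)⁻¹, hmem k k.2 a a.2⟩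
      one_smul := fun a => Subtype.ext (by show (1 : P) * a * (1 : P)⁻¹ = a; simp)
      mul_smul := fun k l a => Subtype.ext (by
        show ((k : P) * l) * a * ((k : P) * l)⁻¹ = k * (l * a * (l : P)⁻¹) * (k : P)⁻¹
        group) }
  have hdvd : p ∣ Nat.card A := by
    obtain ⟨a, ha, ha1⟩ : ∃ a ∈ A, a ≠ 1 := by
      by_contra hno; push Not at hno; exact h.mem_ne_bot hA ((Subgroup.eq_bot_iff_forall A).2 hno)
    have h1 : orderOf (⟨a, ha⟩ : A) = p :=
      orderOf_eq_prime (Subtype.ext (h.pow_eq_one hA ha)) fun e => ha1 (congrArg Subtype.val e)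
    exact h1 ▸ orderOf_dvd_natCard _
  have h1 : (1 : A) ∈ MulAction.fixedPoints (Subgroup.zpowers g) A := fun k => Subtype.ext (by
    show (k : P) * 1 * (k : P)⁻¹ = 1; simp)
  obtain ⟨a, ha, ha1⟩ :=
    (T.2.to_le (Subgroup.zpowers_le.2 hg)).exists_fixed_point_of_prime_dvd_card_of_fixed_point A hdvd h1
  exact ⟨a, a.2, fun e => ha1 (Subtype.ext e.symm), congrArg Subtype.val (ha ⟨g, Subgroup.mem_zpowers g⟩)⟩

theorem inj_part {A : Subgroup P} (hA : A ∈ mem) {a : P} (ha : a ∈ A) (ha1 : a ≠ 1) {y y' : U}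
    (hy : y ∈ img ρ (opp A)) (hy' : y' ∈ img ρ (opp A)) (e : ρ a y - y = ρ a y' - y') : y = y' :=
  sub_eq_zero.1 ((h.framed A hA).frame.eq_zero_R h.set_up.smul_zero h.set_up.p_odd (sub_mem hy hy')
    ((h.reg hA).ker a ha ha1 _ (by
      rw [map_sub]
      calc ρ a y - ρ a y' = (ρ a y - y) - (ρ a y' - y') + (y - y') := by abel
        _ = y - y' := by rw [e]; abel)))

/-- The displacement is carried with the part. -/
theorem act_disp {g : P} (hg : g ∈ (T : Subgroup P)) {A : Subgroup P} (hA : A ∈ mem) {a : P} (ha : a ∈ A)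
    (hga : g * a * g⁻¹ ∈ A) {y y' : U} (he : ρ g y - y' ∈ fix ρ X) :
    ρ g (ρ a y - y) = ρ (g * a * g⁻¹) y' - y' := by
  have h1 : ρ (g * a * g⁻¹) (ρ g y) = ρ g (ρ a y) := by rw [← act_mul, inv_mul_cancel_right, act_mul]
  have h2 : ρ (g * a * g⁻¹) (ρ g y - y') = ρ g y - y' := he _ (h.le_X hA hga)
  rw [map_sub] at h2
  rw [map_sub, ← h1]
  calc ρ (g * a * g⁻¹) (ρ g y) - ρ g y
      = (ρ (g * a * g⁻¹) (ρ g y) - ρ (g * a * g⁻¹) y') + ρ (g * a * g⁻¹) y' - ρ g y := by abel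
    _ = _ := by rw [h2]; abel

/-- An element of the Sylow subgroup fixing `fix X` lies in `X`. -/
theorem mem_of_fixes {t : P} (ht : t ∈ (T : Subgroup P)) (hfix : ∀ v ∈ fix ρ X, ρ t v = v) : t ∈ X := by
  have htM := h.set_up.le_M ht
  have hkeep : ∀ A ∈ mem, cm t A = A := fun A hA => by
    by_contra hne
    obtain ⟨x, hx, hx0⟩ := h.img_ne_bot hA
    have h1 : x ∈ img ρ (cm t A) := by
      have := mem_img_cm ρ (g := t) hx
      rwa [hfix x (h.img_mem_le_fix hA hx)] at this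
    exact hx0 ((h.framed A hA).frame.eq_zero_A h.set_up.smul_zero h.set_up.p_odd hx
      ((h.cases hA (h.permute htM hA) hne).1 h1).2)
  have hdis : ∀ A ∈ mem, ∀ y ∈ img ρ (opp A), ρ t y - y ∈ fix ρ X := fun A hA y hy => by
    obtain ⟨y', hy', he⟩ := h.part_mem htM hA hy
    rw [hkeep A hA] at hy'
    obtain ⟨a, ha, ha1, hta⟩ := h.exists_central ht hA (hkeep A hA)
    have e := h.act_disp ht hA ha (by rw [hta]; exact ha) he
    rw [hta, hfix _ (h.img_mem_le_fix hA (sub_mem_img ρ ha y))] at e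
    rwa [← h.inj_part hA ha ha1 hy hy' e] at he
  let W : AddSubgroup U :=
    { carrier := {u | ρ t u - u ∈ fix ρ X}
      zero_mem' := by show ρ t 0 - 0 ∈ fix ρ X; rw [map_zero, sub_zero]; exact zero_mem _
      add_mem' := fun {a b} (ha : ρ t a - a ∈ fix ρ X) (hb : ρ t b - b ∈ fix ρ X) =>
        show ρ t (a + b) - (a + b) ∈ fix ρ X by rw [map_add, add_sub_add_comm]; exact add_mem ha hb
      neg_mem' := fun {a} (ha : ρ t a - a ∈ fix ρ X) => show ρ t (-a) - -a ∈ fix ρ X by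
        rw [map_neg, ← neg_sub']; exact neg_mem ha }
  have hW : W = ⊤ := h.span_eq_top (fun x hx => show ρ t x - x ∈ fix ρ X by
    rw [hfix x hx, sub_self]; exact zero_mem _) hdis
  refine h.mem_of_rest ⟨fun x hx => by rw [AddSubgroup.mem_bot.1 hx, map_zero],
    fun x hx => by rw [hfix x hx, sub_self]; exact zero_mem _, fun u => hW.ge (AddSubgroup.mem_top u)⟩
    fun A hA => Or.inl (h.le_X hA)

/-- An element of the Sylow subgroup acting quadratically on `fix X` lies in `X`. -/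
theorem mem_of_quadratic {d : P} (hd : d ∈ (T : Subgroup P))
    (hdq : ∀ x ∈ img ρ X, ρ d (ρ d x - x) = ρ d x - x) : d ∈ X := by
  classical
  have hU := h.set_up.smul_zero
  have hp2 := h.set_up.p_odd
  have hdM := h.set_up.le_M hd
  suffices hA : ∀ A ∈ mem, ∀ x ∈ img ρ A, ρ d x = x by
    refine h.mem_of_fixes hd fun v hv => ?_
    rw [h.fix_eq] at hv
    let W : AddSubgroup U :=
      { carrier := {u | ρ d u = u}
        zero_mem' := map_zero _
        add_mem' := fun {a b} (ha : ρ d a = a) (hb : ρ d b = b) => show ρ d (a + b) = a + b by rw [map_add, ha, hb]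
        neg_mem' := fun {a} (ha : ρ d a = a) => show ρ d (-a) = -a by rw [map_neg, ha] }
    exact h.img_le_of_mem (W := W) hA hv
  intro A hA
  have F := (h.framed A hA).frame
  set R := opp A
  -- `d` keeps the member
  have hdA : cm d A = A := by
    by_contra hne
    have hA1 := h.permute hdM hA
    have hA2 := h.permute hdM hA1
    have hne2 : cm d (cm d A) ≠ A := by
      intro e
      obtain ⟨k, hk⟩ := IsPGroup.iff_orderOf.1 T.2 ⟨d, hd⟩
      obtain ⟨j, hj⟩ := ((Nat.Prime.odd_of_ne_two hp.out hp2).pow : Odd (p ^ k))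
      have hd2 : d * d ∈ Subgroup.normalizer (A : Set P) :=
        Local.mem_normalizer_of_map_conj_eq (by rw [← cm, ← cm_cm]; exact e)
      have h1 : (d * d) ^ (j + 1) = d := by
        have h2 : d ^ (p ^ k) = 1 := by
          have := pow_orderOf_eq_one (⟨d, hd⟩ : (T : Subgroup P))
          rw [hk] at this
          exact congrArg Subtype.val this
        rw [← sq, ← pow_mul, show 2 * (j + 1) = p ^ k + 1 by omega, pow_succ, h2, one_mul]
      exact hne (Local.map_conj_eq_of_mem_normalizer (h1 ▸ Subgroup.pow_mem _ hd2 (j + 1)))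
    obtain ⟨x, hx, hx0⟩ := h.img_ne_bot hA
    have h1 := ((h.cases hA hA1 hne).1 (mem_img_cm ρ (g := d) hx)).2
    have h2 := ((h.cases hA hA2 hne2).1 (mem_img_cm ρ (g := d) (mem_img_cm ρ (g := d) hx))).2
    have h3 := hdq x (img_mono ρ (h.le_X hA) hx)
    rw [map_sub] at h3
    refine hx0 (F.eq_zero_A hU hp2 hx ?_)
    rw [show x = (ρ d x + ρ d x) - ρ d (ρ d x) by rw [eq_add_of_sub_eq h3]; abel]
    exact sub_mem (add_mem h1 h1) h2
  have hdimg : ∀ x ∈ img ρ A, ρ d x ∈ img ρ A := fun x hx => hdA ▸ mem_img_cm ρ hx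
  have hdAA : ∀ a ∈ A, d * a * d⁻¹ ∈ A := fun a ha =>
    (Subgroup.mem_normalizer_iff.1 (Local.mem_normalizer_of_map_conj_eq hdA) a).1 ha
  obtain ⟨a₁, ha₁, ha₁1, hda₁⟩ := h.exists_central hd hA hdA
  -- a fixed vector in `img A`
  obtain ⟨c, hc, hc0, hcd⟩ : ∃ c ∈ img ρ A, c ≠ 0 ∧ ρ d c = c := by
    obtain ⟨x, hx, hx0⟩ := h.img_ne_bot hA
    by_cases hdx : ρ d x = x
    · exact ⟨x, hx, hx0, hdx⟩
    · exact ⟨_, sub_mem (hdimg x hx) hx, sub_ne_zero.2 hdx, hdq x (img_mono ρ (h.le_X hA) hx)⟩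
  by_contra hne
  push Not at hne
  obtain ⟨x₀, hx₀, hdx₀⟩ := hne
  have hsurj : ∀ x ∈ img ρ A, ∃ y ∈ img ρ R, ρ a₁ y - y = x := fun x hx => by
    obtain ⟨u, hu⟩ := F.regA.exists_vec ha₁ ha₁1 hx
    obtain ⟨x', hx', y, hy, hv⟩ := F.dec u
    refine ⟨y, hy, ?_⟩
    rw [← hu, show u = x' + y + (u - x' - y) by abel, map_add, map_add, F.regA.quad hx' a₁ ha₁, hv.1 a₁ ha₁]; abel
  have hpart : ∀ y ∈ img ρ R, ∃ y' ∈ img ρ R, ρ d y - y' ∈ fix ρ X := fun y hy => by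
    obtain ⟨y', hy', he⟩ := h.part_mem hdM hA hy
    rw [hdA] at hy'
    exact ⟨y', hy', he⟩
  obtain ⟨y₀, hy₀, hy₀x⟩ := hsurj x₀ hx₀
  obtain ⟨η, hη, eη⟩ := hpart y₀ hy₀
  obtain ⟨η₂, hη₂, eη₂⟩ := hpart η hη
  have e1 := h.act_disp hd hA ha₁ (hdAA a₁ ha₁) eη
  have e2 := h.act_disp hd hA ha₁ (hdAA a₁ ha₁) eη₂
  rw [hda₁] at e1 e2
  rw [hy₀x] at e1
  set δ := η - y₀ with hδ
  have hδR : δ ∈ img ρ R := sub_mem hη hy₀
  have hδ0 : δ ≠ 0 := fun e => hdx₀ (by rw [e1, sub_eq_zero.1 e, hy₀x])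
  have hη₂e : η₂ = η + δ := by
    refine (h.inj_part hA ha₁ ha₁1 (add_mem hη hδR) hη₂ ?_).symm
    rw [← e2, ← e1]
    have h3 := hdq x₀ (img_mono ρ (h.le_X hA) hx₀)
    rw [map_sub] at h3
    rw [hδ, map_add, map_sub, show ρ d (ρ d x₀) = ρ d x₀ - x₀ + ρ d x₀ from eq_add_of_sub_eq h3, e1]
    rw [← hy₀x]; abel
  obtain ⟨y₁, hy₁, hy₁x⟩ := hsurj c hc
  obtain ⟨η₁, hη₁, eη₁⟩ := hpart y₁ hy₁
  have e3 := h.act_disp hd hA ha₁ (hdAA a₁ ha₁) eη₁
  rw [hda₁, hy₁x, hcd, ← hy₁x] at e3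
  rw [← h.inj_part hA ha₁ ha₁1 hy₁ hη₁ e3] at eη₁
  have hy₁0 : y₁ ∉ fix ρ A := fun h' => hc0 (by rw [← hy₁x, h' a₁ ha₁, sub_self])
  -- `d` centralises `A`
  have hdc : ∀ a ∈ A, d * a * d⁻¹ = a := by
    intro a ha
    set b := d * a * d⁻¹ with hb
    set b₂ := d * b * d⁻¹ with hb₂
    have hbA := hdAA a ha
    have hb₂A := hdAA b hbA
    have h4 : ∀ y ∈ img ρ R, ∀ y', ρ d y - y' ∈ fix ρ X → ∀ y'', ρ d y' - y'' ∈ fix ρ X →
        (ρ b₂ y'' - y'') + (ρ a y - y) = (ρ b y' - y') + (ρ b y' - y') := by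
      intro y hy y' e y'' e'
      rw [← h.act_disp hd hA hbA hb₂A e', ← h.act_disp hd hA ha hbA e]
      have h5 := hdq _ (img_mono ρ (h.le_X hA) (sub_mem_img ρ ha y))
      rw [map_sub] at h5
      rw [eq_add_of_sub_eq h5]; abel
    have h6 := h4 y₁ hy₁ y₁ eη₁ y₁ eη₁
    have hadd : ∀ s ∈ A, ∀ s' ∈ A, ∀ u, ρ (s * s') u - u = (ρ s u - u) + (ρ s' u - u) := fun s hs₁ s' hs₂ u => by
      have := F.regA.quad (sub_mem_img ρ hs₂ u) s hs₁
      rw [map_sub] at this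
      rw [act_mul, eq_add_of_sub_eq this]; abel
    have hb2 : b₂ * a = b * b := by
      have h7 : ρ ((b * b)⁻¹ * (b₂ * a)) y₁ = y₁ := by
        have h8 : ρ (b₂ * a) y₁ = ρ (b * b) y₁ := by
          refine (sub_left_inj (a := y₁)).1 ?_
          rw [hadd b₂ hb₂A a ha, hadd b hbA b hbA, h6]
        rw [act_mul, h8, act_inv]
      by_contra hne
      exact hy₁0 (F.regA.ker _ (mul_mem (inv_mem (mul_mem hbA hbA)) (mul_mem hb₂A ha))
        (fun e => hne (inv_mul_eq_one.1 e).symm) _ h7)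
    have h9 := h4 y₀ hy₀ η eη η₂ eη₂
    have h10 : ∀ u, (ρ b₂ u - u) + (ρ a u - u) = (ρ b u - u) + (ρ b u - u) := fun u => by
      rw [← hadd b₂ hb₂A a ha, ← hadd b hbA b hbA, hb2]
    have h11 : (ρ b₂ δ - δ) + (ρ b₂ δ - δ) = (ρ b δ - δ) + (ρ b δ - δ) := by
      have h12 := h10 y₀
      rw [hη₂e, show η = y₀ + δ by rw [hδ]; abel] at h9
      simp only [map_add] at h9 h12
      calc (ρ b₂ δ - δ) + (ρ b₂ δ - δ) = ((ρ b₂ y₀ + ρ b₂ δ + ρ b₂ δ - (y₀ + δ + δ)) + (ρ a y₀ - y₀)) -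
            ((ρ b₂ y₀ - y₀) + (ρ a y₀ - y₀)) := by abel
        _ = _ := by rw [h9, h12]; abel
    have h13 : ρ b₂ δ = ρ b δ := sub_left_inj.1 (sub_eq_zero.1 (eq_zero_of_add_self hU hp2
      (show (ρ b₂ δ - δ - (ρ b δ - δ)) + (ρ b₂ δ - δ - (ρ b δ - δ)) = 0 by
        rw [show (ρ b₂ δ - δ - (ρ b δ - δ)) + (ρ b₂ δ - δ - (ρ b δ - δ)) =
          ((ρ b₂ δ - δ) + (ρ b₂ δ - δ)) - ((ρ b δ - δ) + (ρ b δ - δ)) by abel, h11, sub_self])))
    have h14 : b₂ = b := by
      by_contra hne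
      refine hδ0 (F.eq_zero_R hU hp2 hδR (F.regA.ker (b⁻¹ * b₂) (mul_mem (inv_mem hbA) hb₂A)
        (fun e => hne (inv_mul_eq_one.1 e).symm) _ ?_))
      rw [act_mul, h13, act_inv]
    rw [hb₂] at h14
    have h15 : d * (d * a * d⁻¹) * d⁻¹ = d * a * d⁻¹ := h14
    exact mul_left_cancel (mul_right_cancel h15)
  refine hdx₀ ?_
  obtain ⟨a, ha, hax⟩ := F.regA.exists_elt hy₁0 hx₀
  have e4 := h.act_disp hd hA ha (hdAA a ha) eη₁
  rwa [hdc a ha, hax] at e4

/-- An elementary abelian subgroup of `T` best among its subgroups lies in `X`. -/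
theorem le_of_best {E : Subgroup P} (hET : E ≤ (T : Subgroup P)) (hcomm : ∀ a ∈ E, ∀ b ∈ E, a * b = b * a)
    (hpow : ∀ a ∈ E, a ^ p = 1) (hbest : ∀ E₁ ≤ E, mu ρ E₁ ≤ mu ρ E) : E ≤ X := by
  intro e he
  refine h.mem_of_fixes (hET he) fun v hv => ?_
  by_contra hne
  rw [h.fix_eq] at hv
  obtain ⟨d, hd, ⟨x, hx, hdx⟩, hdq⟩ := exists_quad h.set_up.smul_zero hcomm hpow hbest (W := img ρ X)
    (fun e he x hx => h.img_inv (h.set_up.le_M (hET he)) hx) ⟨e, he, v, hv, hne⟩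
  exact hdx (h.quad hx d (h.mem_of_quadratic (hET hd) hdq))

end Roots

end CfsgLib.RootCommute
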