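import Cfsg.Agent.Lib.RootCommute.Sum
import Cfsg.Agent.Lib.RootCommute.Quadratic

/-!
The join of a member and an opposite subgroup depends only on the member, and different joins commute.
-/

set_option autoImplicit false
set_option linter.unusedSectionVars false

namespace CfsgLib.RootCommute

open CfsgLib CfsgLib.StrongFusion
open CfsgLib.SL2Pair (fix)

universe u v

variable {P : Type u} [Group P] [Finite P] {U : Type v} [AddCommGroup U] [Finite U] {ρ : P →* AddMonoid.End U}
  {p : ℕ} [hp : Fact p.Prime] {T : Sylow p P} {M X : Subgroup P} {n : ℕ}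

section Frames

variable {A R : Subgroup P} {z : P}

/-- A frame read from the other side. -/
theorem Frame.swapped (F : Frame ρ n A R z) : Frame ρ n R A z where
  regA := F.regR
  regR := F.regA
  z_mem := sup_comm A R ▸ F.z_mem
  negA := F.negR
  negR := F.negA
  dec u := by
    obtain ⟨x, hx, y, hy, hv⟩ := F.dec u
    exact ⟨y, hy, x, hx, by rw [sub_right_comm]; exact ⟨hv.2, hv.1⟩⟩

theorem Frame.fix_join (F : Frame ρ n A R z) {v : U} (hv : v ∈ fix ρ A ⊓ fix ρ R) : v ∈ fix ρ (A ⊔ R) :=
  fun _ hg => (sup_le (fun a ha => hv.1 a ha) (fun r hr => hv.2 r hr) : A ⊔ R ≤ pointStab ρ v) hg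

theorem Frame.img_join : img ρ (A ⊔ R) = img ρ A ⊔ img ρ R :=
  le_antisymm ((img_le ρ).2 fun _ hg => (sup_le
      (fun _ ha u => AddSubgroup.mem_sup_left (sub_mem_img ρ ha u))
      (fun _ hr u => AddSubgroup.mem_sup_right (sub_mem_img ρ hr u)) :
        A ⊔ R ≤ cosetStab ρ (img ρ A ⊔ img ρ R)) hg)
    (sup_le (img_mono ρ le_sup_left) (img_mono ρ le_sup_right))

theorem Frame.neg_join (F : Frame ρ n A R z) {x : U} (hx : x ∈ img ρ (A ⊔ R)) : ρ z x = -x := by
  rw [Frame.img_join (ρ := ρ)] at hx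
  obtain ⟨a, ha, b, hb, rfl⟩ := AddSubgroup.mem_sup.1 hx
  rw [map_add, F.negA a ha, F.negR b hb, neg_add]

variable (hU : ∀ x : U, p • x = 0) (hp2 : p ≠ 2)
include hU hp2

theorem Frame.disjoint (F : Frame ρ n A R z) {x : U} (hx : x ∈ img ρ (A ⊔ R)) (hv : x ∈ fix ρ (A ⊔ R)) :
    x = 0 :=
  eq_zero_of_add_self hU hp2 (eq_neg_iff_add_eq_zero.1 ((hv z F.z_mem).symm.trans (F.neg_join hx)))

theorem Frame.z_sq (hρ : Function.Injective ρ) (F : Frame ρ n A R z) : z * z = 1 := act_ext ρ hρ fun u => by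
  obtain ⟨x, hx, y, hy, hv⟩ := F.dec u
  rw [act_mul, act_one, show u = x + y + (u - x - y) by abel]
  simp only [map_add, map_neg, F.negA x hx, F.negR y hy, F.pos hv, neg_neg]

theorem Frame.z_comm (hρ : Function.Injective ρ) (F : Frame ρ n A R z) {a : P} (ha : a ∈ A) : z * a = a * z :=
  act_ext ρ hρ fun u => by
    obtain ⟨x, hx, y, hy, hv⟩ := F.dec u
    set v := u - x - y with hvd
    have e1 : ρ a u = u + (ρ a y - y) := by
      conv_lhs => rw [show u = x + y + v by rw [hvd]; abel, map_add, map_add, F.regA.quad hx a ha, hv.1 a ha]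
      rw [hvd]; abel
    have e2 : ρ z u = -x + -y + v := by
      conv_lhs => rw [show u = x + y + v by rw [hvd]; abel, map_add, map_add, F.negA x hx, F.negR y hy, F.pos hv]
    rw [act_mul, act_mul, e1, map_add, F.negA _ (sub_mem_img ρ ha y), e2, map_add, map_add, map_neg, map_neg,
      F.regA.quad hx a ha, hv.1 a ha]
    abel

end Frames

namespace Roots

variable {mem : Set (Subgroup P)} {opp : Subgroup P → Subgroup P} {zed : Subgroup P → P}
  (h : Roots ρ T M X n mem opp zed)
include h

/-- The frame of one member replaced by another. -/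
theorem reframe [DecidableEq (Subgroup P)] {B R : Subgroup P} {z : P} (hR : Framed ρ M n B R z) :
    Roots ρ T M X n mem (Function.update opp B R) (Function.update zed B z) where
  set_up := h.set_up
  nonempty := h.nonempty
  sup_eq := h.sup_eq
  le := h.le
  framed A hA := by
    by_cases hAB : A = B
    · subst hAB; rwa [Function.update_self, Function.update_self]
    · rw [Function.update_of_ne hAB, Function.update_of_ne hAB]; exact h.framed A hA
  apart := h.apart
  carried := h.carried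
  closed := h.closed

theorem member_comm {A S : Subgroup P} (hA : A ∈ mem) (hS : S ∈ mem) (hne : S ≠ A) {R : Subgroup P} {z : P}
    (hR : Framed ρ M n A R z) {s g : P} (hs : s ∈ S) (hg : g ∈ A ⊔ R) : s * g = g * s := by
  classical
  have h' := h.reframe hR
  have hc := h'.cases hA hS hne
  simp only [Function.update_self] at hc
  have h1 : A ⊔ R ≤ Subgroup.centralizer ({s} : Set P) := sup_le
    (fun a ha => Subgroup.mem_centralizer_singleton_iff.2 (h.comm a (h.le_X hA ha) s (h.le_X hS hs)))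
    fun r hr => Subgroup.mem_centralizer_singleton_iff.2
      (commute_of_separate h.set_up.inj (h.reg hS) hR.frame.regR (hc.1.trans inf_le_right) hc.2 hs hr).symm
  exact (Subgroup.mem_centralizer_singleton_iff.1 (h1 hg)).symm

/-- Some element of the join moves a given vector into the vectors fixed by the member. -/
theorem exists_into_fix {A : Subgroup P} (hA : A ∈ mem) (u : U) :
    ∃ g ∈ A ⊔ opp A, ρ g u ∈ fix ρ A := by
  have F := (h.framed A hA).frame
  have hU := h.set_up.smul_zero
  have hp2 := h.set_up.p_odd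
  set R := opp A
  have key : ∀ {u x y : U}, x ∈ img ρ A → y ∈ img ρ R → u - x - y ∈ fix ρ A ⊓ fix ρ R → x ≠ 0 →
      ∃ g ∈ A ⊔ R, ρ g u ∈ fix ρ A := fun {u x y} hx hy hv hx0 => by
    obtain ⟨r, hr, hrx⟩ := F.regR.exists_elt (fun e => hx0 (F.eq_zero_A hU hp2 hx e)) (neg_mem hy)
    refine ⟨r, Subgroup.mem_sup_right hr, ?_⟩
    rw [show u = x + y + (u - x - y) by abel, map_add, map_add, F.regR.quad hy r hr, sub_eq_iff_eq_add.1 hrx,
      hv.2 r hr, show -y + x + y + (u - x - y) = x + (u - x - y) by abel]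
    exact add_mem (F.regA.quad hx) hv.1
  obtain ⟨x, hx, y, hy, hv⟩ := F.dec u
  by_cases hx0 : x = 0
  · by_cases hy0 : y = 0
    · refine ⟨1, one_mem _, ?_⟩
      rw [act_one]
      rw [hx0, hy0, sub_zero, sub_zero] at hv
      exact hv.1
    obtain ⟨a, ha, hay⟩ : ∃ a ∈ A, ρ a y ≠ y := by
      by_contra hno; push Not at hno; exact hy0 (F.eq_zero_R hU hp2 hy hno)
    obtain ⟨g, hg, hgu⟩ := key (u := ρ a u) (x := ρ a y - y) (y := y) (sub_mem_img ρ ha y) hy (by
      have e : ρ a u - (ρ a y - y) - y = u - x - y := by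
        conv_lhs => rw [show u = x + y + (u - x - y) by abel, map_add, map_add, hv.1 a ha, hx0, map_zero]
        rw [hx0]
        abel
      rwa [e]) (sub_ne_zero.2 hay)
    exact ⟨g * a, mul_mem hg (Subgroup.mem_sup_left ha), by rwa [act_mul]⟩
  · exact key hx hy hv hx0

/-- **The join depends only on the member.** -/
theorem join_eq {A R : Subgroup P} {z : P} (hA : A ∈ mem) (hR : Framed ρ M n A R z) :
    A ⊔ R = A ⊔ opp A := by
  suffices hle : A ⊔ R ≤ A ⊔ opp A by
    classical
    refine le_antisymm hle ?_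
    have h' := h.reframe hR
    have hF := h.framed A hA
    obtain ⟨g, hg, hgM⟩ : ∃ g ∈ A ⊔ R, g ∉ M := by
      by_contra hno
      push Not at hno
      exact hR.not_le fun r hr => hno r (Subgroup.mem_sup_right hr)
    rw [← hF.gen g (hle hg) hgM]
    exact sup_le le_sup_left (Local.map_conj_le fun a ha => mul_mem (mul_mem hg (Subgroup.mem_sup_left ha)) (inv_mem hg))
  obtain ⟨w, hw, hwT, hst, -⟩ := h.exists_base
  obtain ⟨g, hg, hgM⟩ : ∃ g ∈ A ⊔ R, g ∉ M := by
    by_contra hno
    push Not at hno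
    exact hR.not_le fun r hr => hno r (Subgroup.mem_sup_right hr)
  obtain ⟨γ, hγ, hγu⟩ := h.exists_into_fix hA (ρ g w)
  set k := γ * g with hk
  have hcomm : ∀ B ∈ mem, B ≠ A → ∀ b ∈ B, b * k = k * b := fun B hB hne b hb => by
    rw [hk, ← mul_assoc, h.member_comm hA hB hne (h.framed A hA) hb hγ, mul_assoc,
      h.member_comm hA hB hne hR hb hg, mul_assoc]
  have hkM : k ∈ M := h.mem_M hst (h.mem_fix fun B hB => by
    by_cases hne : B = A
    · subst hne; rw [hk, act_mul]; exact hγu
    · exact fun b hb => by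
        rw [← act_mul, hcomm B hB hne b hb, act_mul, fix_antitone ρ (h.le_X hB) (h.quad hw) b hb])
  have hkA : cm k A = A := by
    by_contra hne
    have h1 : cm k⁻¹ (cm k A) = cm k A := cm_eq_self fun b hb => by
      have := hcomm _ (h.permute hkM hA) hne b hb
      rw [inv_inv, mul_assoc, this, ← mul_assoc, inv_mul_cancel, one_mul]
    exact hne (h1.symm.trans (cm_inv_cm k A))
  rw [← hR.gen g hg hgM]
  refine sup_le le_sup_left ?_
  rw [show g = γ⁻¹ * k by rw [hk, inv_mul_cancel_left], ← cm_cm, hkA]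
  exact Local.map_conj_le fun a ha => mul_mem (mul_mem (inv_mem hγ) (Subgroup.mem_sup_left ha)) (inv_mem (inv_mem hγ))

theorem join_perm {m : P} (hm : m ∈ M) {A : Subgroup P} (hA : A ∈ mem) :
    cm m (A ⊔ opp A) = cm m A ⊔ opp (cm m A) := by
  rw [cm, Subgroup.map_sup]
  exact h.join_eq (h.permute hm hA) ((h.framed A hA).conj hm)

theorem zed_mem {A : Subgroup P} (hA : A ∈ mem) : zed A ∈ M := by
  by_contra hz
  have hF := h.framed A hA
  have h1 := hF.gen _ hF.frame.z_mem hz
  rw [show cm (zed A) A = A from cm_eq_self fun a ha => by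
    rw [hF.frame.z_comm h.set_up.smul_zero h.set_up.p_odd h.set_up.inj ha, mul_inv_cancel_right], sup_idem] at h1
  exact hF.not_le fun r hr => h.set_up.le_M (h.le (h.le_X hA (h1.ge (Subgroup.mem_sup_right hr))))

/-- **Displacements of one join are fixed by the others.** -/
theorem img_join_le_fix {A B : Subgroup P} (hA : A ∈ mem) (hB : B ∈ mem) (hne : B ≠ A) :
    img ρ (B ⊔ opp B) ≤ fix ρ (A ⊔ opp A) := by
  have hU := h.set_up.smul_zero
  have hp2 := h.set_up.p_odd
  have FA := (h.framed A hA).frame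
  have FB := (h.framed B hB).frame
  set z := zed A
  have hc := h.cases hA hB hne
  have hBfix : ∀ x ∈ img ρ B, x ∈ fix ρ (A ⊔ opp A) := fun x hx => FA.fix_join (hc.1 hx)
  have hzB : ∀ b ∈ B, b * z = z * b := fun b hb => h.member_comm hA hB hne (h.framed A hA) hb FA.z_mem
  have hzΓ : cm z (B ⊔ opp B) = B ⊔ opp B := by
    have e : cm z B = B := cm_eq_self fun b hb => by rw [← hzB b hb, mul_inv_cancel_right]
    rw [h.join_perm (h.zed_mem hA) hB, e]
  rw [Frame.img_join (ρ := ρ)]
  refine sup_le (fun x hx => hBfix x hx) fun y hy => ?_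
  have hzy : ρ z y = y := by
    have h1 := mem_img_cm ρ (g := z) (img_mono ρ (le_sup_right : opp B ≤ B ⊔ opp B) hy)
    rw [hzΓ, Frame.img_join (ρ := ρ)] at h1
    obtain ⟨x', hx', y', hy', e⟩ := AddSubgroup.mem_sup.1 h1
    obtain ⟨b, hb, hb1⟩ : ∃ b ∈ B, b ≠ 1 := by
      by_contra hno; push Not at hno; exact h.mem_ne_bot hB ((Subgroup.eq_bot_iff_forall B).2 hno)
    have hzdisp : ρ z (ρ b y - y) = ρ b y - y :=
      hBfix _ (sub_mem_img ρ hb y) z FA.z_mem
    have h2 : ρ b y - y = ρ b y' - y' := by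
      rw [← hzdisp, map_sub, ← act_mul, ← hzB b hb, act_mul, ← e, map_add, (h.reg hB).quad hx' b hb]
      abel
    have hyy : y = y' := h.inj_part hB hb hb1 hy hy' h2
    subst hyy
    have h3 : ρ z (ρ z y) = y := by rw [← act_mul, FA.z_sq hU hp2 h.set_up.inj, act_one]
    rw [← e, map_add, hBfix x' hx' z FA.z_mem, ← e, ← add_assoc, add_eq_right] at h3
    rw [← e, eq_zero_of_add_self hU hp2 h3, zero_add]
  obtain ⟨a, ha, b, hb, hv⟩ := FA.dec y
  refine FA.fix_join ?_
  set v := y - a - b with hvd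
  have e : ρ z y = -a + -b + v := by
    conv_lhs => rw [show y = a + b + v by rw [hvd]; abel, map_add, map_add, FA.negA a ha, FA.negR b hb, FA.pos hv]
  have h0 : (a + b) + (a + b) = 0 := by
    calc (a + b) + (a + b) = y - (-a + -b + v) := by rw [hvd]; abel
      _ = 0 := by rw [← e, hzy, sub_self]
  have h1 := eq_zero_of_add_self hU hp2 h0
  rwa [hvd, sub_sub, h1, sub_zero] at hv

/-- **Different joins commute.** -/
theorem joins_comm {A B : Subgroup P} (hA : A ∈ mem) (hB : B ∈ mem) (hne : B ≠ A) {g k : P}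
    (hg : g ∈ A ⊔ opp A) (hk : k ∈ B ⊔ opp B) : g * k = k * g := by
  refine act_ext ρ h.set_up.inj fun u => ?_
  have e1 := h.img_join_le_fix hA hB hne (sub_mem_img ρ hk u) g hg
  have e2 := h.img_join_le_fix hB hA hne.symm (sub_mem_img ρ hg u) k hk
  rw [map_sub] at e1 e2
  rw [act_mul, act_mul, sub_eq_iff_eq_add.1 e1, sub_eq_iff_eq_add.1 e2]
  abel

end Roots

end CfsgLib.RootCommute
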