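import Cfsg.Agent.Lib.RootCommute.Pair
import Mathlib.LinearAlgebra.Matrix.SpecialLinearGroup

/-!
A member with a natural frame over the kept members commutes with every member of its Sylow subgroup.
-/

set_option autoImplicit false
set_option linter.unusedSectionVars false
set_option linter.style.haveILetI false

namespace CfsgLib.RootCommute

open CfsgLib CfsgLib.StrongFusion
open CfsgLib.SL2Pair (fix)

universe u v

variable {P : Type u} [Group P] [Finite P] {U : Type v} [AddCommGroup U] [Finite U] {ρ : P →* AddMonoid.End U}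
  {p : ℕ} [hp : Fact p.Prime] {n : ℕ}

theorem eq_zero_of_add_self (hU : ∀ x : U, p • x = 0) (hp2 : p ≠ 2) {x : U} (hx : x + x = 0) : x = 0 := by
  have h2 : (2 : ℕ) • x = 0 := by rw [two_nsmul]; exact hx
  have hd : addOrderOf x ∣ Nat.gcd 2 p :=
    Nat.dvd_gcd (addOrderOf_dvd_of_nsmul_eq_zero h2) (addOrderOf_dvd_of_nsmul_eq_zero (hU x))
  rw [(Nat.coprime_primes Nat.prime_two hp.out).2 (Ne.symm hp2)] at hd
  exact AddMonoid.addOrderOf_eq_one_iff.1 (Nat.dvd_one.1 hd)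

variable (ρ) in
/-- The standing hypotheses. -/
structure Setting (T : Sylow p P) (M : Subgroup P) : Prop where
  inj : Function.Injective ρ
  p_odd : p ≠ 2
  smul_zero : ∀ x : U, p • x = 0
  no_fixed : ∀ x : U, (∀ g, ρ g x = x) → x = 0
  full : ∀ W : AddSubgroup U, (∀ g x, ρ g x - x ∈ W) → W = ⊤
  le_M : (T : Subgroup P) ≤ M
  M_ne : M ≠ ⊤
  over_le : ∀ H : Subgroup P, (T : Subgroup P) ≤ H → H ≠ ⊤ → H ≤ M
  no_core : ∀ N : Subgroup P, N.Normal → IsPGroup p N → N = ⊥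

variable {T : Sylow p P} {M : Subgroup P}

theorem Setting.over_conj (h : Setting ρ T M) {k : P} (hk : k ∈ M) {H : Subgroup P}
    (hle : cm k (T : Subgroup P) ≤ H) (hne : H ≠ ⊤) : H ≤ M := by
  have h1 : cm k⁻¹ H ≤ M := by
    refine h.over_le _ ((cm_inv_cm k _).ge.trans (cm_mono hle)) fun e => hne (eq_top_iff.2 fun y _ => ?_)
    have hy := e.ge (Subgroup.mem_top (k⁻¹ * y * k))
    obtain ⟨x, hx, hxe⟩ := hy
    simp only [MulEquiv.coe_toMonoidHom, MulAut.conj_apply, inv_inv] at hxe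
    rwa [← mul_left_cancel (mul_right_cancel hxe)]
  intro x hx
  have := h1 ⟨x, hx, rfl⟩
  simp only [MulEquiv.coe_toMonoidHom, MulAut.conj_apply, inv_inv] at this
  have h2 := M.mul_mem (M.mul_mem hk this) (M.inv_mem hk)
  rwa [show k * (k⁻¹ * x * k) * k⁻¹ = x by group] at h2

/-- Vectors fixed by a Sylow subgroup of `M` are fixed only inside `M`. -/
theorem Setting.stab_le (h : Setting ρ T M) {k : P} (hk : k ∈ M) {x : U}
    (hx : x ∈ fix ρ (cm k (T : Subgroup P))) (hx0 : x ≠ 0) : pointStab ρ x ≤ M :=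
  h.over_conj hk (fun t ht => hx t ht) fun e => hx0 (h.no_fixed x fun g => e.ge (Subgroup.mem_top g))

/-- The displacements of a Sylow subgroup of `M` are kept only inside `M`. -/
theorem Setting.cosetStab_le [Nontrivial U] (h : Setting ρ T M) {k : P} (hk : k ∈ M) :
    cosetStab ρ (img ρ (cm k (T : Subgroup P))) ≤ M :=
  h.over_conj hk (fun t ht x => sub_mem_img ρ ht x) fun e =>
    (img_lt_top ρ h.smul_zero (T.2.map _)).ne (h.full _ fun g x => e.ge (Subgroup.mem_top g) x)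

variable (ρ) in
/-- A natural frame: two regular subgroups and an element minus one on their displacements. -/
structure Frame (n : ℕ) (A R : Subgroup P) (z : P) : Prop where
  regA : Regular ρ n A
  regR : Regular ρ n R
  z_mem : z ∈ A ⊔ R
  negA : ∀ x ∈ img ρ A, ρ z x = -x
  negR : ∀ y ∈ img ρ R, ρ z y = -y
  dec : ∀ u, ∃ x ∈ img ρ A, ∃ y ∈ img ρ R, u - x - y ∈ fix ρ A ⊓ fix ρ R

variable {A R : Subgroup P} {z : P}

theorem Frame.pos (F : Frame ρ n A R z) {v : U} (hv : v ∈ fix ρ A ⊓ fix ρ R) : ρ z v = v := by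
  have hle : A ⊔ R ≤ pointStab ρ v := sup_le (fun a ha => hv.1 a ha) fun a ha => hv.2 a ha
  exact hle F.z_mem

theorem Frame.conj (F : Frame ρ n A R z) (g : P) : Frame ρ n (cm g A) (cm g R) (g * z * g⁻¹) where
  regA := F.regA.conj g
  regR := F.regR.conj g
  z_mem := (Subgroup.map_sup A R (MulAut.conj g).toMonoidHom).le ⟨z, F.z_mem, rfl⟩
  negA x hx := by
    have h := mem_img_cm ρ (g := g⁻¹) hx
    rw [cm_inv_cm] at h
    rw [act_mul, act_mul, F.negA _ h, map_neg, act_inv']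
  negR x hx := by
    have h := mem_img_cm ρ (g := g⁻¹) hx
    rw [cm_inv_cm] at h
    rw [act_mul, act_mul, F.negR _ h, map_neg, act_inv']
  dec u := by
    obtain ⟨x, hx, y, hy, huv⟩ := F.dec (ρ g⁻¹ u)
    refine ⟨ρ g x, mem_img_cm ρ hx, ρ g y, mem_img_cm ρ hy, ?_⟩
    rw [AddSubgroup.mem_inf, mem_fix_cm, mem_fix_cm, map_sub, map_sub, act_inv, act_inv]
    exact huv

theorem Frame.inv_z (F : Frame ρ n A R z) {x : U} (hx : ρ z x = -x) : ρ z⁻¹ x = -x := by
  have h := congrArg (ρ z⁻¹) hx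
  rw [act_inv, map_neg, eq_neg_iff_add_eq_zero, add_comm] at h
  exact eq_neg_of_add_eq_zero_left h

variable (hU : ∀ x : U, p • x = 0) (hp2 : p ≠ 2)
include hU hp2

theorem Frame.eq_zero_A (F : Frame ρ n A R z) {x : U} (hx : x ∈ img ρ A) (hR : x ∈ fix ρ R) : x = 0 :=
  eq_zero_of_add_self hU hp2 (eq_neg_iff_add_eq_zero.1 ((F.pos ⟨F.regA.quad hx, hR⟩).symm.trans (F.negA x hx)))

theorem Frame.eq_zero_R (F : Frame ρ n A R z) {y : U} (hy : y ∈ img ρ R) (hA : y ∈ fix ρ A) : y = 0 :=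
  eq_zero_of_add_self hU hp2 (eq_neg_iff_add_eq_zero.1 ((F.pos ⟨hA, F.regR.quad hy⟩).symm.trans (F.negR y hy)))

/-- The vectors fixed by the first subgroup. -/
theorem Frame.mem_fix_iff (F : Frame ρ n A R z) {u : U} :
    u ∈ fix ρ A ↔ ∃ x ∈ img ρ A, u - x ∈ fix ρ A ⊓ fix ρ R := by
  constructor
  · intro hu
    obtain ⟨x, hx, y, hy, hv⟩ := F.dec u
    have hyA : y ∈ fix ρ A := by
      have := sub_mem (sub_mem hu (F.regA.quad hx)) hv.1
      rwa [sub_sub_cancel] at this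
    rw [F.eq_zero_R hU hp2 hy hyA, sub_zero] at hv
    exact ⟨x, hx, hv⟩
  · rintro ⟨x, hx, hv⟩
    have := add_mem hv.1 (F.regA.quad hx)
    rwa [sub_add_cancel] at this

omit hU hp2

variable (ρ) in
/-- The elements trivial on the sections of a short flag. -/
def flag (B C : AddSubgroup U) : Subgroup P where
  carrier := {h | (∀ x ∈ B, ρ h x = x) ∧ (∀ x ∈ C, ρ h x - x ∈ B) ∧ ∀ x, ρ h x - x ∈ C}
  one_mem' := ⟨fun x _ => act_one ρ x, fun x _ => by rw [act_one, sub_self]; exact zero_mem _,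
    fun x => by rw [act_one, sub_self]; exact zero_mem _⟩
  mul_mem' {g h} hg hh := by
    refine ⟨fun x hx => by rw [act_mul, hh.1 x hx, hg.1 x hx], fun x hx => ?_, fun x => ?_⟩
    · have h1 : ρ (g * h) x - x = (ρ g x - x) + (ρ h x - x) := by
        have e := hg.1 _ (hh.2.1 x hx)
        rw [map_sub] at e
        rw [act_mul, ← e]; abel
      rw [h1]; exact add_mem (hg.2.1 x hx) (hh.2.1 x hx)
    · have := add_mem (hg.2.2 (ρ h x)) (hh.2.2 x)
      rwa [sub_add_sub_cancel, ← act_mul] at this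
  inv_mem' {g} hg := by
    refine ⟨fun x hx => inv_fixed ρ (hg.1 x hx), fun x hx => ?_, fun x => ?_⟩
    · have hc := hg.2.1 x hx
      have e := inv_fixed ρ (hg.1 _ hc)
      rw [map_sub, act_inv] at e
      rw [show ρ g⁻¹ x - x = -(ρ g x - x) by rw [← e]; abel]
      exact neg_mem hc
    · have := neg_mem (hg.2.2 (ρ g⁻¹ x))
      rwa [neg_sub, act_inv'] at this

theorem isPGroup_flag (hρ : Function.Injective ρ) (hU : ∀ x : U, p • x = 0) (hp2 : p ≠ 2)
    (B C : AddSubgroup U) : IsPGroup p (flag ρ B C) := by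
  rintro ⟨g, h1, h2, h3⟩
  refine ⟨1, Subtype.ext (act_ext ρ hρ fun x => ?_)⟩
  have key : ∀ k : ℕ, ρ (g ^ k) x = x + k • (ρ g x - x) + k.choose 2 • (ρ g (ρ g x - x) - (ρ g x - x)) := by
    intro k
    induction k with
    | zero => simp
    | succ k ih =>
      set c := ρ g x - x with hc
      set c' := ρ g c - c with hc'
      have e1 : ρ g x = x + c := by rw [hc]; abel
      have e2 : ρ g c = c + c' := by rw [hc']; abel
      have e3 : ρ g c' = c' := h1 _ (h2 _ (h3 x))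
      rw [pow_succ', act_mul, ih, map_add, map_add, map_nsmul, map_nsmul, e1, e2, e3,
        Nat.choose_succ_succ k 1, Nat.choose_one_right, add_nsmul, add_nsmul, one_nsmul, nsmul_add]
      abel
  show ρ (g ^ p ^ 1) x = ρ 1 x
  have hp2' : 2 < p := lt_of_le_of_ne hp.out.two_le (Ne.symm hp2)
  obtain ⟨m, hm⟩ := hp.out.dvd_choose_self two_ne_zero hp2'
  rw [pow_one, key, hU, add_zero, hm, mul_nsmul, hU, nsmul_zero, add_zero, act_one]

theorem le_normalizer_flag {E : Subgroup P} {B C : AddSubgroup U} (hB : ∀ e ∈ E, ∀ x ∈ B, ρ e x ∈ B)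
    (hC : ∀ e ∈ E, ∀ x ∈ C, ρ e x ∈ C) : E ≤ Subgroup.normalizer (flag ρ B C : Set P) := fun e he =>
  ZJFailure.mem_normalizer_of_forall fun h hh => by
    refine ⟨fun x hx => ?_, fun x hx => ?_, fun x => ?_⟩
    · rw [act_mul, act_mul, hh.1 _ (hB _ (E.inv_mem he) x hx), act_inv']
    · have := hB e he _ (hh.2.1 _ (hC _ (E.inv_mem he) x hx))
      rwa [map_sub, act_inv', ← act_mul, ← act_mul] at this
    · have := hC e he _ (hh.2.2 (ρ e⁻¹ x))
      rwa [map_sub, act_inv', ← act_mul, ← act_mul] at this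

variable (ρ) in
/-- A framed member over the kept members. -/
structure Anchor (T : Sylow p P) (M : Subgroup P) (cl : Set (Subgroup P)) (g₀ : P) (n : ℕ)
    (A R : Subgroup P) (z : P) : Prop where
  set_up : Setting ρ T M
  data : ClassData T M cl
  peak : Peak T M cl g₀
  mem : A ∈ cl
  le : A ≤ (T : Subgroup P)
  new : ¬ A ≤ kept T cl g₀
  normA : A ≤ Subgroup.normalizer (kept T cl g₀ : Set P)
  normR : R ≤ Subgroup.normalizer (kept T cl g₀ : Set P)
  not_le : ¬ R ≤ M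
  frame : Frame ρ n A R z
  keep : ∀ g ∈ A ⊔ R, g ∈ M → ∀ x ∈ img ρ A, ρ g x ∈ img ρ A
  gen : ∀ g ∈ A ⊔ R, g ∉ M → A ⊔ cm g A = A ⊔ R
  natural : ∃ (F : Type) (_ : Field F) (_ : Fintype F), Fintype.card F = n ∧
    Nonempty (↥(A ⊔ R : Subgroup P) ≃* Matrix.SpecialLinearGroup (Fin 2) F)

variable {cl : Set (Subgroup P)} {g₀ : P}

theorem Anchor.nontrivial (h : Anchor ρ T M cl g₀ n A R z) : Nontrivial U := by
  by_contra hn
  rw [not_nontrivial_iff_subsingleton] at hn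
  exact h.not_le (fun r _ => by
    rw [act_ext ρ h.set_up.inj (g := r) (h := 1) fun x => Subsingleton.elim _ _]; exact M.one_mem)

theorem Anchor.img_not_le (h : Anchor ρ T M cl g₀ n A R z) {k : P} (hk : k ∈ M) :
    ¬ img ρ R ≤ img ρ (cm k (T : Subgroup P)) := fun hle =>
  haveI := h.nontrivial
  h.not_le fun r hr => h.set_up.cosetStab_le hk fun x => hle (sub_mem_img ρ hr x)

theorem Anchor.exists_fix (h : Anchor ρ T M cl g₀ n A R z) {k : P} (hk : k ∈ M) :
    ∃ w ∈ fix ρ (cm k (T : Subgroup P)), w ≠ 0 ∧ w ∉ fix ρ R := by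
  haveI := h.nontrivial
  obtain ⟨w, -, hw0, hw⟩ := RootCommute.exists_fix ρ h.set_up.smul_zero (E := cm k (T : Subgroup P))
    (T.2.map _) (W := ⊤) (fun _ _ _ _ => trivial) top_ne_bot
  exact ⟨w, hw, hw0, fun hR => h.not_le fun r hr => h.set_up.stab_le hk hw hw0 (hR r hr)⟩

theorem Anchor.kept_facts (h : Anchor ρ T M cl g₀ n A R z) :
    img ρ (kept T cl g₀) ≤ fix ρ A ⊓ fix ρ R ∧ img ρ A ≤ fix ρ (kept T cl g₀) ∧
      img ρ R ≤ fix ρ (kept T cl g₀) := by
  have hU := h.set_up.smul_zero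
  have hp2 := h.set_up.p_odd
  have F := h.frame
  set X := kept T cl g₀ with hX
  have hcm : ∀ g ∈ Subgroup.normalizer (X : Set P), cm g X = X := fun g hg =>
    Local.map_conj_eq_of_mem_normalizer hg
  have hI : ∀ g ∈ Subgroup.normalizer (X : Set P), ∀ x ∈ img ρ X, ρ g x ∈ img ρ X := fun g hg x hx => by
    have := mem_img_cm ρ (g := g) hx
    rwa [hcm g hg] at this
  have hFx : ∀ g ∈ Subgroup.normalizer (X : Set P), ∀ x ∈ fix ρ X, ρ g x ∈ fix ρ X := fun g hg x hx => by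
    rw [← hcm g hg, mem_fix_cm, act_inv]; exact hx
  have hXT : img ρ X ≤ img ρ (cm 1 (T : Subgroup P)) := by rw [cm_one]; exact img_mono ρ (kept_le g₀)
  have hnot : ∀ x ∈ img ρ X, x ∈ fix ρ R := fun x hx => by
    by_contra hxR
    exact h.img_not_le M.one_mem ((F.regR.img_le_of hxR fun r hr =>
      sub_mem (hI r (h.normR hr) x hx) hx).trans hXT)
  refine ⟨fun u hu => ⟨?_, hnot u hu⟩, ?_⟩
  · by_contra huA
    obtain ⟨a, ha, hau⟩ : ∃ a ∈ A, ρ a u ≠ u := by
      by_contra hno; push Not at hno; exact huA hno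
    have hd : ρ a u - u ∈ img ρ X := sub_mem (hI a (h.normA ha) u hu) hu
    exact hau (sub_eq_zero.1 (F.eq_zero_A hU hp2 (sub_mem_img ρ ha u) (hnot _ hd)))
  obtain ⟨w, hw, hw0, hwR⟩ := h.exists_fix M.one_mem
  rw [cm_one] at hw
  have hwX : w ∈ fix ρ X := fix_antitone ρ (kept_le g₀) hw
  have hR' : img ρ R ≤ fix ρ X := F.regR.img_le_of hwR fun r hr =>
    sub_mem (hFx r (h.normR hr) w hwX) hwX
  refine ⟨?_, hR'⟩
  obtain ⟨r, hr, hrw⟩ : ∃ r ∈ R, ρ r w ≠ w := by
    by_contra hno; push Not at hno; exact hwR hno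
  have hy := sub_mem_img ρ hr w
  exact F.regA.img_le_of (fun hA => hrw (sub_eq_zero.1 (F.eq_zero_R hU hp2 hy hA))) fun a ha =>
    sub_mem (hFx a (h.normA ha) _ (hR' hy)) (hR' hy)

/-- A flag group around the frame lies in a Sylow subgroup of `M`. -/
theorem Anchor.exists_sylow (h : Anchor ρ T M cl g₀ n A R z) {B C : AddSubgroup U} (hA : A ≤ flag ρ B C)
    (hB : ∀ e ∈ kept T cl g₀, ∀ x ∈ B, ρ e x ∈ B) (hC : ∀ e ∈ kept T cl g₀, ∀ x ∈ C, ρ e x ∈ C) :
    ∃ k ∈ M, flag ρ B C ≤ cm k (T : Subgroup P) := by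
  have hH : IsPGroup p ↥(kept T cl g₀ ⊔ flag ρ B C) :=
    (T.2.to_le (kept_le g₀)).to_sup_of_normal_right' (isPGroup_flag h.set_up.inj h.set_up.smul_zero h.set_up.p_odd B C)
      (le_normalizer_flag hB hC)
  obtain ⟨a, ha⟩ := ZJFailure.exists_le_cm T hH
  refine ⟨a, ?_, le_sup_right.trans ha⟩
  have := unambiguous h.data h.peak (a := 1) (b := a) (E := kept T cl g₀ ⊔ A) le_sup_left
    (by rw [cm_one]; exact sup_le (kept_le g₀) h.le) ((sup_le_sup_left hA _).trans ha) h.mem le_sup_right h.new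
  rwa [inv_one, one_mul] at this

/-- A map trivial on the fixed points into the fixed points ends in the displacements. -/
theorem Anchor.shear (h : Anchor ρ T M cl g₀ n A R z) {g : P} (hg : ∀ x ∈ fix ρ A, ρ g x = x)
    (hg' : ∀ u, ρ g u - u ∈ fix ρ A) (u : U) : ρ g u - u ∈ img ρ A := by
  have hU := h.set_up.smul_zero
  have hp2 := h.set_up.p_odd
  have F := h.frame
  obtain ⟨hXV, -, -⟩ := h.kept_facts
  set V0 := fix ρ A ⊓ fix ρ R with hV0
  have hV0le : V0 ≤ fix ρ A := inf_le_left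
  have hz : ∀ x ∈ fix ρ A, ρ z x ∈ fix ρ A ∧ ρ z⁻¹ x ∈ fix ρ A := fun x hx => by
    obtain ⟨x₁, hx₁, hv⟩ := (F.mem_fix_iff hU hp2).1 hx
    have e : x = x₁ + (x - x₁) := by abel
    rw [e]
    constructor
    · rw [map_add, F.negA _ hx₁, F.pos hv]; exact add_mem (neg_mem (F.regA.quad hx₁)) hv.1
    · rw [map_add, F.inv_z (F.negA _ hx₁), inv_fixed ρ (F.pos hv)]
      exact add_mem (neg_mem (F.regA.quad hx₁)) hv.1
  set d := z * g⁻¹ * z⁻¹ * g with hd
  have hdfix : ∀ x ∈ fix ρ A, ρ d x = x := fun x hx => by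
    rw [hd, act_mul, hg x hx, act_mul, act_mul, inv_fixed ρ (hg _ (hz x hx).2), act_inv']
  have hdy : ∀ y ∈ img ρ R, ∃ x₁ ∈ img ρ A, ρ g y - y - x₁ ∈ V0 ∧
      ρ d y = y + ((ρ g y - y - x₁) + (ρ g y - y - x₁)) := by
    intro y hy
    obtain ⟨x₁, hx₁, hv⟩ := (F.mem_fix_iff hU hp2).1 (hg' y)
    refine ⟨x₁, hx₁, hv, ?_⟩
    set v := ρ g y - y - x₁ with hvdef
    have e1 : ρ g y = y + x₁ + v := by rw [hvdef]; abel
    have e2 : ρ g⁻¹ y = y - x₁ - v := by
      have := congrArg (ρ g⁻¹) e1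
      rw [act_inv, map_add, map_add, inv_fixed ρ (hg _ (F.regA.quad hx₁)), inv_fixed ρ (hg _ hv.1)] at this
      calc ρ g⁻¹ y = (ρ g⁻¹ y + x₁ + v) - x₁ - v := by abel
        _ = _ := by rw [← this]
    rw [hd, act_mul, act_mul, act_mul, e1]
    simp only [map_add, map_sub, map_neg, F.inv_z (F.negR _ hy), F.inv_z (F.negA _ hx₁),
      inv_fixed ρ (F.pos hv), e2, inv_fixed ρ (hg _ (F.regA.quad hx₁)), inv_fixed ρ (hg _ hv.1),
      F.negR _ hy, F.negA _ hx₁, F.pos hv]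
    abel
  have hAflag : A ≤ flag ρ V0 (fix ρ A) := fun a ha =>
    ⟨fun x hx => hx.1 a ha, fun x hx => by rw [hx a ha, sub_self]; exact zero_mem _,
      fun x => F.regA.quad (sub_mem_img ρ ha x)⟩
  obtain ⟨k, hk, hle⟩ := h.exists_sylow hAflag
    (fun e he x hx => by have := add_mem (hXV (sub_mem_img ρ he x)) hx; rwa [sub_add_cancel] at this)
    (fun e he x hx => by have := add_mem (hXV (sub_mem_img ρ he x)).1 hx; rwa [sub_add_cancel] at this)
  obtain ⟨w, hw, hw0, hwR⟩ := h.exists_fix hk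
  have hwA : w ∈ fix ρ A := fix_antitone ρ (hAflag.trans hle) hw
  have hdR : img ρ R ≤ (fix ρ (Subgroup.zpowers d)) := by
    refine F.regR.img_le_of hwR fun r hr => ?_
    obtain ⟨x, hx, hv⟩ := (F.mem_fix_iff hU hp2).1 hwA
    set D := r * d * r⁻¹ * d⁻¹ with hD
    -- the values of `D`
    have hDx : ∀ x' ∈ img ρ A, ρ D x' = x' - (ρ d (ρ r x' - x') - (ρ r x' - x')) ∧
        ρ d (ρ r x' - x') - (ρ r x' - x') ∈ V0 := fun x' hx' => by
      obtain ⟨x₁, -, hv₁, e⟩ := hdy _ (sub_mem_img ρ hr x')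
      have e' : ρ d (ρ r x' - x') - (ρ r x' - x') =
          (ρ g (ρ r x' - x') - (ρ r x' - x') - x₁) + (ρ g (ρ r x' - x') - (ρ r x' - x') - x₁) := by
        rw [e]; abel
      refine ⟨?_, e' ▸ add_mem hv₁ hv₁⟩
      set y := ρ r x' - x' with hy
      have hδ : ρ d y - y ∈ V0 := e' ▸ add_mem hv₁ hv₁
      have hry : ρ r y = y := F.regR.quad (sub_mem_img ρ hr x') r hr
      have h1 : ρ r⁻¹ x' = x' - y := by
        have h0 : ρ r (x' - y) = x' := by rw [map_sub, hry, hy]; abel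
        conv_lhs => rw [← h0, act_inv]
      have h2 : ρ r (ρ d y) = ρ d y := by
        have h3 := hδ.2 r hr
        rw [map_sub, hry] at h3
        exact sub_left_inj.1 h3
      rw [hD, act_mul, inv_fixed ρ (hdfix x' (F.regA.quad hx')), act_mul, h1, act_mul, map_sub,
        hdfix x' (F.regA.quad hx'), map_sub, h2]
      rw [hy]; abel
    have hDv : ∀ v ∈ V0, ρ D v = v := fun v hv => by
      rw [hD, act_mul, inv_fixed ρ (hdfix v hv.1), act_mul, inv_fixed ρ (hv.2 r hr), act_mul, hdfix v hv.1, hv.2 r hr]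
    have hDmem : D ∈ flag ρ V0 (fix ρ A) := by
      refine ⟨hDv, fun x' hx' => ?_, fun u' => ?_⟩
      · obtain ⟨x₁, hx₁, hv₁⟩ := (F.mem_fix_iff hU hp2).1 hx'
        rw [show x' = x₁ + (x' - x₁) by abel, map_add, (hDx x₁ hx₁).1, hDv _ hv₁]
        have : x₁ - (ρ d (ρ r x₁ - x₁) - (ρ r x₁ - x₁)) + (x' - x₁) - (x₁ + (x' - x₁)) =
            -(ρ d (ρ r x₁ - x₁) - (ρ r x₁ - x₁)) := by abel
        rw [this]; exact neg_mem (hDx x₁ hx₁).2
      · obtain ⟨x₁, hx₁, y, hy, hv₁⟩ := F.dec u'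
        have hDy : ρ D y = y := by
          obtain ⟨x₂, -, hv₂, e⟩ := hdy y hy
          set δ := (ρ g y - y - x₂) + (ρ g y - y - x₂) with hδdef
          have hδ : δ ∈ V0 := add_mem hv₂ hv₂
          have h1 : ρ d⁻¹ y = y - δ := by
            have h0 : ρ d (y - δ) = y := by rw [map_sub, e, hdfix δ hδ.1]; abel
            conv_lhs => rw [← h0, act_inv]
          rw [hD, act_mul, h1, act_mul, map_sub, inv_fixed ρ (F.regR.quad hy r hr),
            inv_fixed ρ (hδ.2 r hr), act_mul, map_sub, e, hdfix δ hδ.1, add_sub_cancel_right,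
            F.regR.quad hy r hr]
        rw [show u' = x₁ + y + (u' - x₁ - y) by abel, map_add, map_add, (hDx x₁ hx₁).1, hDy, hDv _ hv₁]
        have : x₁ - (ρ d (ρ r x₁ - x₁) - (ρ r x₁ - x₁)) + y + (u' - x₁ - y) - (x₁ + y + (u' - x₁ - y)) =
            -(ρ d (ρ r x₁ - x₁) - (ρ r x₁ - x₁)) := by abel
        rw [this]; exact neg_mem (hDx x₁ hx₁).2.1
    have e1 : ρ D w = w := hw D (hle hDmem)
    rw [show w = x + (w - x) by abel, map_add, (hDx x hx).1, hDv _ hv, add_left_inj, sub_eq_self,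
      sub_eq_zero] at e1
    have e2 : ρ r w - w = ρ r x - x := by
      have := hv.2 r hr
      rw [map_sub] at this
      calc ρ r w - w = (ρ r w - ρ r x) + ρ r x - w := by abel
        _ = (w - x) + ρ r x - w := by rw [this]
        _ = _ := by abel
    intro s hs
    obtain ⟨i, rfl⟩ := Subgroup.mem_zpowers_iff.1 hs
    rw [e2]
    exact (Subgroup.zpowers_le.2 (show d ∈ pointStab ρ (ρ r x - x) from e1) ⟨i, rfl⟩ :)
  obtain ⟨x, hx, y, hy, hv⟩ := F.dec u
  obtain ⟨x₁, hx₁, hv₁, e⟩ := hdy y hy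
  have h2 := hdR hy d (Subgroup.mem_zpowers d)
  rw [e, add_eq_left] at h2
  have h3 := sub_eq_zero.1 (eq_zero_of_add_self hU hp2 h2)
  rw [show u = x + y + (u - x - y) by abel, map_add, map_add, hg x (F.regA.quad hx), hg _ hv.1]
  rw [show x + ρ g y + (u - x - y) - (x + y + (u - x - y)) = ρ g y - y by abel, h3]
  exact hx₁

/-- A map trivial on the displacements into the displacements fixes the common fixed vectors. -/
theorem Anchor.shear' (h : Anchor ρ T M cl g₀ n A R z) {g : P} (hg : ∀ x ∈ img ρ A, ρ g x = x)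
    (hg' : ∀ u, ρ g u - u ∈ img ρ A) {v : U} (hv : v ∈ fix ρ A ⊓ fix ρ R) : ρ g v = v := by
  have hU := h.set_up.smul_zero
  have hp2 := h.set_up.p_odd
  have F := h.frame
  obtain ⟨-, hXA, hXR⟩ := h.kept_facts
  set V0 := fix ρ A ⊓ fix ρ R with hV0
  set Um := img ρ A ⊔ img ρ R with hUm
  have hzA : ∀ x ∈ img ρ A, ρ z⁻¹ x = -x := fun x hx => F.inv_z (F.negA x hx)
  set d := z * g⁻¹ * z⁻¹ * g with hd
  have hdx : ∀ x ∈ img ρ A, ρ d x = x := fun x hx => by
    rw [hd, act_mul, hg x hx, act_mul, hzA x hx, act_mul, map_neg, inv_fixed ρ (hg x hx), map_neg,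
      F.negA x hx, neg_neg]
  have hdy : ∀ y ∈ img ρ R, ρ d y = y := fun y hy => by
    set x := ρ g y - y with hx
    have hxA : x ∈ img ρ A := hg' y
    have e1 : ρ g y = y + x := by rw [hx]; abel
    have e2 : ρ g⁻¹ y = y - x := by
      have h0 : ρ g (y - x) = y := by rw [map_sub, hg x hxA, e1]; abel
      conv_lhs => rw [← h0, act_inv]
    rw [hd, act_mul, e1, act_mul, map_add, F.inv_z (F.negR y hy), hzA x hxA, act_mul, map_add, map_neg, map_neg,
      e2, inv_fixed ρ (hg x hxA), map_add, map_neg, map_neg, map_sub, F.negR y hy, F.negA x hxA]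
    abel
  have hdv : ∀ v' ∈ V0, ρ d v' = v' + ((ρ g v' - v') + (ρ g v' - v')) := fun v' hv' => by
    set x := ρ g v' - v' with hx
    have hxA : x ∈ img ρ A := hg' v'
    have e1 : ρ g v' = v' + x := by rw [hx]; abel
    have e2 : ρ g⁻¹ v' = v' - x := by
      have h0 : ρ g (v' - x) = v' := by rw [map_sub, hg x hxA, e1]; abel
      conv_lhs => rw [← h0, act_inv]
    rw [hd, act_mul, e1, act_mul, map_add, inv_fixed ρ (F.pos hv'), hzA x hxA, act_mul, map_add, map_neg,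
      e2, inv_fixed ρ (hg x hxA), map_add, map_neg, map_sub, F.pos hv', F.negA x hxA]
    abel
  have hUmA : ∀ a ∈ A, ∀ x ∈ Um, ρ a x - x ∈ img ρ A := fun a ha x _ => sub_mem_img ρ ha x
  have hAflag : A ≤ flag ρ (img ρ A) Um := fun a ha =>
    ⟨fun x hx => F.regA.quad hx a ha, hUmA a ha, fun x => (le_sup_left : img ρ A ≤ Um) (sub_mem_img ρ ha x)⟩
  have hUmX : Um ≤ fix ρ (kept T cl g₀) := sup_le hXA hXR
  obtain ⟨k, hk, hle⟩ := h.exists_sylow hAflag
    (fun e he x hx => by rw [hXA hx e he]; exact hx) (fun e he x hx => by rw [hUmX hx e he]; exact hx)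
  set t := (ρ g v - v) + (ρ g v - v) with ht
  have htA : t ∈ img ρ A := add_mem (hg' v) (hg' v)
  by_contra hne
  have ht0 : t ≠ 0 := fun e => hne (sub_eq_zero.1 (eq_zero_of_add_self hU hp2 e))
  refine h.img_not_le hk (F.regR.img_le_of (fun e => ht0 (F.eq_zero_A hU hp2 htA e)) fun r hr => ?_)
  set D := r * d * r⁻¹ * d⁻¹ with hD
  have hDx : ∀ x ∈ img ρ A, ρ D x = x := fun x hx => by
    set y := ρ r x - x with hy
    have hry : ρ r y = y := F.regR.quad (sub_mem_img ρ hr x) r hr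
    have h1 : ρ r⁻¹ x = x - y := by
      have h0 : ρ r (x - y) = x := by rw [map_sub, hry, hy]; abel
      conv_lhs => rw [← h0, act_inv]
    rw [hD, act_mul, inv_fixed ρ (hdx x hx), act_mul, h1, act_mul, map_sub, hdx x hx,
      hdy y (sub_mem_img ρ hr x), map_sub, hry, hy]
    abel
  have hDy : ∀ y ∈ img ρ R, ρ D y = y := fun y hy => by
    rw [hD, act_mul, inv_fixed ρ (hdy y hy), act_mul, inv_fixed ρ (F.regR.quad hy r hr), act_mul, hdy y hy,
      F.regR.quad hy r hr]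
  have hDv : ∀ v' ∈ V0, ρ D v' = v' + (ρ r ((ρ g v' - v') + (ρ g v' - v')) - ((ρ g v' - v') + (ρ g v' - v'))) := by
    intro v' hv'
    have e := hdv v' hv'
    set s := (ρ g v' - v') + (ρ g v' - v') with hs
    have hsA : s ∈ img ρ A := add_mem (hg' v') (hg' v')
    set y := ρ r s - s with hy
    have hry : ρ r y = y := F.regR.quad (sub_mem_img ρ hr s) r hr
    have h1 : ρ d⁻¹ v' = v' - s := by
      have h0 : ρ d (v' - s) = v' := by rw [map_sub, e, hdx s hsA]; abel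
      conv_lhs => rw [← h0, act_inv]
    have h2 : ρ r⁻¹ s = s - y := by
      have h0 : ρ r (s - y) = s := by rw [map_sub, hry, hy]; abel
      conv_lhs => rw [← h0, act_inv]
    rw [hD, act_mul, h1, act_mul, map_sub (ρ r⁻¹), inv_fixed ρ (hv'.2 r hr), h2, act_mul, map_sub (ρ d) v',
      map_sub (ρ d) s, e, hdx s hsA, hdy y (sub_mem_img ρ hr s),
      show v' + s - (s - y) = v' + y by abel, map_add, hv'.2 r hr, hry]
  have hDmem : D ∈ flag ρ (img ρ A) Um := by
    refine ⟨hDx, fun x hx => ?_, fun u => ?_⟩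
    · obtain ⟨x₁, hx₁, y, hy, rfl⟩ := AddSubgroup.mem_sup.1 hx
      rw [map_add, hDx x₁ hx₁, hDy y hy, sub_self]; exact zero_mem _
    · obtain ⟨x₁, hx₁, y, hy, hv₁⟩ := F.dec u
      rw [show u = x₁ + y + (u - x₁ - y) by abel, map_add, map_add, hDx x₁ hx₁, hDy y hy, hDv _ hv₁,
        add_sub_add_left_eq_sub, add_sub_cancel_left]
      exact (le_sup_right : img ρ R ≤ Um) (sub_mem_img ρ hr _)
  have hmem := sub_mem_img ρ (hle hDmem) v
  rwa [hDv v hv, add_sub_cancel_left] at hmem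

/-- The commutator of two quadratic elements. -/
theorem act_commutator {a s : P} (ha : ∀ u, ρ a (ρ a u - u) = ρ a u - u)
    (hs : ∀ u, ρ s (ρ s u - u) = ρ s u - u) (has : ∀ u, ρ a (ρ s u - u) = ρ s u - u) (u : U) :
    ρ (s * a * s⁻¹ * a⁻¹) u = u + (ρ s (ρ a u - u) - (ρ a u - u)) := by
  have e1 : ρ a⁻¹ u = u - (ρ a u - u) := by
    have h0 : ρ a (u - (ρ a u - u)) = u := by rw [map_sub, ha]; abel
    conv_lhs => rw [← h0, act_inv]
  have e2 : ∀ w, ρ s⁻¹ w = w - (ρ s w - w) := fun w => by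
    have h0 : ρ s (w - (ρ s w - w)) = w := by rw [map_sub, hs]; abel
    conv_lhs => rw [← h0, act_inv]
  rw [act_mul, e1, act_mul, e2, act_mul]
  set a' := ρ a u - u with ha'
  set w := u - a' with hw
  rw [map_sub (ρ a), has w, hw, map_sub (ρ a) u, ha u]
  have e3 : ρ a u - a' = u := by rw [ha']; abel
  rw [e3, map_sub (ρ s) u, hs, map_sub (ρ s) u]
  abel

/-- Two regular subgroups of one `p`-group do not act nontrivially on each other's displacements both ways. -/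
theorem not_both (hU : ∀ x : U, p • x = 0) {B S E : Subgroup P} (hE : IsPGroup p E) (hB : B ≤ E) (hS : S ≤ E)
    (rB : Regular ρ n B) (rS : Regular ρ n S) : img ρ B ≤ fix ρ S ∨ img ρ S ≤ fix ρ B := by
  by_contra hno
  push Not at hno
  obtain ⟨hno1, hno2⟩ := hno
  obtain ⟨x, hx, hxS⟩ := SetLike.not_le_iff_exists.1 hno1
  obtain ⟨y, hy, hyB⟩ := SetLike.not_le_iff_exists.1 hno2
  obtain ⟨W, ⟨hWi, hWB⟩, hmin⟩ := Set.exists_min_image
    {W : AddSubgroup U | (∀ g ∈ E, ∀ w ∈ W, ρ g w ∈ W) ∧ img ρ B ≤ W} (fun W => Nat.card W) (Set.toFinite _)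
    ⟨⊤, fun _ _ _ _ => trivial, le_top⟩
  set D := AddSubgroup.closure {w | ∃ a ∈ E, ∃ x ∈ W, w = ρ a x - x} with hD
  have hne : W ≠ ⊥ := fun e => hxS (by
    have h0 : x = 0 := AddSubgroup.mem_bot.1 (e.le (hWB hx))
    rw [h0]; exact zero_mem _)
  have hlt := disp_lt ρ hU hE hWi hne
  have hDi : ∀ g ∈ E, ∀ w ∈ D, ρ g w ∈ D := fun g hg w hw => by
    have := add_mem (AddSubgroup.subset_closure (k := {w | ∃ a ∈ E, ∃ x ∈ W, w = ρ a x - x})
      ⟨g, hg, w, hlt.le hw, rfl⟩) hw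
    rwa [sub_add_cancel] at this
  have hSD : img ρ S ≤ D := rS.img_le_of hxS fun s hs => AddSubgroup.subset_closure ⟨s, hS hs, x, hWB hx, rfl⟩
  have hBD : img ρ B ≤ D := rB.img_le_of hyB fun b hb =>
    AddSubgroup.subset_closure ⟨b, hB hb, y, hlt.le (hSD hy), rfl⟩
  have := hmin D ⟨hDi, hBD⟩
  exact hlt.ne (AddSubgroup.eq_of_le_of_card_ge hlt.le this)

/-- The framed member acts trivially on every member's displacements and conversely. -/
theorem Anchor.separate (h : Anchor ρ T M cl g₀ n A R z) {S : Subgroup P} (hS : S ≤ (T : Subgroup P))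
    (rS : Regular ρ n S) : img ρ A ≤ fix ρ S ∧ img ρ S ≤ fix ρ A := by
  have hU := h.set_up.smul_zero
  have hp2 := h.set_up.p_odd
  have F := h.frame
  obtain ⟨a₀, ha₀, ha₀1⟩ : ∃ a ∈ A, a ≠ 1 := by
    by_contra hno
    push Not at hno
    exact h.new (fun a ha => by rw [hno a ha]; exact one_mem _)
  have hq : ∀ {B : Subgroup P}, Regular ρ n B → ∀ b ∈ B, ∀ u, ρ b (ρ b u - u) = ρ b u - u := fun rB b hb u =>
    rB.quad (sub_mem_img ρ hb u) b hb
  have hfirst : img ρ A ≤ fix ρ S := by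
    intro x hx
    by_contra hxS
    have hSA : img ρ S ≤ fix ρ A :=
      (not_both hU T.2 h.le hS F.regA rS).resolve_left fun hle => hxS (hle hx)
    obtain ⟨u, hu⟩ := F.regA.exists_vec ha₀ ha₀1 hx
    have key : img ρ S ≤ img ρ A := rS.img_le_of hxS fun s hs => by
      have hc := act_commutator (hq F.regA a₀ ha₀) (hq rS s hs) (fun w => hSA (sub_mem_img ρ hs w) a₀ ha₀)
      have := h.shear (g := s * a₀ * s⁻¹ * a₀⁻¹) (fun w hw => by rw [hc, hw a₀ ha₀, sub_self, map_zero, sub_zero, add_zero])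
        (fun w => by rw [hc, add_sub_cancel_left]; exact hSA (sub_mem_img ρ hs _)) u
      rwa [hc, add_sub_cancel_left, hu] at this
    exact hxS (rS.quad ((AddSubgroup.eq_of_le_of_card_ge key
      (F.regA.card_img.trans rS.card_img.symm).le).ge hx))
  refine ⟨hfirst, ?_⟩
  by_contra hno
  have hV : fix ρ A ⊓ fix ρ R ≤ fix ρ S := by
    intro v hv
    by_contra hvS
    refine hno (rS.img_le_of hvS fun s hs a ha => sub_eq_zero.1 ?_)
    have hc := act_commutator (hq rS s hs) (hq F.regA a ha) (fun w => hfirst (sub_mem_img ρ ha w) s hs)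
    have := h.shear' (g := a * s * a⁻¹ * s⁻¹) (fun x hx => by rw [hc, hfirst hx s hs, sub_self, map_zero, sub_zero, add_zero])
      (fun w => by rw [hc, add_sub_cancel_left]; exact sub_mem_img ρ ha _) hv
    rw [hc, add_eq_left] at this
    exact this
  have hle : fix ρ A ≤ fix ρ S := fun w hw => by
    obtain ⟨x, hx, hv⟩ := (F.mem_fix_iff hU hp2).1 hw
    have := add_mem (hV hv) (hfirst hx)
    rwa [sub_add_cancel] at this
  have heq : fix ρ A = fix ρ S := AddSubgroup.eq_of_le_of_card_ge hle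
    (Nat.le_of_mul_le_mul_left (rS.idx.symm.trans F.regA.idx).le (by rw [← rS.card_grp]; exact Nat.card_pos))
  exact hno (heq ▸ rS.quad)

/-- Two subgroups trivial on each other's displacements commute. -/
theorem commute_of_separate (hρ : Function.Injective ρ) {B S : Subgroup P}
    (rB : Regular ρ n B) (rS : Regular ρ n S) (h1 : img ρ B ≤ fix ρ S) (h2 : img ρ S ≤ fix ρ B) {b s : P}
    (hb : b ∈ B) (hs : s ∈ S) : b * s = s * b := by
  refine act_ext ρ hρ fun u => ?_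
  rw [act_mul, act_mul]
  have e1 := h2 (sub_mem_img ρ hs u) b hb
  have e2 := h1 (sub_mem_img ρ hb u) s hs
  rw [map_sub] at e1 e2
  calc ρ b (ρ s u) = (ρ b (ρ s u) - ρ b u) + ρ b u := by abel
    _ = (ρ s u - u) + ρ b u := by rw [e1]
    _ = (ρ s (ρ b u) - (ρ s (ρ b u) - ρ s u)) - u + ρ b u := by abel
    _ = (ρ s (ρ b u) - (ρ b u - u)) - u + ρ b u := by rw [e2]
    _ = _ := by abel

end CfsgLib.RootCommute
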