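import Cfsg.Agent.Lib.RootCommute.Natural
import Cfsg.Agent.Lib.RootCommute.Shear

/-!
For odd `p`: when the overgroups of a Sylow subgroup lie in one proper subgroup and an offender exists,
the least offenders in a suitable class generate an abelian, weakly closed best offender.
-/

set_option autoImplicit false
set_option linter.unusedSectionVars false
set_option linter.style.haveILetI false

namespace CfsgLib.RootCommute

open CfsgLib CfsgLib.StrongFusion
open CfsgLib.SL2Pair (fix)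

universe u v

variable {P : Type u} [Group P] [Finite P] {U : Type v} [AddCommGroup U] [Finite U] {ρ : P →* AddMonoid.End U}
  {p : ℕ} [hp : Fact p.Prime]

variable (ρ p) in
/-- An elementary abelian subgroup losing nothing. -/
structure IsOffender (E : Subgroup P) : Prop where
  ne_bot : E ≠ ⊥
  comm : ∀ a ∈ E, ∀ b ∈ E, a * b = b * a
  pow : ∀ a ∈ E, a ^ p = 1
  big : Nat.card U ≤ mu ρ E

variable (ρ p) in
/-- An offender of least order. -/
def IsLeastOffender (E : Subgroup P) : Prop :=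
  IsOffender ρ p E ∧ ∀ B, IsOffender ρ p B → Nat.card E ≤ Nat.card B

theorem IsOffender.pgroup {E : Subgroup P} (h : IsOffender ρ p E) : IsPGroup p E := fun a =>
  ⟨1, Subtype.ext (by rw [pow_one]; exact h.pow a a.2)⟩

theorem IsOffender.conj {E : Subgroup P} (h : IsOffender ρ p E) (g : P) : IsOffender ρ p (cm g E) where
  ne_bot e := h.ne_bot (by rw [← cm_inv_cm g E, e, cm, Subgroup.map_bot])
  comm := by
    rintro _ ⟨a, ha, rfl⟩ _ ⟨b, hb, rfl⟩
    rw [← map_mul, ← map_mul, h.comm a ha b hb]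
  pow := by
    rintro _ ⟨a, ha, rfl⟩
    rw [← map_pow, h.pow a ha, map_one]
  big := by
    have hc : Nat.card (cm g E) = Nat.card E := Subgroup.card_map_of_injective (MulAut.conj g).injective
    rw [mu, hc, card_fix_cm]; exact h.big

theorem IsLeastOffender.conj {E : Subgroup P} (h : IsLeastOffender ρ p E) (g : P) :
    IsLeastOffender ρ p (cm g E) :=
  ⟨h.1.conj g, fun B hB => (Subgroup.card_map_of_injective (MulAut.conj g).injective).trans_le (h.2 B hB)⟩

variable {T : Sylow p P} {M : Subgroup P}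

theorem Setting.nontrivial_of_ne (h : Setting ρ T M) {E : Subgroup P} (hE : E ≠ ⊥) : Nontrivial U := by
  by_contra hn
  rw [not_nontrivial_iff_subsingleton] at hn
  exact hE ((Subgroup.eq_bot_iff_forall E).2 fun a _ => act_ext ρ h.inj fun x => Subsingleton.elim _ _)

/-- A least offender normalising the kept members of a class, not among them, has a frame. -/
theorem exists_anchor (hs : Setting ρ T M) {cl : Set (Subgroup P)} (hd : ClassData T M cl)
    (hcl : ∀ R ∈ cl, IsLeastOffender ρ p R) {g₀ : P} (hg : Peak T M cl g₀) {C : Subgroup P} (hC : C ∈ cl)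
    (hCT : C ≤ (T : Subgroup P)) (hCN : C ≤ Subgroup.normalizer (kept T cl g₀ : Set P))
    (hCX : ¬ C ≤ kept T cl g₀) : ∃ R z, Anchor ρ T M cl g₀ (Nat.card C) C R z := by
  classical
  haveI := hs.nontrivial_of_ne (hd.ne_bot C hC)
  obtain ⟨k, hk, hkN, Q, Γ, hAQ, hQΓ, hQM, hQp, hidx, hΓM, hΓN, hgen⟩ := exists_least_pair hd hg hC hCT hCN hCX
  set A := cm k C with hA
  have hAoff := (hcl C hC).conj k
  have hcard : Nat.card A = Nat.card C := Subgroup.card_map_of_injective (MulAut.conj k).injective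
  have hAΓ : A ≤ Γ := hAQ.trans hQΓ
  set σ : ↥Γ →* AddMonoid.End U := ρ.comp Γ.subtype with hσdef
  have hσ : Function.Injective σ := hs.inj.comp Γ.subtype_injective
  let T₀ : Sylow p ↥Γ := (hQp.of_equiv (Subgroup.subgroupOfEquivOfLe hQΓ).symm).toSylow hidx
  have hT₀ : (T₀ : Subgroup ↥Γ) = Q.subgroupOf Γ := rfl
  set A' := A.subgroupOf Γ with hA'
  have hfix : ∀ E : Subgroup ↥Γ, fix σ E = fix ρ (E.map Γ.subtype) := fun E => by
    ext x
    exact ⟨fun h a ha => by obtain ⟨b, hb, rfl⟩ := ha; exact h b hb, fun h b hb => h b ⟨b, hb, rfl⟩⟩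
  have hmu : ∀ E : Subgroup ↥Γ, mu σ E = mu ρ (E.map Γ.subtype) := fun E => by
    unfold mu; rw [hfix, Subgroup.card_map_of_injective Γ.subtype_injective]
  have hmapA : A'.map Γ.subtype = A := by rw [hA', Subgroup.subgroupOf_map_subtype, inf_eq_left.2 hAΓ]
  have hA'card : Nat.card A' = Nat.card C := (Nat.card_congr (Subgroup.subgroupOfEquivOfLe hAΓ).toEquiv).trans hcard
  have hgen' : ∀ x, x ∉ M.subgroupOf Γ → A' ⊔ cm x A' = ⊤ := by
    intro x hx
    apply Subgroup.map_injective Γ.subtype_injective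
    rw [Subgroup.map_sup, hmapA, cm, Subgroup.map_map, show Γ.subtype.comp (MulAut.conj x).toMonoidHom =
      (MulAut.conj (x : P)).toMonoidHom.comp Γ.subtype from MonoidHom.ext fun y => rfl, ← Subgroup.map_map, hmapA,
      ← MonoidHom.range_eq_map, Subgroup.range_subtype]
    exact hgen x x.2 hx
  have hM0 : M.subgroupOf Γ ≠ ⊤ := fun e => hΓM (Subgroup.subgroupOf_eq_top.1 e)
  obtain ⟨x₀, hx₀, hx₀M⟩ : ∃ x ∈ Γ, x ∉ M := SetLike.not_le_iff_exists.1 hΓM
  have hmove : ∃ w ∈ fix σ (T₀ : Subgroup ↥Γ), ∃ g, σ g w ≠ w := by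
    obtain ⟨k', hk', hQk⟩ := exists_conj_in hd hQp hQM
    obtain ⟨w, -, hw0, hw⟩ := exists_fix ρ hs.smul_zero (E := cm k' (T : Subgroup P)) (T.2.map _) (W := ⊤)
      (fun _ _ _ _ => trivial) top_ne_bot
    refine ⟨w, ?_, ?_⟩
    · rw [hT₀]
      exact fun a ha => hw (a : P) (hQk ha)
    · by_contra hno
      push Not at hno
      exact hΓM fun g hg => hs.stab_le hk' hw hw0 (hno ⟨g, hg⟩)
  obtain ⟨hreg, z, hzneg, hzc, hdec, hkeep, F, iF, iF', hFc, ⟨eF⟩⟩ := exists_torus hσ hs.smul_zero hs.p_odd T₀ hM0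
    (hT₀ ▸ fun a ha => hQM ha) (A := A') (hT₀ ▸ fun a ha => hAQ ha)
    (fun e => hAoff.1.ne_bot (show A = ⊥ by rw [← hmapA, e, Subgroup.map_bot]))
    (fun a ha b hb => Subtype.ext (hAoff.1.comm a ha b hb)) (fun a ha => Subtype.ext (by simpa using hAoff.1.pow a ha))
    (by rw [hmu, hmapA]; exact hAoff.1.big)
    (fun E hE hE0 hEne => by
      rw [hmu, hmu, hmapA]
      refine lt_of_lt_of_le (lt_of_not_ge fun hle => ?_) hAoff.1.big
      have hEA : E.map Γ.subtype ≤ A := hmapA ▸ Subgroup.map_mono hE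
      have hoff : IsOffender ρ p (E.map Γ.subtype) :=
        ⟨fun e => hE0 (Subgroup.map_injective Γ.subtype_injective (e.trans (Subgroup.map_bot _).symm)),
          fun a ha b hb => hAoff.1.comm a (hEA ha) b (hEA hb), fun a ha => hAoff.1.pow a (hEA ha), hle⟩
      exact hEne (Subgroup.map_injective Γ.subtype_injective
        ((Subgroup.eq_of_le_of_card_ge hEA (hAoff.2 _ hoff)).trans hmapA.symm)))
    hgen' hmove
  have himg : img σ A' = img ρ A := le_antisymm
    ((img_le σ).2 fun a ha u => sub_mem_img ρ (show (a : P) ∈ A from ha) u)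
    ((img_le ρ).2 fun a ha u => sub_mem_img σ (a := (⟨a, hAΓ ha⟩ : ↥Γ)) (show (⟨a, hAΓ ha⟩ : ↥Γ) ∈ A' from ha) u)
  have hfixA : fix σ A' = fix ρ A := by rw [hfix, hmapA]
  have regA : Regular ρ (Nat.card C) A :=
    { card_grp := hcard
      comm := hAoff.1.comm
      quad := himg ▸ hfixA ▸ hreg.quad
      ker := fun a ha ha1 u hu => hfixA ▸ hreg.ker ⟨a, hAΓ ha⟩ ha (fun e => ha1 (congrArg Subtype.val e)) u hu
      card_img := by rw [← himg, hreg.card_img, hA'card]
      idx := by rw [← hfixA, ← hA'card]; exact hreg.idx }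
  set R := cm x₀ A with hR
  have hsup : A ⊔ R = Γ := hgen x₀ hx₀ hx₀M
  have hnegA : ∀ x ∈ img ρ A, ρ (z : P) x = -x := himg ▸ hzneg
  have hF : Frame ρ (Nat.card C) A R (z : P) :=
    { regA := regA
      regR := regA.conj x₀
      z_mem := hsup.ge z.2
      negA := hnegA
      negR := fun y hy => by
        have h := mem_img_cm ρ (g := x₀⁻¹) hy
        rw [hR, cm_inv_cm] at h
        have hc : (z : P) * x₀ = x₀ * z := congrArg Subtype.val (hzc ⟨x₀, hx₀⟩)
        calc ρ (z : P) y = ρ ((z : P) * x₀) (ρ x₀⁻¹ y) := by rw [act_mul, act_inv']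
          _ = _ := by rw [hc, act_mul, hnegA _ h, map_neg, act_inv']
      dec := fun u => by
        obtain ⟨a, ha, b, hb, hv⟩ := hdec ⟨x₀, hx₀⟩ hx₀M u
        refine ⟨a, himg ▸ ha, b, ?_, fun g hg => hv ⟨g, hAΓ hg⟩ (Subgroup.mem_top _),
          fun g hg => hv ⟨g, hsup ▸ Subgroup.mem_sup_right hg⟩ (Subgroup.mem_top _)⟩
        refine (img_le σ (W := img ρ R)).2 ?_ hb
        rintro _ ⟨c, hc, rfl⟩ v
        exact sub_mem_img ρ (show x₀ * (c : P) * x₀⁻¹ ∈ R from ⟨c, hc, rfl⟩) v }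
  have hkM := M.inv_mem hk
  have hC' : cm k⁻¹ A = C := cm_inv_cm k C
  refine ⟨cm k⁻¹ R, k⁻¹ * z * k⁻¹⁻¹,
    { set_up := hs, data := hd, peak := hg, mem := hC, le := hCT, new := hCX, normA := hCN,
      normR := Local.map_conj_le fun r hr => mul_mem (mul_mem (inv_mem hkN) (hΓN (hsup ▸ Subgroup.mem_sup_right hr)))
        (inv_mem (inv_mem hkN))
      not_le := fun hle => hΓM ?_
      frame := hC' ▸ hF.conj k⁻¹
      keep := ?_
      gen := ?_
      natural := ⟨F, iF, iF', hFc.trans hA'card, ⟨?_⟩⟩ }⟩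
  rotate_left
  · intro g hg hgM x hx
    rw [← hC', cm, cm, ← Subgroup.map_sup, hsup] at hg
    obtain ⟨g', hg', rfl⟩ := hg
    simp only [MulEquiv.coe_toMonoidHom, MulAut.conj_apply, inv_inv] at hgM ⊢
    have hg'M : g' ∈ M := by
      have := M.mul_mem (M.mul_mem hk hgM) hkM
      rwa [show k * (k⁻¹ * g' * k) * k⁻¹ = g' by group] at this
    have h1 := mem_img_cm ρ (g := k) hx
    rw [← hA, ← himg] at h1
    have h2 := hkeep ⟨g', hg'⟩ hg'M _ h1
    rw [himg] at h2
    have h3 := mem_img_cm ρ (g := k⁻¹) h2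
    rw [hC'] at h3
    rwa [act_mul, act_mul]
  · intro g hg hgM
    rw [← hC', cm, cm, ← Subgroup.map_sup, hsup] at hg
    obtain ⟨g', hg', rfl⟩ := hg
    have hg'M : g' ∉ M := fun h => hgM (by
      have := M.mul_mem (M.mul_mem hkM h) hk
      simpa using this)
    show C ⊔ cm (k⁻¹ * g' * k⁻¹⁻¹) C = _
    rw [← hC', cm_cm _ k⁻¹ A, show k⁻¹ * g' * k⁻¹⁻¹ * k⁻¹ = k⁻¹ * g' by group, ← cm_cm k⁻¹ g' A]
    show A.map _ ⊔ (cm g' A).map _ = A.map _ ⊔ R.map _
    rw [← Subgroup.map_sup, ← Subgroup.map_sup, hsup]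
    exact congrArg _ (hgen g' hg' hg'M)
  · refine (MulEquiv.subgroupCongr ?_).trans ((Γ.equivMapOfInjective (MulAut.conj k⁻¹).toMonoidHom
      (MulAut.conj k⁻¹).injective).symm.trans eF)
    rw [← hC', cm, cm, ← Subgroup.map_sup, hsup]
  rw [← hsup]
  refine sup_le (hAQ.trans hQM) fun r hr => ?_
  have := hle ⟨r, hr, rfl⟩
  simp only [MulEquiv.coe_toMonoidHom, MulAut.conj_apply] at this
  have h2 := M.mul_mem (M.mul_mem hk this) hkM
  rwa [show k * (k⁻¹ * r * k⁻¹⁻¹) * k⁻¹ = r by group] at h2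

variable (ρ) in
/-- Two members act trivially on each other's displacements. -/
def Apart (B S : Subgroup P) : Prop := img ρ B ≤ fix ρ S ∧ img ρ S ≤ fix ρ B

theorem Apart.symm {B S : Subgroup P} (h : Apart ρ B S) : Apart ρ S B := ⟨h.2, h.1⟩

theorem img_cm_le_fix {g : P} {B S : Subgroup P} (h : img ρ B ≤ fix ρ S) : img ρ (cm g B) ≤ fix ρ (cm g S) := by
  intro x hx
  have h1 := mem_img_cm ρ (g := g⁻¹) hx
  rw [cm_inv_cm] at h1
  exact (mem_fix_cm ρ).2 (h h1)

theorem Apart.conj {B S : Subgroup P} (h : Apart ρ B S) (g : P) : Apart ρ (cm g B) (cm g S) :=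
  ⟨img_cm_le_fix h.1, img_cm_le_fix h.2⟩

theorem Apart.of_conj {B S : Subgroup P} {g : P} (h : Apart ρ (cm g B) (cm g S)) : Apart ρ B S := by
  have := h.conj g⁻¹
  rwa [cm_inv_cm, cm_inv_cm] at this

/-- All members of one Sylow subgroup are apart. -/
theorem apart_of_members (hs : Setting ρ T M) {cl : Set (Subgroup P)} (hd : ClassData T M cl) {n : ℕ}
    (hreg : ∀ R ∈ cl, Regular ρ n R) (hcl : ∀ R ∈ cl, IsLeastOffender ρ p R) {B S : Subgroup P} (hB : B ∈ cl)
    (hBT : B ≤ (T : Subgroup P)) (hS : S ∈ cl) (hST : S ≤ (T : Subgroup P)) : Apart ρ B S := by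
  classical
  set T' := (T : Subgroup P) with hT'
  have hconjT : ∀ t ∈ T', ∀ {R : Subgroup P}, R ≤ T' → cm t R ≤ T' := fun t ht R hR =>
    Local.map_conj_le fun r hr => mul_mem (mul_mem ht (hR hr)) (inv_mem ht)
  let Cen : Subgroup P → Prop := fun R => ∀ S ∈ cl, S ≤ T' → Apart ρ R S
  have hCen : ∀ t ∈ T', ∀ {R : Subgroup P}, Cen (cm t R) → Cen R := fun t ht R h S hS hST =>
    (h _ (hd.conj S hS t) (hconjT t ht hST)).of_conj
  -- a member outside the kept ones is apart from all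
  have hout : ∀ g, Peak T M cl g → ∀ R ∈ cl, R ≤ T' → ¬ R ≤ kept T cl g → Cen R := by
    intro g hg
    set X := kept T cl g with hX
    have hN : ∀ R ∈ cl, R ≤ T' → R ≤ Subgroup.normalizer (X : Set P) → ¬ R ≤ X → Cen R := by
      intro R hR hRT hRN hRX S hS hST
      obtain ⟨Q, z, hQ⟩ := exists_anchor hs hd hcl hg hR hRT hRN hRX
      exact hQ.separate hST ((hreg R hR).card_grp.symm ▸ hreg S hS)
    set Z := sSup {R | R ∈ cl ∧ R ≤ T' ∧ (R ≤ X ∨ Cen R)} with hZ
    have hZT : Z ≤ T' := sSup_le fun R hR => hR.2.1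
    have hcommX : ∀ R ∈ cl, R ≤ T' → Cen R → ∀ r ∈ R, ∀ R' ∈ cl, R' ≤ T' → cm r R' = R' :=
      fun R hR _ hc r hr R' hR' hR'T => cm_eq_self fun x hx => by
        rw [commute_of_separate hs.inj (hreg R hR) (hreg R' hR') (hc R' hR' hR'T).1 (hc R' hR' hR'T).2 hr hx,
          mul_inv_cancel_right]
    have hZN : Z ≤ Subgroup.normalizer (X : Set P) := by
      refine sSup_le fun R hR => hR.2.2.elim (fun h => h.trans Subgroup.le_normalizer) fun hc r hr =>
        ZJFailure.mem_normalizer_of_forall fun x hx => ?_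
      have h1 : X ≤ X.comap (MulAut.conj r).toMonoidHom := sSup_le fun R' hR' y hy => by
        have h2 := hcommX R hR.1 hR.2.1 hc r hr R' hR'.1 (hR'.2.trans inf_le_left)
        exact (le_kept (g := g) hR'.1 (hR'.2.trans inf_le_left) (hR'.2.trans inf_le_right)) (h2.le ⟨y, hy, rfl⟩)
      exact h1 hx
    intro R₀ hR₀ hR₀T hR₀X
    by_contra hR₀c
    obtain ⟨R, hR, hRT, hRZ, hRN⟩ := exists_normalizing hd hZT
      (sSup_le fun R hR => le_sSup (show R ∈ membersIn cl Z from ⟨hR.1, le_sSup (show R ∈ {R | R ∈ cl ∧ R ≤ T' ∧ (R ≤ X ∨ Cen R)} from hR)⟩))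
      ⟨R₀, hR₀, hR₀T, fun h => hR₀c (hN R₀ hR₀ hR₀T (h.trans hZN) hR₀X)⟩
    have hRX : ¬ R ≤ X := fun h => hRZ (le_sSup (show R ∈ {R | R ∈ cl ∧ R ≤ T' ∧ (R ≤ X ∨ Cen R)} from ⟨hR, hRT, Or.inl h⟩))
    refine hRZ (le_sSup (show R ∈ {R | R ∈ cl ∧ R ≤ T' ∧ (R ≤ X ∨ Cen R)} from ⟨hR, hRT, Or.inr (hN R hR hRT ?_ hRX)⟩))
    intro r hr
    refine ZJFailure.mem_normalizer_of_forall fun x hx => ?_
    have h1 : X ≤ X.comap (MulAut.conj r).toMonoidHom := sSup_le fun R' hR' => by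
      have hR'T : R' ≤ T' := hR'.2.trans inf_le_left
      have hR'X : R' ≤ X := le_kept hR'.1 hR'T (hR'.2.trans inf_le_right)
      have hle : cm r R' ≤ X := by
        by_cases hc : Cen R'
        · rw [show cm r R' = R' from cm_eq_self fun x hx => by
            rw [commute_of_separate hs.inj (hreg R hR) (hreg R' hR'.1) (hc R hR hRT).2 (hc R hR hRT).1 hr hx,
              mul_inv_cancel_right]]
          exact hR'X
        by_contra hle
        refine hc (hCen r (hRT hr) (hN _ (hd.conj R' hR'.1 r) (hconjT r (hRT hr) hR'T) ?_ hle))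
        refine le_trans ?_ hZN
        refine Local.map_conj_le fun y hy => (Subgroup.mem_normalizer_iff.1 (hRN hr) y).1 ?_
        exact le_sSup (show R' ∈ {R | R ∈ cl ∧ R ≤ T' ∧ (R ≤ X ∨ Cen R)} from ⟨hR'.1, hR'T, Or.inl hR'X⟩) hy
      exact fun y hy => hle ⟨y, hy, rfl⟩
    exact h1 hx
  obtain ⟨g, hg⟩ := exists_peak hd
  by_contra hBS
  let Nc : Set (Subgroup P) := {R | R ∈ cl ∧ R ≤ T' ∧ ¬ Cen R}
  set Y := sSup Nc with hY
  have hBY : B ≤ Y := le_sSup (show B ∈ Nc from ⟨hB, hBT, fun h => hBS (h S hS hST)⟩)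
  have hinvT : ∀ t ∈ T', t ∈ Subgroup.normalizer (Y : Set P) := fun t ht =>
    ZJFailure.mem_normalizer_of_forall fun x hx => by
      have h1 : Y ≤ Y.comap (MulAut.conj t).toMonoidHom := sSup_le fun R hR y hy =>
        le_sSup (show cm t R ∈ Nc from ⟨hd.conj R hR.1 t, hconjT t ht hR.2.1, fun h => hR.2.2 (hCen t ht h)⟩)
          ⟨y, hy, rfl⟩
      exact h1 hx
  have hg' := hg.inv hd
  have hcarry : ∀ R ∈ Nc, cm g R ≤ T' := fun R hR => by
    have h1 : R ≤ kept T cl g⁻¹ := by_contra fun h => hR.2.2 (hout _ hg' R hR.1 hR.2.1 h)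
    rw [kept_inv hd] at h1
    refine (cm_mono h1).trans ?_
    rw [cm_cm, mul_inv_cancel, cm_one]
    exact kept_le g
  have hgY : g ∈ Subgroup.normalizer (Y : Set P) := ZJFailure.mem_normalizer_of_forall fun x hx => by
    have h1 : Y ≤ Y.comap (MulAut.conj g).toMonoidHom := sSup_le fun R hR y hy => by
      refine le_sSup (show cm g R ∈ Nc from ⟨hd.conj R hR.1 g, hcarry R hR, fun hc => ?_⟩) ⟨y, hy, rfl⟩
      obtain ⟨S', hS', hS'T, hne⟩ : ∃ S' ∈ cl, S' ≤ T' ∧ ¬ Apart ρ R S' := by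
        by_contra hno; push Not at hno; exact hR.2.2 hno
      have hS'N : S' ∈ Nc := ⟨hS', hS'T, fun h => hne (h R hR.1 hR.2.1).symm⟩
      exact hne (hc _ (hd.conj S' hS' g) (hcarry S' hS'N)).of_conj
    exact h1 hx
  refine hg.1 (hd.over_le _ (fun t ht => hinvT t ht) (fun htop => ?_) hgY)
  have h0 := hd.no_core Y (Subgroup.normalizer_eq_top_iff.1 htop) (T.2.to_le (sSup_le fun R hR => hR.2.1))
  exact hd.ne_bot B hB (le_bot_iff.1 (h0 ▸ hBY))

/-- **An abelian weakly closed best offender.** -/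
theorem exists_weaklyClosed_offender (hs : Setting ρ T M) (hoff : ∃ E, IsOffender ρ p E) :
    ∃ X : Subgroup P, X ≤ (T : Subgroup P) ∧ X ≠ ⊥ ∧ (∀ a ∈ X, ∀ b ∈ X, a * b = b * a) ∧ (∀ a ∈ X, a ^ p = 1) ∧
      (∀ g, cm g X ≤ (T : Subgroup P) → cm g X = X) ∧ img ρ X ≤ fix ρ X ∧
      Nat.card U ≤ Nat.card X * Nat.card (fix ρ X) ∧
      ∀ Z : Subgroup P, Z ≤ X →
        Nat.card Z * Nat.card (fix ρ Z) ≤ Nat.card X * Nat.card (fix ρ X) := by
  classical
  obtain ⟨E₀, hE₀, hmin⟩ := Set.exists_min_image {E | IsOffender ρ p E} (fun E => Nat.card E) (Set.toFinite _) hoff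
  set T' := (T : Subgroup P) with hT'
  have hdata : ∀ cl : Set (Subgroup P), (∀ R ∈ cl, ∀ g, cm g R ∈ cl) → (∀ R ∈ cl, IsLeastOffender ρ p R) →
      cl.Nonempty → ClassData T M cl := fun cl hconj hl ⟨R, hR⟩ => by
    obtain ⟨a, ha⟩ := ZJFailure.exists_le_cm T (hl R hR).1.pgroup
    exact ⟨hconj, fun R hR => (hl R hR).1.pgroup, fun R hR => (hl R hR).1.ne_bot,
      ⟨cm a⁻¹ R, hconj R hR _, (cm_mono ha).trans (cm_inv_cm a _).le⟩, hs.le_M, hs.M_ne, hs.over_le, hs.no_core⟩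
  -- a regular least offender
  have hd₀ := hdata {R | IsLeastOffender ρ p R} (fun R hR g => hR.conj g) (fun R hR => hR) ⟨E₀, hE₀, hmin⟩
  obtain ⟨g₀, hg₀⟩ := exists_peak hd₀
  obtain ⟨C, hC, hCT, hCX, hCN⟩ := exists_normalizing hd₀ (kept_le g₀) (kept_eq_sSup g₀) (exists_not_kept hd₀ hg₀)
  obtain ⟨R, z, hanch⟩ := exists_anchor hs hd₀ (fun R hR => hR) hg₀ hC hCT hCN hCX
  set n := Nat.card C
  set cl : Set (Subgroup P) := Set.range fun g => cm g C with hcl
  have hcl1 : ∀ R ∈ cl, IsLeastOffender ρ p R := by rintro _ ⟨g, rfl⟩; exact IsLeastOffender.conj hC g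
  have hreg : ∀ R ∈ cl, Regular ρ n R := by rintro _ ⟨g, rfl⟩; exact hanch.frame.regA.conj g
  have hconj : ∀ R ∈ cl, ∀ g, cm g R ∈ cl := by
    rintro _ ⟨h, rfl⟩ g; exact ⟨g * h, (cm_cm g h C).symm⟩
  have hd := hdata cl hconj hcl1 ⟨C, 1, cm_one C⟩
  have happ : ∀ {B S}, B ∈ membersIn cl T' → S ∈ membersIn cl T' → Apart ρ B S := fun hB hS =>
    apart_of_members hs hd hreg hcl1 hB.1 hB.2 hS.1 hS.2
  set X := sSup (membersIn cl T') with hX
  have hCm : C ∈ membersIn cl T' := ⟨⟨1, cm_one C⟩, hCT⟩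
  have hXT : X ≤ T' := sSup_le fun R hR => hR.2
  have hcomm : ∀ a ∈ X, ∀ b ∈ X, a * b = b * a := by
    have h1 : X ≤ Subgroup.centralizer (X : Set P) := by
      refine sSup_le fun B hB b hb => Subgroup.mem_centralizer_iff.2 fun x hx => ?_
      have h2 : X ≤ Subgroup.centralizer ({b} : Set P) := sSup_le fun S hS s hs' =>
        Subgroup.mem_centralizer_singleton_iff.2
          (commute_of_separate hs.inj (hreg B hB.1) (hreg S hS.1) (happ hB hS).1 (happ hB hS).2 hb hs').symm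
      exact Subgroup.mem_centralizer_singleton_iff.1 (h2 hx)
    exact fun a ha b hb => (Subgroup.mem_centralizer_iff.1 (h1 ha) b hb).symm
  have hpow : ∀ a ∈ X, a ^ p = 1 := by
    let K : Subgroup P :=
      { carrier := {a | a ∈ X ∧ a ^ p = 1}
        one_mem' := ⟨one_mem _, one_pow _⟩
        mul_mem' := fun {a b} ha hb =>
          ⟨mul_mem ha.1 hb.1, by rw [Commute.mul_pow (hcomm a ha.1 b hb.1), ha.2, hb.2, one_mul]⟩
        inv_mem' := fun {a} ha => ⟨inv_mem ha.1, by rw [inv_pow, ha.2, inv_one]⟩ }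
    have h1 : X ≤ K := sSup_le fun B hB b hb => ⟨(le_sSup hB : B ≤ X) hb, (hcl1 B hB.1).1.pow b hb⟩
    exact fun a ha => (h1 ha).2
  have hquad : img ρ X ≤ fix ρ X := by
    -- each displacement of a member is fixed by all members
    have h1 : ∀ B ∈ membersIn cl T', img ρ B ≤ fix ρ X := fun B hB x hx => by
      have h2 : X ≤ pointStab ρ x := sSup_le fun S hS s hs' =>
        if h : B = S then (hreg B hB.1).quad hx s (h ▸ hs') else (happ hB hS).1 hx s hs'
      exact fun a ha => h2 ha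
    have h2 : X ≤ cosetStab ρ (fix ρ X) := sSup_le fun B hB b hb u => h1 B hB (sub_mem_img ρ hb u)
    exact (img_le ρ).2 fun a ha => h2 ha
  -- counting
  have hmuC : ∀ B ∈ membersIn cl T', ∀ Z : Subgroup P, mu ρ Z ≤ mu ρ (Z ⊔ B) := fun B hB Z => by
    have r := hreg B hB.1
    have h1 : mu ρ B = Nat.card U := by rw [mu, r.card_grp, r.idx]
    have h2 : mu ρ (Z ⊓ B) ≤ Nat.card U := by
      by_cases hbot : Z ⊓ B = ⊥
      · rw [mu, hbot, Subgroup.card_bot, one_mul]
        exact Nat.card_le_card_of_injective Subtype.val Subtype.val_injective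
      rw [← h1]
      refine Nat.mul_le_mul (Subgroup.card_le_of_le inf_le_right) (AddSubgroup.card_le_of_le fun x hx => ?_)
      obtain ⟨b, hb, hb1⟩ : ∃ b ∈ Z ⊓ B, b ≠ 1 := by
        by_contra hno; push Not at hno; exact hbot ((Subgroup.eq_bot_iff_forall _).2 hno)
      exact r.ker b hb.2 hb1 x (hx b hb)
    have h3 := mu_mul_mu_le ρ Z B
    rw [h1] at h3
    exact Nat.le_of_mul_le_mul_right (h3.trans (Nat.mul_le_mul_left _ h2)) Nat.card_pos
  have hmax : ∀ Z : Subgroup P, Z ≤ X → mu ρ Z ≤ mu ρ X := by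
    intro Z hZ
    have key : ∀ s : Finset (Subgroup P), (∀ B ∈ s, B ∈ membersIn cl T') → mu ρ Z ≤ mu ρ (Z ⊔ s.sup id) := by
      intro s
      induction s using Finset.induction_on with
      | empty => intro _; simp
      | insert B s _ ih =>
        intro hs'
        rw [Finset.sup_insert, id, sup_left_comm, sup_comm B]
        exact (ih fun C' hC' => hs' C' (Finset.mem_insert_of_mem hC')).trans
          (hmuC B (hs' B (Finset.mem_insert_self B s)) _)
    have hfin : (membersIn cl T').Finite := Set.toFinite _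
    have h1 : Z ⊔ hfin.toFinset.sup id = X := le_antisymm
      (sup_le hZ (Finset.sup_le fun B hB => le_sSup (hfin.mem_toFinset.1 hB)))
      (sSup_le fun B hB => (Finset.le_sup (f := id) (hfin.mem_toFinset.2 hB)).trans le_sup_right)
    exact h1 ▸ key _ fun B hB => hfin.mem_toFinset.1 hB
  refine ⟨X, hXT, fun e => hd.ne_bot C hCm.1 (le_bot_iff.1 (e ▸ (le_sSup hCm : C ≤ X))), hcomm, hpow,
    fun g hg => ?_, hquad, ?_, hmax⟩
  · refine Subgroup.eq_of_le_of_card_ge ?_ (Subgroup.card_map_of_injective (MulAut.conj g).injective).ge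
    have h1 : X ≤ X.comap (MulAut.conj g).toMonoidHom := sSup_le fun B hB y hy =>
      le_sSup (show cm g B ∈ membersIn cl T' from ⟨hconj B hB.1 g, (cm_mono (le_sSup hB)).trans hg⟩) ⟨y, hy, rfl⟩
    exact Subgroup.map_le_iff_le_comap.2 h1
  · have := hmax C (le_sSup hCm)
    exact (hcl1 C hCm.1).1.big.trans this

end CfsgLib.RootCommute
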