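import Cfsg.Agent.Lib.RootCommute.Module
import Cfsg.Agent.S2999
import Cfsg.Agent.S2906
import Mathlib.GroupTheory.SemidirectProduct

/-!
An offender that generates a `p`-minimal group with each conjugate outside the maximal subgroup acts
regularly, and some central element is minus one on its displacements.
-/

set_option autoImplicit false
set_option linter.unusedSectionVars false
set_option linter.style.haveILetI false
set_option linter.unusedVariables false
set_option maxHeartbeats 800000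

namespace CfsgLib.RootCommute

open Cfsg CfsgLib
open Cfsg.Agent
open CfsgLib.SL2Pair (fix)
open CfsgLib.StrongFusion (cm)

universe u v

section Model

variable {Γ : Type u} [Group Γ] [Finite Γ] {U : Type v} [AddCommGroup U] [Finite U] (σ : Γ →* AddMonoid.End U)

/-- The action as automorphisms of the multiplicative copy. -/
def autHom : Γ →* MulAut (Multiplicative U) where
  toFun g :=
    { toFun := fun x => Multiplicative.ofAdd (σ g x.toAdd)
      invFun := fun x => Multiplicative.ofAdd (σ g⁻¹ x.toAdd)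
      left_inv := fun x => congrArg Multiplicative.ofAdd (act_inv σ g _)
      right_inv := fun x => congrArg Multiplicative.ofAdd (act_inv' σ g _)
      map_mul' := fun x y => congrArg Multiplicative.ofAdd (map_add (σ g) _ _) }
  map_one' := MulEquiv.ext fun x => congrArg Multiplicative.ofAdd (act_one σ _)
  map_mul' g h := MulEquiv.ext fun x => congrArg Multiplicative.ofAdd (act_mul σ g h _)

/-- The semidirect product. -/
abbrev Model := Multiplicative U ⋊[autHom σ] Γ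

/-- A vector in the semidirect product. -/
def vec (x : U) : Model σ := SemidirectProduct.inl (Multiplicative.ofAdd x)

/-- An element of the group in the semidirect product. -/
def grp : Γ →* Model σ := SemidirectProduct.inr

theorem vec_injective : Function.Injective (vec σ) := fun _ _ e =>
  Multiplicative.ofAdd.injective (SemidirectProduct.inl_injective e)

theorem grp_injective : Function.Injective (grp σ) := SemidirectProduct.inr_injective

theorem vec_add (x y : U) : vec σ (x + y) = vec σ x * vec σ y := map_mul SemidirectProduct.inl _ _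

theorem vec_neg (x : U) : vec σ (-x) = (vec σ x)⁻¹ := map_inv SemidirectProduct.inl _

theorem vec_zero : vec σ 0 = 1 := map_one SemidirectProduct.inl

theorem vec_act (g : Γ) (x : U) : grp σ g * vec σ x * (grp σ g)⁻¹ = vec σ (σ g x) := by
  rw [← map_inv]; exact (SemidirectProduct.inl_aut g _).symm

theorem vec_disp (g : Γ) (x : U) :
    grp σ g * vec σ x * (grp σ g)⁻¹ * (vec σ x)⁻¹ = vec σ (σ g x - x) := by
  rw [vec_act, ← vec_neg, ← vec_add, sub_eq_add_neg]

/-- All vectors. -/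
def vecs : Subgroup (Model σ) := (SemidirectProduct.inl : Multiplicative U →* Model σ).range

theorem mem_vecs {g : Model σ} : g ∈ vecs σ ↔ ∃ x, vec σ x = g :=
  ⟨fun ⟨x, hx⟩ => ⟨x.toAdd, hx⟩, fun ⟨x, hx⟩ => ⟨Multiplicative.ofAdd x, hx⟩⟩

theorem vec_commute_iff (g : Γ) (x : U) : grp σ g * vec σ x = vec σ x * grp σ g ↔ σ g x = x := by
  rw [← mul_inv_eq_iff_eq_mul, vec_act, (vec_injective σ).eq_iff]

theorem card_vecs : Nat.card (vecs σ) = Nat.card U :=
  (Nat.card_congr (MonoidHom.ofInjective SemidirectProduct.inl_injective).toEquiv).symm.trans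
    (Nat.card_congr Multiplicative.toAdd)

theorem mem_fixed_iff {E : Subgroup Γ} {g : Model σ} :
    g ∈ vecs σ ⊓ Subgroup.centralizer (E.map (grp σ) : Set (Model σ)) ↔ ∃ x ∈ fix σ E, vec σ x = g := by
  constructor
  · rintro ⟨h1, h2⟩
    obtain ⟨x, rfl⟩ := (mem_vecs σ).1 h1
    exact ⟨x, fun a ha => (vec_commute_iff σ a x).1 (h2 _ ⟨a, ha, rfl⟩), rfl⟩
  · rintro ⟨x, hx, rfl⟩
    refine ⟨(mem_vecs σ).2 ⟨x, rfl⟩, ?_⟩
    rintro _ ⟨a, ha, rfl⟩
    exact (vec_commute_iff σ a x).2 (hx a ha)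

theorem card_fixed (E : Subgroup Γ) :
    Nat.card ↥(vecs σ ⊓ Subgroup.centralizer (E.map (grp σ) : Set (Model σ))) = Nat.card (fix σ E) :=
  (Nat.card_congr (Equiv.ofBijective
    (fun x : fix σ E => (⟨vec σ x, (mem_fixed_iff σ).2 ⟨x, x.2, rfl⟩⟩ :
      ↥(vecs σ ⊓ Subgroup.centralizer (E.map (grp σ) : Set (Model σ)))))
    ⟨fun x y e => Subtype.ext (vec_injective σ (congrArg Subtype.val e)), fun g => by
      obtain ⟨x, hx, e⟩ := (mem_fixed_iff σ).1 g.2
      exact ⟨⟨x, hx⟩, Subtype.ext e⟩⟩)).symm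

theorem card_map_grp (E : Subgroup Γ) : Nat.card ↥(E.map (grp σ)) = Nat.card E :=
  Subgroup.card_map_of_injective (grp_injective σ)

end Model

variable {Γ : Type u} [Group Γ] [Finite Γ] {U : Type v} [AddCommGroup U] [Finite U] {σ : Γ →* AddMonoid.End U}
  {p : ℕ} [hp : Fact p.Prime]

/-- A nontrivial quadratic matrix has a line of fixed vectors, which is also its image. -/
theorem line_of_quad {F : Type*} [Field F] [Finite F] (m : (Fin 2 → F) →ₗ[F] Fin 2 → F) (hm : m ≠ 0)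
    (hq : m ∘ₗ m = 0) :
    m.range = m.ker ∧ Nat.card m.ker = Nat.card F := by
  have hle : m.range ≤ m.ker := by
    rintro _ ⟨x, rfl⟩
    exact LinearMap.congr_fun hq x
  have h1 := m.finrank_range_add_finrank_ker
  rw [Module.finrank_fintype_fun_eq_card, Fintype.card_fin] at h1
  have h2 : 0 < Module.finrank F m.range := by
    rw [pos_iff_ne_zero, Ne, Submodule.finrank_eq_zero, LinearMap.range_eq_bot]
    exact hm
  have h3 := Submodule.finrank_mono hle
  refine ⟨Submodule.eq_of_le_of_finrank_eq hle (by omega), ?_⟩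
  have h4 : Module.finrank F m.ker = 1 := by omega
  rw [Module.natCard_eq_pow_finrank (K := F) (V := m.ker), h4, pow_one]

/-- **The natural module.** -/
theorem exists_torus (hσ : Function.Injective σ) (hU : ∀ x : U, p • x = 0) (hp2 : p ≠ 2) (T₀ : Sylow p Γ)
    {M₀ : Subgroup Γ} (hM₀ : M₀ ≠ ⊤) (hT₀ : (T₀ : Subgroup Γ) ≤ M₀) {A : Subgroup Γ}
    (hA : A ≤ (T₀ : Subgroup Γ)) (hne : A ≠ ⊥) (hcomm : ∀ a ∈ A, ∀ b ∈ A, a * b = b * a)
    (hpow : ∀ a ∈ A, a ^ p = 1) (hoff : Nat.card U ≤ mu σ A)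
    (hmin : ∀ E : Subgroup Γ, E ≤ A → E ≠ ⊥ → E ≠ A → mu σ E < mu σ A)
    (hgen : ∀ x, x ∉ M₀ → A ⊔ cm x A = ⊤) (hmove : ∃ w ∈ fix σ (T₀ : Subgroup Γ), ∃ g, σ g w ≠ w) :
    Regular σ (Nat.card A) A ∧ ∃ z : Γ, (∀ x ∈ img σ A, σ z x = -x) ∧ (∀ g, z * g = g * z) ∧
      (∀ x, x ∉ M₀ → ∀ u : U, ∃ a ∈ img σ A, ∃ b ∈ img σ (cm x A), u - a - b ∈ fix σ (⊤ : Subgroup Γ)) ∧
      (∀ g ∈ M₀, ∀ x ∈ img σ A, σ g x ∈ img σ A) ∧
      ∃ (F : Type) (_ : Field F) (_ : Fintype F), Fintype.card F = Nat.card A ∧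
        Nonempty (Γ ≃* Matrix.SpecialLinearGroup (Fin 2) F) := by
  classical
  have hAM : A ≤ M₀ := hA.trans hT₀
  obtain ⟨x₀, hx₀⟩ : ∃ x, x ∉ M₀ := by
    by_contra h; push Not at h; exact hM₀ (eq_top_iff.2 fun x _ => h x)
  haveI : Finite (Model σ) := Finite.of_equiv _ SemidirectProduct.equivProd.symm
  set V := vecs σ with hV
  set Q := (grp σ).range with hQ
  let e : Γ ≃* ↥Q := MonoidHom.ofInjective (grp_injective σ)
  have he : ∀ g : Γ, ((e g : ↥Q) : Model σ) = grp σ g := fun g => rfl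
  have hQV : Q ≤ Subgroup.normalizer (V : Set (Model σ)) := by
    rintro _ ⟨g, rfl⟩
    refine Local.mem_normalizer_of_map_conj_eq (Subgroup.eq_of_le_of_card_ge (Local.map_conj_le fun v hv => ?_)
      (Subgroup.card_map_of_injective (MulAut.conj (grp σ g)).injective).ge)
    obtain ⟨x, rfl⟩ := (mem_vecs σ).1 hv
    exact (mem_vecs σ).2 ⟨_, (vec_act σ g x).symm⟩
  have hVel : IsElementaryAbelian p V := by
    refine ⟨⟨⟨fun v w => ?_⟩⟩, fun v hv => ?_⟩
    · obtain ⟨x, hx⟩ := (mem_vecs σ).1 v.2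
      obtain ⟨y, hy⟩ := (mem_vecs σ).1 w.2
      exact Subtype.ext (by show (v : Model σ) * w = w * v; rw [← hx, ← hy, ← vec_add, ← vec_add, add_comm])
    · obtain ⟨x, rfl⟩ := (mem_vecs σ).1 hv
      show (SemidirectProduct.inl (Multiplicative.ofAdd x) : Model σ) ^ p = 1
      rw [← map_pow, ← ofAdd_nsmul, hU, ofAdd_zero, map_one]
  have hfaith : Q ⊓ Subgroup.centralizer (V : Set (Model σ)) = ⊥ := by
    refine eq_bot_iff.2 ?_
    rintro _ ⟨⟨g, rfl⟩, hc⟩
    rw [Subgroup.mem_bot, act_ext σ hσ (h := 1) (g := g) fun x => by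
      rw [act_one]
      exact (vec_commute_iff σ g x).1 (hc _ ((mem_vecs σ).2 ⟨x, rfl⟩)).symm, map_one]
  -- the group is p-minimal
  have hover : ∀ H : Subgroup Γ, (T₀ : Subgroup Γ) ≤ H → H ≠ ⊤ → H ≤ M₀ := fun H hH hne' x hx => by
    by_contra hxM
    refine hne' (eq_top_iff.2 ((hgen x hxM).ge.trans (sup_le (hA.trans hH) (Local.map_conj_le fun a ha => ?_))))
    exact H.mul_mem (H.mul_mem hx ((hA.trans hH) ha)) (H.inv_mem hx)
  have hcoM : IsCoatom M₀ := ⟨hM₀, fun H hlt => by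
    by_contra hne'
    exact hlt.not_ge (hover H (hT₀.trans hlt.le) hne')⟩
  have hnn : ¬ (T₀ : Subgroup Γ).Normal := fun hn => hx₀ (hT₀ (((hgen x₀ hx₀).ge.trans
    (sup_le hA (Local.map_conj_le fun a ha => hn.conj_mem a (hA ha) x₀))) (Subgroup.mem_top x₀)))
  let T' : Sylow p ↥Q := T₀.mapSurjective (f := e.toMonoidHom) e.surjective
  set M' := M₀.map e.toMonoidHom with hM'
  have hcoM' : IsCoatom M' := (OrderIso.isCoatom_iff (MulEquiv.mapSubgroup e) M₀).2 hcoM
  have hpm : IsPMinimal p ↥Q := by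
    intro S
    obtain ⟨g, rfl⟩ := MulAction.exists_smul_eq ↥Q T' S
    have h0 : ¬ (T₀ : Subgroup Γ).Normal ∧ ∃! M : Subgroup Γ, IsCoatom M ∧ (T₀ : Subgroup Γ) ≤ M :=
      ⟨hnn, M₀, ⟨hcoM, hT₀⟩, fun K hK => ((hK.1.le_iff).1 (hover K hK.2 hK.1.1)).resolve_left hM₀ |>.symm⟩
    have h1 := S2906.pmin_prop_map (MulAut.conj g) _ (S2906.pmin_prop_map e _ h0)
    rw [Sylow.coe_subgroup_smul]
    exact h1
  have hmapT : (T' : Subgroup ↥Q).map Q.subtype = (T₀ : Subgroup Γ).map (grp σ) := by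
    show ((T₀ : Subgroup Γ).map e.toMonoidHom).map Q.subtype = _
    rw [Subgroup.map_map]; rfl
  set A' := A.map (grp σ) with hA'
  have hA'el : IsElementaryAbelian p A' := by
    refine ⟨⟨⟨fun a b => ?_⟩⟩, ?_⟩
    · obtain ⟨a₀, ha₀, ea⟩ := a.2
      obtain ⟨b₀, hb₀, eb⟩ := b.2
      exact Subtype.ext (by show (a : Model σ) * b = b * a; rw [← ea, ← eb, ← map_mul, ← map_mul, hcomm a₀ ha₀ b₀ hb₀])
    · rintro _ ⟨a, ha, rfl⟩
      rw [← map_pow, hpow a ha, map_one]
  have hA'T : A' ≤ (T' : Subgroup ↥Q).map Q.subtype := hmapT ▸ Subgroup.map_mono hA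
  have hbig : Nat.card V ≤ Nat.card A' * Nat.card ↥(V ⊓ Subgroup.centralizer (A' : Set (Model σ))) := by
    rw [card_vecs, card_map_grp, card_fixed]; exact hoff
  have hstrict : ∀ E₀ : Subgroup (Model σ), E₀ ≤ A' → E₀ ≠ ⊥ → E₀ ≠ A' →
      Nat.card E₀ * Nat.card ↥(V ⊓ Subgroup.centralizer (E₀ : Set (Model σ))) <
        Nat.card A' * Nat.card ↥(V ⊓ Subgroup.centralizer (A' : Set (Model σ))) := by
    intro E₀ hE h1 h2
    have hE' : E₀ = (E₀.comap (grp σ)).map (grp σ) :=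
      (Subgroup.map_comap_eq_self (hE.trans (Subgroup.map_le_range _ A))).symm
    rw [hE', card_map_grp, card_fixed, card_map_grp, card_fixed]
    refine hmin _ (fun x hx => ?_) (fun h => h1 (by rw [hE', h, Subgroup.map_bot]))
      (fun h => h2 (by rw [hE', h]))
    obtain ⟨a, ha, ea⟩ := hE hx
    exact grp_injective σ ea ▸ ha
  have hquad : ∀ a ∈ A, ∀ x, σ a x - x ∈ fix σ A := fun a ha x b hb => by
    have h := SL2Pair.quad_of_strict (W := V) (B := A')
      ⟨(T₀.2.to_le hA).map _, fun s hs t ht => congrArg Subtype.val (hA'el.1.is_comm.comm ⟨s, hs⟩ ⟨t, ht⟩),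
        (hA'T.trans (Subgroup.map_subtype_le _)).trans hQV,
        fun s hs t ht => congrArg Subtype.val (hVel.1.is_comm.comm ⟨s, hs⟩ ⟨t, ht⟩),
        fun s => ⟨1, Subtype.ext (by simpa using hVel.2 s s.2)⟩, hbig, hstrict⟩
      ((mem_vecs σ).2 ⟨x, rfl⟩) (b := grp σ a) ⟨a, ha, rfl⟩ (c := grp σ b) ⟨b, hb, rfl⟩
    rw [vec_disp, vec_act] at h
    exact vec_injective σ h
  have hii : ⁅(V ⊓ Subgroup.centralizer (((T' : Subgroup ↥Q).map Q.subtype : Subgroup (Model σ)) : Set (Model σ))), Q⁆ ≠ ⊥ := by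
    rw [hmapT]
    intro h0
    obtain ⟨w, hw, g, hg⟩ := hmove
    refine hg ((vec_commute_iff σ g w).1 ?_)
    exact Subgroup.commutator_eq_bot_iff_le_centralizer.1 h0 ((mem_fixed_iff σ).2 ⟨w, hw, rfl⟩) _ ⟨g, rfl⟩
  have hiii : ∀ x : ↥Q, x ∉ M' → A' ⊔ A'.map (MulAut.conj (x : Model σ)).toMonoidHom = Q := by
    intro x hx
    obtain ⟨g, rfl⟩ := e.surjective x
    have hg : g ∉ M₀ := fun h => hx ⟨g, h, rfl⟩
    have hh : (MulAut.conj (grp σ g)).toMonoidHom.comp (grp σ) = (grp σ).comp (MulAut.conj g).toMonoidHom := by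
      ext y <;> simp [MulAut.conj_apply]
    rw [he, hA', Subgroup.map_map, hh, ← Subgroup.map_map, ← Subgroup.map_sup]
    show (A ⊔ cm g A).map (grp σ) = Q
    rw [hgen g hg, hQ, MonoidHom.range_eq_map]
  obtain ⟨F, iF, iF', hFc, ⟨eF⟩, -, -, -, r, ψ, hr, hψs, hψk, hψa⟩ :=
    S2999.result V Q hVel hQV hfaith hpm T' M' hcoM' (Subgroup.map_mono hT₀) A' hA'T hA'el ⟨hbig, hstrict⟩ hii hiii
  have hrs : Function.Surjective r := MonoidHom.range_eq_top.1 hr
  have hri : Function.Injective r :=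
    ((Nat.bijective_iff_surjective_and_card r).2 ⟨hrs, Nat.card_congr eF.toEquiv⟩).1
  -- coordinates
  let π : U →+ (Fin 2 → F) := AddMonoidHom.mk' (fun x => Multiplicative.toAdd (ψ ⟨vec σ x, (mem_vecs σ).2 ⟨x, rfl⟩⟩))
    fun x y => by
      rw [show (⟨vec σ (x + y), (mem_vecs σ).2 ⟨x + y, rfl⟩⟩ : ↥V) =
        ⟨vec σ x, (mem_vecs σ).2 ⟨x, rfl⟩⟩ * ⟨vec σ y, (mem_vecs σ).2 ⟨y, rfl⟩⟩ from Subtype.ext (vec_add σ x y),
        map_mul, toAdd_mul]
  have hπk : ∀ x, π x = 0 ↔ x ∈ fix σ (⊤ : Subgroup Γ) := fun x => by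
    rw [show π x = 0 ↔ ψ ⟨vec σ x, (mem_vecs σ).2 ⟨x, rfl⟩⟩ = 1 from toAdd_eq_zero, hψk]
    show vec σ x ∈ V ⊓ Subgroup.centralizer (Q : Set (Model σ)) ↔ _
    rw [hQ, MonoidHom.range_eq_map, hV, mem_fixed_iff]
    exact ⟨fun ⟨y, hy, e⟩ => vec_injective σ e ▸ hy, fun h => ⟨x, h, rfl⟩⟩
  have hπs : Function.Surjective π := fun c => by
    obtain ⟨⟨v, hv⟩, hc⟩ := hψs (Multiplicative.ofAdd c)
    obtain ⟨x, rfl⟩ := (mem_vecs σ).1 hv
    exact ⟨x, congrArg Multiplicative.toAdd hc⟩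
  let m : Γ → (Fin 2 → F) →ₗ[F] (Fin 2 → F) := fun g => Matrix.mulVecLin (r (e g)).1
  have hπm : ∀ g x, π (σ g x) = m g (π x) := fun g x => by
    obtain ⟨w, hw, h⟩ := hψa (e g) ⟨vec σ x, (mem_vecs σ).2 ⟨x, rfl⟩⟩
    have hwe : w = ⟨vec σ (σ g x), (mem_vecs σ).2 ⟨σ g x, rfl⟩⟩ := Subtype.ext (hw.trans (vec_act σ g x))
    rw [hwe] at h
    exact h
  have hm1 : ∀ {g}, m g = 1 → g = 1 := fun {g} h => by
    refine e.injective (hri (Subtype.ext ?_))
    rw [map_one, map_one, Matrix.SpecialLinearGroup.coe_one]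
    exact Matrix.ext_of_mulVec_single fun i => by
      rw [Matrix.one_mulVec]; exact LinearMap.congr_fun h _
  obtain ⟨z, hz⟩ := hrs (-1)
  set z₀ := e.symm z with hz₀
  have hmz : ∀ c, m z₀ c = -c := fun c => by
    show (r (e (e.symm z))).1.mulVec c = -c
    rw [e.apply_symm_apply, hz, Matrix.SpecialLinearGroup.coe_neg, Matrix.SpecialLinearGroup.coe_one,
      Matrix.neg_mulVec, Matrix.one_mulVec]
  have hzc : ∀ g, z₀ * g = g * z₀ := fun g => by
    refine e.injective (hri ?_)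
    rw [map_mul, map_mul, map_mul, map_mul, e.apply_symm_apply, hz]
    exact Subtype.ext (by simp)
  have hne' : ∀ a ∈ A, a ≠ 1 → (m a - 1) ≠ 0 ∧ (m a - 1) ∘ₗ (m a - 1) = 0 := fun a ha ha1 => by
    refine ⟨fun h => ha1 (hm1 (sub_eq_zero.1 h)), LinearMap.ext fun c => ?_⟩
    obtain ⟨x, rfl⟩ := hπs c
    show m a (m a (π x) - π x) - (m a (π x) - π x) = 0
    rw [← hπm, ← map_sub, ← hπm, ← map_sub, hquad a ha x a ha, sub_self, map_zero]
  obtain ⟨a₀, ha₀, ha₀1⟩ : ∃ a ∈ A, a ≠ 1 := by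
    by_contra h; push Not at h; exact hne ((Subgroup.eq_bot_iff_forall A).2 h)
  set L := LinearMap.ker (m a₀ - 1) with hL
  obtain ⟨hL1, hL2⟩ := line_of_quad _ (hne' a₀ ha₀ ha₀1).1 (hne' a₀ ha₀ ha₀1).2
  have hLc : Nat.card L = Nat.card A := by rw [hL, hL2, Nat.card_eq_fintype_card, hFc, card_map_grp]
  have hline : ∀ a ∈ A, a ≠ 1 → LinearMap.ker (m a - 1) = L ∧ LinearMap.range (m a - 1) = L := by
    intro a ha ha1
    obtain ⟨h1, h2⟩ := line_of_quad _ (hne' a ha ha1).1 (hne' a ha ha1).2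
    have h3 : LinearMap.range (m a₀ - 1) ≤ LinearMap.ker (m a - 1) := by
      rintro _ ⟨c, rfl⟩
      obtain ⟨x, rfl⟩ := hπs c
      show m a (m a₀ (π x) - π x) - (m a₀ (π x) - π x) = 0
      rw [← hπm, ← map_sub, ← hπm, ← map_sub, hquad a₀ ha₀ x a ha, sub_self, map_zero]
    have h4 : L = LinearMap.ker (m a - 1) :=
      SetLike.coe_injective (Set.eq_of_subset_of_ncard_le ((hL.trans hL1.symm).le.trans h3) (by
        rw [← Nat.card_coe_set_eq, ← Nat.card_coe_set_eq]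
        exact (h2.trans hL2.symm).le) (Set.toFinite _))
    exact ⟨h4.symm, h1.trans h4.symm⟩
  -- displacements
  have htwo : ∀ x : U, x + x = 0 → x = 0 := fun x hx => by
    have h2 : (2 : ℕ) • x = 0 := by rw [two_nsmul]; exact hx
    have hd : addOrderOf x ∣ Nat.gcd 2 p :=
      Nat.dvd_gcd (addOrderOf_dvd_of_nsmul_eq_zero h2) (addOrderOf_dvd_of_nsmul_eq_zero (hU x))
    rw [(Nat.coprime_primes Nat.prime_two hp.out).2 (Ne.symm hp2)] at hd
    exact AddMonoid.addOrderOf_eq_one_iff.1 (Nat.dvd_one.1 hd)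
  have hzfix : ∀ x, σ z₀ x + x ∈ fix σ (⊤ : Subgroup Γ) := fun x => (hπk _).1 (by
    rw [map_add, hπm, hmz, neg_add_cancel])
  have hzimg : ∀ g y, σ z₀ (σ g y - y) = -(σ g y - y) := fun g y => by
    have h1 := hzfix y g (Subgroup.mem_top g)
    rw [map_add, ← act_mul, ← hzc, act_mul] at h1
    rw [map_sub, eq_neg_iff_add_eq_zero, show σ z₀ (σ g y) - σ z₀ y + (σ g y - y) =
      (σ z₀ (σ g y) + σ g y) - (σ z₀ y + y) by abel, h1, sub_self]
  have hzneg : ∀ (B : Subgroup Γ), ∀ x ∈ img σ B, σ z₀ x = -x := fun B x hx => by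
    let N : AddSubgroup U :=
      { carrier := {u | σ z₀ u = -u}
        zero_mem' := by simp
        add_mem' := fun {u w} hu hw => by
          show σ z₀ (u + w) = -(u + w)
          rw [map_add, hu, hw, neg_add]
        neg_mem' := fun {u} hu => by show σ z₀ (-u) = - -u; rw [map_neg, hu] }
    exact ((img_le σ (W := N)).2 fun g _ y => hzimg g y) hx
  have hπinj : ∀ (B : Subgroup Γ), ∀ x ∈ img σ B, π x = 0 → x = 0 := fun B x hx h => by
    have h1 : σ z₀ x = x := (hπk x).1 h z₀ (Subgroup.mem_top _)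
    exact htwo x (eq_neg_iff_add_eq_zero.1 (h1.symm.trans (hzneg B x hx)))
  have himgL : ∀ x ∈ img σ A, π x ∈ L := fun x hx => by
    refine ((img_le σ (W := L.toAddSubgroup.comap π)).2 fun a ha y => ?_) hx
    show π (σ a y - y) ∈ L
    by_cases ha1 : a = 1
    · rw [ha1, act_one, sub_self, map_zero]; exact L.zero_mem
    · rw [map_sub, hπm, ← (hline a ha ha1).2]; exact ⟨π y, rfl⟩
  have honto : ∀ a ∈ A, a ≠ 1 → ∀ c ∈ L, ∃ y, π (σ a y - y) = c := fun a ha ha1 c hc => by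
    rw [← (hline a ha ha1).2] at hc
    obtain ⟨d, rfl⟩ := hc
    obtain ⟨y, rfl⟩ := hπs d
    exact ⟨y, by rw [map_sub, hπm]; rfl⟩
  let φ : img σ A → L := fun x => ⟨π x, himgL x x.2⟩
  have hφ : Function.Bijective φ := by
    refine ⟨fun x y hxy => Subtype.ext (sub_eq_zero.1 (hπinj A _ (sub_mem x.2 y.2) ?_)), fun c => ?_⟩
    · rw [map_sub, sub_eq_zero]; exact congrArg Subtype.val hxy
    · obtain ⟨y, hy⟩ := honto a₀ ha₀ ha₀1 c c.2
      exact ⟨⟨_, sub_mem_img σ ha₀ y⟩, Subtype.ext hy⟩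
  have hker : ∀ a ∈ A, a ≠ 1 → ∀ x, σ a x = x → x ∈ fix σ A := fun a ha ha1 x hx b hb => by
    by_cases hb1 : b = 1
    · rw [hb1, act_one]
    refine sub_eq_zero.1 (hπinj A _ (sub_mem_img σ hb x) ?_)
    have h1 : π x ∈ LinearMap.ker (m b - 1) := by
      rw [(hline b hb hb1).1, ← (hline a ha ha1).1]
      show m a (π x) - π x = 0
      rw [← hπm, hx, sub_self]
    rw [map_sub, hπm]; exact h1
  let f : U →+ img σ A := AddMonoidHom.mk' (fun x => ⟨σ a₀ x - x, sub_mem_img σ ha₀ x⟩)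
    fun x y => Subtype.ext (by
      show σ a₀ (x + y) - (x + y) = (σ a₀ x - x) + (σ a₀ y - y)
      rw [map_add]; abel)
  have hfs : f.range = ⊤ := by
    refine eq_top_iff.2 fun c _ => ?_
    obtain ⟨y, hy⟩ := honto a₀ ha₀ ha₀1 (π c) (himgL c c.2)
    exact ⟨y, hφ.1 (Subtype.ext hy)⟩
  have hfk : f.ker = fix σ A := le_antisymm
    (fun x hx => hker a₀ ha₀ ha₀1 x (sub_eq_zero.1 (congrArg Subtype.val (AddMonoidHom.mem_ker.1 hx))))
    fun x hx => AddMonoidHom.mem_ker.2 (Subtype.ext (sub_eq_zero.2 (hx a₀ ha₀)))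
  have hci : Nat.card (img σ A) = Nat.card A := (Nat.card_congr (Equiv.ofBijective φ hφ)).trans hLc
  have hreg : Regular σ (Nat.card A) A :=
    ⟨rfl, hcomm, (img_le σ).2 hquad, hker, hci, by
      have h1 := f.ker.card_mul_index
      rw [AddSubgroup.index_ker, hfs, AddSubgroup.card_top, hfk, hci, mul_comm] at h1
      exact h1.symm⟩
  have hψ : ∀ g c, c ∈ L → m g c ∈ L → g ∉ M₀ → c = 0 := fun g c hc hgc hg => by
    obtain ⟨y, hy⟩ := hπs (m g c)
    have hfy : ∀ h, m h (π y) = π y := by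
      have hle : A ⊔ cm g A ≤
          { carrier := {h | m h (π y) = π y}
            one_mem' := by show m 1 (π y) = π y; rw [← hπm, act_one]
            mul_mem' := fun {h k} (hh : m h (π y) = π y) (hk : m k (π y) = π y) => by
              show m (h * k) (π y) = π y
              rw [← hπm, act_mul, hπm, hπm, hk, hh]
            inv_mem' := fun {h} (hh : m h (π y) = π y) => by
              show m h⁻¹ (π y) = π y
              conv_lhs => rw [← hh, ← hπm, ← hπm, act_inv] } := by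
        have hfixL : ∀ b ∈ A, ∀ d ∈ L, m b d = d := fun b hb d hd => by
          by_cases hb1 : b = 1
          · obtain ⟨w, rfl⟩ := hπs d
            rw [hb1, ← hπm, act_one]
          · rw [← (hline b hb hb1).1] at hd
            exact sub_eq_zero.1 hd
        refine sup_le (fun b hb => (show m b (π y) = π y by rw [hy]; exact hfixL b hb _ hgc)) (fun b hb => ?_)
        obtain ⟨b₀, hb₀, rfl⟩ := hb
        show m (g * b₀ * g⁻¹) (π y) = π y
        obtain ⟨c₀, rfl⟩ := hπs c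
        rw [hy, ← hπm, ← hπm, act_mul, act_mul, act_inv, hπm, hπm, hfixL b₀ hb₀ _ hc]
        exact (hπm g c₀).symm
      exact fun h => hle ((hgen g hg).ge (Subgroup.mem_top h))
    have h1 := hfy z₀
    rw [hmz, hy] at h1
    have hyy : π (y + y) = 0 := by rw [map_add, hy]; exact (eq_neg_iff_add_eq_zero.1 h1.symm)
    have h2 : m g c = 0 := by
      obtain ⟨k, hk⟩ := ((Nat.Prime.odd_of_ne_two hp.out hp2) : Odd p)
      have h3 : p • π y = 0 := by rw [← map_nsmul, hU, map_zero]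
      rw [hk, add_nsmul, mul_comm, mul_nsmul', one_nsmul, two_nsmul, ← map_add, hyy, nsmul_zero, zero_add, hy] at h3
      exact h3
    obtain ⟨c₀, rfl⟩ := hπs c
    rw [← hπm] at h2
    have h4 := (hπk _).1 h2 g⁻¹ (Subgroup.mem_top _)
    rw [act_inv] at h4
    rw [h4]; exact h2
  have hspan : ∀ x, x ∉ M₀ → ∀ c' : Fin 2 → F, ∃ c d : L, (c : Fin 2 → F) + m x d = c' := by
    intro x hx c'
    let Φ' : L × L →ₗ[F] (Fin 2 → F) := L.subtype.coprod ((m x).comp L.subtype)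
    have hΦ : Function.Injective Φ' := (injective_iff_map_eq_zero Φ').2 fun ⟨c, d⟩ h => by
      have h' : (c : Fin 2 → F) + m x d = 0 := h
      have hd : (d : Fin 2 → F) = 0 := hψ x d d.2 (by
        rw [eq_neg_of_add_eq_zero_right h']; exact L.neg_mem c.2) hx
      rw [hd, map_zero, add_zero] at h'
      exact Prod.ext (Subtype.ext h') (Subtype.ext hd)
    have hΦs : Function.Surjective Φ' := by
      refine ((Nat.bijective_iff_injective_and_card Φ').2 ⟨hΦ, ?_⟩).2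
      rw [Nat.card_prod, hL, hL2, Nat.card_fun, Nat.card_fin, sq]
    obtain ⟨⟨c, d⟩, hcd⟩ := hΦs c'
    exact ⟨c, d, hcd⟩
  refine ⟨hreg, z₀, hzneg A, hzc, fun x hx u => ?_, fun g hg x hx => ?_, F, iF, iF',
    hFc.trans (card_map_grp σ A), ⟨e.trans eF⟩⟩
  swap
  · -- the fixed line is kept by `M₀`
    have hgL : π (σ g x) ∈ L := by
      by_contra hn
      obtain ⟨c, d, hcd⟩ := hspan x₀ hx₀ (π (σ g x))
      have hd : m x₀ (d : Fin 2 → F) ∉ L := fun h => hn (by rw [← hcd]; exact L.add_mem c.2 h)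
      let f₁ : ↥A → L := fun a => ⟨m (a : Γ) (m x₀ d) - m x₀ d, by
        by_cases ha1 : (a : Γ) = 1
        · obtain ⟨v, hv⟩ := hπs (m x₀ d)
          rw [ha1, ← hv, ← hπm, act_one, sub_self]; exact L.zero_mem
        · exact (hline a a.2 ha1).2.le ⟨_, rfl⟩⟩
      have hf₁ : Function.Injective f₁ := fun a b hab => by
        by_contra hne
        have hab' : m (a : Γ) (m x₀ d) = m (b : Γ) (m x₀ d) := sub_left_inj.1 (congrArg Subtype.val hab)
        obtain ⟨v, hv⟩ := hπs (m x₀ d)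
        refine hd ((hline ((a : Γ)⁻¹ * b) (A.mul_mem (A.inv_mem a.2) b.2)
          (fun h => hne (Subtype.ext (inv_mul_eq_one.1 h)))).1.le ?_)
        show m ((a : Γ)⁻¹ * b) (m x₀ d) - m x₀ d = 0
        rw [← hv] at hab' ⊢
        rw [← hπm, ← hπm] at hab'
        rw [← hπm, act_mul, hπm, ← hab', ← hπm, act_inv, sub_self]
      obtain ⟨a, ha⟩ := ((Nat.bijective_iff_injective_and_card f₁).2 ⟨hf₁, hLc.symm⟩).2 c
      have ha' : m (a : Γ) (m x₀ d) = π (σ g x) := by
        rw [← hcd, ← congrArg Subtype.val ha]; show _ = m (a : Γ) (m x₀ d) - m x₀ d + m x₀ d; abel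
      obtain ⟨v, hv⟩ := hπs (d : Fin 2 → F)
      have hh : ((a : Γ) * x₀)⁻¹ * g ∉ M₀ := fun h => hx₀ (by
        have := M₀.mul_mem (M₀.inv_mem (hAM a.2)) (M₀.mul_mem hg (M₀.inv_mem h))
        simpa [mul_assoc] using this)
      have h0 := hψ _ (π x) (himgL x hx) (by
        have e1 : m (((a : Γ) * x₀)⁻¹ * g) (π x) = d := by
          rw [← hπm, act_mul, hπm, ← ha', ← hv, ← hπm, ← hπm, ← hπm, ← act_mul σ (a : Γ) x₀, act_inv]
        rw [e1]; exact d.2) hh
      refine hn ?_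
      rw [hπm, h0, map_zero]; exact L.zero_mem
    obtain ⟨y, hy⟩ := hφ.2 ⟨_, hgL⟩
    have hy' : π (y : U) = π (σ g x) := congrArg Subtype.val hy
    have hd0 : σ g x - y = 0 := by
      have h1 : σ z₀ (σ g x - y) = σ g x - y := (hπk _).1 (by rw [map_sub, hy', sub_self]) z₀ (Subgroup.mem_top _)
      rw [map_sub, ← act_mul, hzc, act_mul, hzneg A x hx, map_neg, hzneg A y y.2] at h1
      refine htwo _ ?_
      calc σ g x - y + (σ g x - y) = (σ g x - y) - (-σ g x - -(y : U)) := by abel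
        _ = 0 := by rw [h1, sub_self]
    rw [sub_eq_zero.1 hd0]; exact y.2
  obtain ⟨c, d, hcd⟩ := hspan x hx (π u)
  obtain ⟨a, ha⟩ := hφ.2 c
  obtain ⟨b, hb⟩ := hφ.2 d
  refine ⟨a, a.2, σ x b, mem_img_cm σ b.2, (hπk _).1 ?_⟩
  rw [map_sub, map_sub, hπm, show π a = c from congrArg Subtype.val ha, show π b = d from congrArg Subtype.val hb,
    ← hcd, sub_sub, sub_eq_zero]

end CfsgLib.RootCommute
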