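import Cfsg.Agent.Lib.RootCommute.Module
import Cfsg.Agent.Lib.ZJFailure.Pair

/-!
Minimal pairs for a conjugation invariant class of `p`-subgroups, when the overgroups of a Sylow
subgroup lie in one proper subgroup.
-/

set_option autoImplicit false
set_option linter.unusedSectionVars false
set_option linter.style.haveILetI false

namespace CfsgLib.RootCommute

open CfsgLib CfsgLib.StrongFusion

universe u

variable {G : Type u} [Group G] [Finite G] {p : ℕ} [hp : Fact p.Prime]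

/-- A class of subgroups with a Sylow subgroup and the subgroup over it. -/
structure ClassData (T : Sylow p G) (K : Subgroup G) (cl : Set (Subgroup G)) : Prop where
  conj : ∀ R ∈ cl, ∀ g, cm g R ∈ cl
  pgrp : ∀ R ∈ cl, IsPGroup p R
  ne_bot : ∀ R ∈ cl, R ≠ ⊥
  exists_le : ∃ R ∈ cl, R ≤ (T : Subgroup G)
  le_K : (T : Subgroup G) ≤ K
  K_ne : K ≠ ⊤
  over_le : ∀ H : Subgroup G, (T : Subgroup G) ≤ H → H ≠ ⊤ → H ≤ K
  no_core : ∀ N : Subgroup G, N.Normal → IsPGroup p N → N = ⊥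

/-- The members inside a subgroup. -/
def membersIn (cl : Set (Subgroup G)) (E : Subgroup G) : Set (Subgroup G) := {R | R ∈ cl ∧ R ≤ E}

variable {T : Sylow p G} {K : Subgroup G} {cl : Set (Subgroup G)}

variable (T K cl) in
/-- An element outside `K` keeping as many members as possible. -/
def Peak (g : G) : Prop :=
  g ∉ K ∧ ∀ h, h ∉ K → (membersIn cl ((T : Subgroup G) ⊓ cm h (T : Subgroup G))).ncard ≤
    (membersIn cl ((T : Subgroup G) ⊓ cm g (T : Subgroup G))).ncard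

variable (T cl) in
/-- The join of the kept members. -/
def kept (g : G) : Subgroup G := sSup (membersIn cl ((T : Subgroup G) ⊓ cm g (T : Subgroup G)))

theorem kept_le_inf (g : G) : kept T cl g ≤ (T : Subgroup G) ⊓ cm g (T : Subgroup G) :=
  sSup_le fun _ hR => hR.2

theorem kept_le (g : G) : kept T cl g ≤ (T : Subgroup G) := (kept_le_inf g).trans inf_le_left

theorem le_kept {g : G} {R : Subgroup G} (hR : R ∈ cl) (h1 : R ≤ (T : Subgroup G))
    (h2 : R ≤ cm g (T : Subgroup G)) : R ≤ kept T cl g := le_sSup ⟨hR, le_inf h1 h2⟩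

theorem kept_eq_sSup (g : G) : kept T cl g ≤ sSup (membersIn cl (kept T cl g)) :=
  sSup_le fun R hR => le_sSup (show R ∈ membersIn cl (kept T cl g) from ⟨hR.1, le_kept hR.1 (hR.2.trans inf_le_left) (hR.2.trans inf_le_right)⟩)

theorem cm_injective (g : G) : Function.Injective (cm g : Subgroup G → Subgroup G) := fun A B e => by
  rw [← cm_inv_cm g A, ← cm_inv_cm g B]; exact congrArg (cm g⁻¹) e

theorem image_membersIn (h : ClassData T K cl) (g : G) (E : Subgroup G) :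
    cm g '' membersIn cl E = membersIn cl (cm g E) := by
  refine Set.Subset.antisymm (Set.image_subset_iff.2 fun R hR => ⟨h.conj R hR.1 g, cm_mono hR.2⟩) fun R hR => ?_
  refine ⟨cm g⁻¹ R, ⟨h.conj R hR.1 _, (cm_mono hR.2).trans (cm_inv_cm g E).le⟩, ?_⟩
  rw [cm_cm, mul_inv_cancel, cm_one]

theorem cm_inf (g : G) (A B : Subgroup G) : cm g (A ⊓ B) = cm g A ⊓ cm g B :=
  Subgroup.map_inf A B _ (MulAut.conj g).injective

theorem membersIn_inv (h : ClassData T K cl) (g : G) :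
    membersIn cl ((T : Subgroup G) ⊓ cm g⁻¹ (T : Subgroup G)) =
      cm g⁻¹ '' membersIn cl ((T : Subgroup G) ⊓ cm g (T : Subgroup G)) := by
  rw [image_membersIn h, cm_inf, cm_inv_cm, inf_comm]

theorem Peak.inv (h : ClassData T K cl) {g : G} (hg : Peak T K cl g) : Peak T K cl g⁻¹ := by
  refine ⟨fun hh => hg.1 (by simpa using inv_mem hh), fun y hy => ?_⟩
  rw [membersIn_inv h, Set.ncard_image_of_injective _ (cm_injective _)]
  exact hg.2 y hy

theorem kept_inv (h : ClassData T K cl) (g : G) : kept T cl g⁻¹ = cm g⁻¹ (kept T cl g) := by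
  rw [kept, membersIn_inv h, sSup_image]
  exact (Subgroup.gc_map_comap (MulAut.conj g⁻¹).toMonoidHom).l_sSup.symm

theorem exists_peak (h : ClassData T K cl) : ∃ g, Peak T K cl g := by
  obtain ⟨g₀, hg₀⟩ : ∃ g, g ∉ K := by
    by_contra h'; push Not at h'; exact h.K_ne (eq_top_iff.2 fun x _ => h' x)
  obtain ⟨g, hg, hmax⟩ := Set.exists_max_image {g : G | g ∉ K}
    (fun g => (membersIn cl ((T : Subgroup G) ⊓ cm g (T : Subgroup G))).ncard) (Set.toFinite _) ⟨g₀, hg₀⟩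
  exact ⟨g, hg, hmax⟩

theorem exists_conj_in (h : ClassData T K cl) {E : Subgroup G} (hE : IsPGroup p E) (hEK : E ≤ K) :
    ∃ k ∈ K, E ≤ cm k (T : Subgroup G) := by
  obtain ⟨m, hm, hme⟩ := exists_conj_le h.le_K T.2
    (fun hd => T.not_dvd_index (hd.trans (Subgroup.relIndex_dvd_index_of_le h.le_K))) hEK hE
  refine ⟨m⁻¹, inv_mem hm, ?_⟩
  have := cm_mono (g := m⁻¹) hme
  rwa [cm_inv_cm] at this

theorem unambiguous (h : ClassData T K cl) {g : G} (hg : Peak T K cl g) {a b : G} {E : Subgroup G}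
    (hXE : kept T cl g ≤ E) (ha : E ≤ cm a (T : Subgroup G)) (hb : E ≤ cm b (T : Subgroup G)) {R : Subgroup G}
    (hR : R ∈ cl) (hRE : R ≤ E) (hRX : ¬ R ≤ kept T cl g) : a⁻¹ * b ∈ K := by
  by_contra hab
  have h1 : (membersIn cl ((T : Subgroup G) ⊓ cm g (T : Subgroup G))).ncard < (membersIn cl E).ncard :=
    Set.ncard_lt_ncard ⟨fun R' hR' => ⟨hR'.1, (le_sSup (show R' ∈ membersIn cl _ from hR')).trans hXE⟩,
      fun h' => hRX (le_sSup (h' ⟨hR, hRE⟩))⟩ (Set.toFinite _)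
  have h2 : (membersIn cl E).ncard ≤
      (membersIn cl ((T : Subgroup G) ⊓ cm (a⁻¹ * b) (T : Subgroup G))).ncard := by
    rw [← Set.ncard_image_of_injective (membersIn cl E) (cm_injective a⁻¹), image_membersIn h]
    refine Set.ncard_le_ncard (fun R' hR' => ⟨hR'.1, hR'.2.trans (le_inf ?_ ?_)⟩) (Set.toFinite _)
    · exact (cm_mono ha).trans (cm_inv_cm a _).le
    · exact (cm_mono hb).trans (cm_cm a⁻¹ b _).le
  exact absurd (hg.2 _ hab) (not_le.2 (h1.trans_le h2))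

/-- A `p`-subgroup holding the kept members and one more is carried into `K` only by `K`. -/
theorem mem_of_carries (h : ClassData T K cl) {g : G} (hg : Peak T K cl g) {E : Subgroup G} (hE : IsPGroup p E)
    (hEK : E ≤ K) (hXE : kept T cl g ≤ E) {R : Subgroup G} (hR : R ∈ cl) (hRE : R ≤ E) (hRX : ¬ R ≤ kept T cl g)
    {y : G} (hy : cm y E ≤ K) : y ∈ K := by
  obtain ⟨k, hk, hkE⟩ := exists_conj_in h hE hEK
  obtain ⟨k', hk', hkE'⟩ := exists_conj_in h (E := cm y E) (hE.map _) hy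
  have h1 := unambiguous h hg (a := k) (b := y⁻¹ * k') hXE hkE (by
    have := cm_mono (g := y⁻¹) hkE'
    rwa [cm_inv_cm, cm_cm] at this) hR hRE hRX
  have h2 := mul_mem hk' (inv_mem (mul_mem hk h1))
  rwa [show k' * (k * (k⁻¹ * (y⁻¹ * k')))⁻¹ = y by group] at h2

/-- Some member is not kept. -/
theorem exists_not_kept (h : ClassData T K cl) {g : G} (hg : Peak T K cl g) :
    ∃ R ∈ cl, R ≤ (T : Subgroup G) ∧ ¬ R ≤ kept T cl g := by
  by_contra hno
  push Not at hno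
  set J := sSup (membersIn cl (T : Subgroup G)) with hJ
  have hTJ : (T : Subgroup G) ≤ Subgroup.normalizer (J : Set G) := fun t ht =>
    ZJFailure.mem_normalizer_of_forall fun x hx => by
      have h1 : J ≤ J.comap (MulAut.conj t).toMonoidHom := sSup_le fun R hR y hy =>
        (le_sSup (α := Subgroup G) (s := membersIn cl (T : Subgroup G)) ⟨h.conj R hR.1 t, Local.map_conj_le fun r hr =>
          mul_mem (mul_mem ht (hR.2 hr)) (inv_mem ht)⟩) ⟨y, hy, rfl⟩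
      exact h1 hx
  have hne : Subgroup.normalizer (J : Set G) ≠ ⊤ := fun htop => by
    have h1 := h.no_core J (Subgroup.normalizer_eq_top_iff.1 htop) (T.2.to_le (sSup_le fun R hR => hR.2))
    obtain ⟨R, hR, hRT⟩ := h.exists_le
    exact h.ne_bot R hR (le_bot_iff.1 (h1 ▸ (le_sSup (show R ∈ membersIn cl (T : Subgroup G) from ⟨hR, hRT⟩) : R ≤ J)))
  have hback : g⁻¹ ∈ Subgroup.normalizer (J : Set G) := by
    refine ZJFailure.mem_normalizer_of_forall fun x hx => ?_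
    have h1 : J ≤ J.comap (MulAut.conj g⁻¹).toMonoidHom := sSup_le fun R hR y hy =>
      (le_sSup (α := Subgroup G) (s := membersIn cl (T : Subgroup G)) ⟨h.conj R hR.1 g⁻¹,
        (cm_mono (((hno R hR.1 hR.2).trans (kept_le_inf g)).trans inf_le_right)).trans (cm_inv_cm g _).le⟩) ⟨y, hy, rfl⟩
    exact h1 hx
  exact hg.1 (h.over_le _ hTJ hne (by simpa using inv_mem hback))

/-- A new member normalising a join of members. -/
theorem exists_normalizing (h : ClassData T K cl) {Z : Subgroup G} (hZS : Z ≤ (T : Subgroup G))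
    (hZ : Z ≤ sSup (membersIn cl Z)) (hR : ∃ R ∈ cl, R ≤ (T : Subgroup G) ∧ ¬ R ≤ Z) :
    ∃ R ∈ cl, R ≤ (T : Subgroup G) ∧ ¬ R ≤ Z ∧ R ≤ Subgroup.normalizer (Z : Set G) := by
  obtain ⟨M, ⟨hZM, hMS, hMT⟩, hmax'⟩ := Set.exists_max_image
    {M : Subgroup G | Z ≤ M ∧ M ≤ (T : Subgroup G) ∧ ∀ R ∈ cl, R ≤ M → R ≤ Z} (fun M => Nat.card M) (Set.toFinite _)
    ⟨Z, le_rfl, hZS, fun _ _ h' => h'⟩
  have hlt := lt_inf_normalizer T hMS fun h' => by
    obtain ⟨R, hR, hRT, hRZ⟩ := hR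
    exact hRZ (hMT R hR (hRT.trans h'.ge))
  set N := (T : Subgroup G) ⊓ Subgroup.normalizer (M : Set G) with hN
  obtain ⟨R, hRcl, hRN, hRZ⟩ : ∃ R ∈ cl, R ≤ N ∧ ¬ R ≤ Z := by
    by_contra h'
    push Not at h'
    exact hlt.ne (Subgroup.eq_of_le_of_card_ge hlt.le (hmax' N ⟨hZM.trans hlt.le, inf_le_left, h'⟩))
  refine ⟨R, hRcl, hRN.trans inf_le_left, hRZ, fun r hr => ZJFailure.mem_normalizer_of_forall fun z hz => ?_⟩
  have h1 : sSup (membersIn cl Z) ≤ Z.comap (MulAut.conj r).toMonoidHom := sSup_le fun R' hR' x hx =>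
    hMT (cm r R') (h.conj R' hR'.1 r)
      (Local.map_conj_le fun y hy => (Subgroup.mem_normalizer_iff.1 (hRN hr).2 y).1 (hZM (hR'.2 hy))) ⟨x, hx, rfl⟩
  exact h1 (hZ hz)

/-- A least pair over the kept members, starting from a given member. -/
theorem exists_least_pair (h : ClassData T K cl) {g : G} (hg : Peak T K cl g) {C : Subgroup G} (hC : C ∈ cl)
    (hCT : C ≤ (T : Subgroup G)) (hCN : C ≤ Subgroup.normalizer (kept T cl g : Set G))
    (hCX : ¬ C ≤ kept T cl g) :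
    ∃ k ∈ K, k ∈ Subgroup.normalizer (kept T cl g : Set G) ∧ ∃ P Γ : Subgroup G, cm k C ≤ P ∧ P ≤ Γ ∧ P ≤ K ∧
      IsPGroup p P ∧ ¬ p ∣ P.relIndex Γ ∧ ¬ Γ ≤ K ∧ Γ ≤ Subgroup.normalizer (kept T cl g : Set G) ∧
      ∀ x ∈ Γ, x ∉ K → cm k C ⊔ cm x (cm k C) = Γ := by
  classical
  set P₀ := (T : Subgroup G) with hP₀
  set X := kept T cl g with hX
  have hXS : X ≤ P₀ := kept_le g
  obtain ⟨Q₁, hQ₁c, hQ₁T, hQ₁X, hQ₁N⟩ := exists_normalizing h hXS (kept_eq_sSup g) (exists_not_kept h hg)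
  obtain ⟨Q₂, hQ₂c, hQ₂T, hQ₂X, hQ₂N⟩ := exists_normalizing h (kept_le (T := T) (cl := cl) g⁻¹)
    (kept_eq_sSup g⁻¹) (exists_not_kept h (hg.inv h))
  rw [kept_inv h, ← hX] at hQ₂X hQ₂N
  set L₁ := Subgroup.normalizer (X : Set G) with hL₁
  have hXL : X ≤ L₁ := Subgroup.le_normalizer
  have hgX' : cm g (cm g⁻¹ X) = X := by rw [cm_cm, mul_inv_cancel, cm_one]
  have hQ₂L : cm g Q₂ ≤ L₁ := Local.map_conj_le fun t ht => ZJFailure.mem_normalizer_of_forall fun x hx => by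
    obtain ⟨y, hy, rfl⟩ := hgX'.ge hx
    refine hgX'.le ⟨t * y * t⁻¹, (Subgroup.mem_normalizer_iff.1 (hQ₂N ht) y).1 hy, ?_⟩
    simp [mul_assoc]
  -- an element of `L₁` outside `K`
  obtain ⟨c₀, hc₀, R, hR, -, hAR, hBR⟩ := Local.exists_conj_isPGroup (A := P₀ ⊓ L₁) (B := cm g P₀ ⊓ L₁) (C := L₁)
    (T.2.to_le inf_le_left) ((T.2.map (MulAut.conj g).toMonoidHom).to_le inf_le_left) inf_le_right inf_le_right
  obtain ⟨a, ha⟩ := ZJFailure.exists_le_cm T hR
  set l := c₀⁻¹ with hl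
  have hlL : l ∈ L₁ := inv_mem hc₀
  have hlK : l ∉ K := by
    intro hlK
    have h1 : (1 : G)⁻¹ * a ∈ K := unambiguous h hg (le_inf hXS hXL) (by rw [cm_one]; exact inf_le_left) (hAR.trans ha)
      hQ₁c (le_inf hQ₁T hQ₁N) hQ₁X
    rw [inv_one, one_mul] at h1
    have h2 : g⁻¹ * (l * a) ∈ K := unambiguous h hg (a := g) (b := l * a) (le_inf ((kept_le_inf g).trans inf_le_right) hXL) inf_le_left
      (by
        have := cm_mono (g := l) (hBR.trans ha)
        rwa [hl, cm_inv_cm, cm_cm] at this)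
      (h.conj Q₂ hQ₂c g) (le_inf (cm_mono hQ₂T) hQ₂L) (fun h' => hQ₂X (by
        have := cm_mono (g := g⁻¹) h'
        rwa [cm_inv_cm] at this))
    refine hg.1 ?_
    have h3 := mul_mem (mul_mem hlK h1) (inv_mem h2)
    rwa [show l * a * (g⁻¹ * (l * a))⁻¹ = g by group] at h3
  -- conjugation of members inside `N(X)` is controlled by `K`
  have huniq : ∀ A ∈ cl, A ≤ L₁ ⊓ K → ¬ A ≤ X → ∀ y ∈ L₁, cm y A ≤ K → y ∈ K := by
    intro A hA hAle hAX y hy hyA
    refine mem_of_carries h hg ((h.pgrp A hA).to_sup_of_normal_right' (T.2.to_le hXS) (hAle.trans inf_le_left))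
      (sup_le (hAle.trans inf_le_right) (hXS.trans h.le_K)) le_sup_right hA le_sup_left hAX ?_
    rw [cm, Subgroup.map_sup]
    exact sup_le hyA ((Local.map_conj_eq_of_mem_normalizer hy).le.trans (hXS.trans h.le_K))
  -- the least pair
  obtain ⟨⟨k₀, l₂⟩, ⟨hk₀, hl₂, hl₂K⟩, hmin⟩ := Set.exists_min_image
    {q : G × G | q.1 ∈ K ⊓ L₁ ∧ q.2 ∈ L₁ ∧ q.2 ∉ K}
    (fun q => Nat.card ↥(cm q.1 C ⊔ cm q.2 (cm q.1 C))) (Set.toFinite _) ⟨(1, l), one_mem _, hlL, hlK⟩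
  set A := cm k₀ C with hAdef
  have hA : A ∈ cl := h.conj C hC k₀
  have hAle : A ≤ L₁ ⊓ K := le_inf
    (Local.map_conj_le fun c hc => mul_mem (mul_mem hk₀.2 (hCN hc)) (inv_mem hk₀.2))
    (Local.map_conj_le fun c hc => mul_mem (mul_mem hk₀.1 (h.le_K (hCT hc))) (inv_mem hk₀.1))
  have hAX : ¬ A ≤ X := fun h' => hCX (by
    have h1 := cm_mono (g := k₀⁻¹) h'
    rwa [hAdef, cm_inv_cm, show cm k₀⁻¹ X = X from Local.map_conj_eq_of_mem_normalizer (inv_mem hk₀.2)] at h1)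
  set Γ := A ⊔ cm l₂ A with hΓ
  have hΓL : Γ ≤ L₁ := sup_le (hAle.trans inf_le_left) (Local.map_conj_le fun x hx =>
    mul_mem (mul_mem hl₂ (hAle hx).1) (inv_mem hl₂))
  have hAΓ : A ≤ Γ := le_sup_left
  obtain ⟨P, hAP, hPle, hPp, hPmax⟩ : ∃ P, A ≤ P ∧ P ≤ Γ ⊓ K ∧ IsPGroup p P ∧
      ∀ Q : Subgroup G, P ≤ Q → Q ≤ Γ ⊓ K → IsPGroup p Q → Q = P := by
    obtain ⟨P, ⟨h1, h2, h3⟩, hm⟩ := Set.exists_max_image {P : Subgroup G | A ≤ P ∧ P ≤ Γ ⊓ K ∧ IsPGroup p P}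
      (fun P => Nat.card P) (Set.toFinite _) ⟨A, le_rfl, le_inf hAΓ (hAle.trans inf_le_right), (h.pgrp A hA)⟩
    exact ⟨P, h1, h2, h3, fun Q a b c => (Subgroup.eq_of_le_of_card_ge a (hm Q ⟨h1.trans a, b, c⟩)).symm⟩
  have hPΓ : P ≤ Γ := hPle.trans inf_le_left
  have hidx : ¬ p ∣ P.relIndex Γ := by
    intro hd
    obtain ⟨Q, hQ⟩ := (hPp.of_equiv (Subgroup.subgroupOfEquivOfLe hPΓ).symm).exists_le_sylow
    have hPQ : P ≤ (Q : Subgroup Γ).map Γ.subtype := fun x hx => ⟨⟨x, hPΓ hx⟩, hQ hx, rfl⟩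
    have hne : P.subgroupOf Γ ≠ (Q : Subgroup Γ) := fun e => Q.not_dvd_index (by rwa [← e])
    haveI : Group.IsNilpotent ↥(Q : Subgroup Γ) := Q.2.isNilpotent
    have hlt : (P.subgroupOf Γ).subgroupOf (Q : Subgroup Γ) < ⊤ :=
      lt_of_le_of_ne le_top fun e => hne (le_antisymm hQ (Subgroup.subgroupOf_eq_top.1 e))
    obtain ⟨x, hx1, hx2⟩ := SetLike.exists_of_lt (Group.normalizerCondition_of_isNilpotent _ hlt)
    set y : G := ((x : ↥Γ) : G) with hy
    have hyP : y ∉ P := fun h => hx2 h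
    have hyn : cm y P ≤ P := Local.map_conj_le fun z hz => by
      have := (Subgroup.mem_normalizer_iff.1 hx1 ⟨⟨z, hPΓ hz⟩, hQ hz⟩).1 hz
      exact this
    by_cases hyK : y ∈ K
    · refine hyP ((hPmax (P ⊔ Subgroup.zpowers y) le_sup_left ?_ ?_).le
        (Subgroup.mem_sup_right (Subgroup.mem_zpowers y)))
      · exact sup_le hPle (Subgroup.zpowers_le.2 ⟨(x : ↥Γ).2, hyK⟩)
      · exact (Q.2.map Γ.subtype).to_le (sup_le hPQ (Subgroup.zpowers_le.2 ⟨(x : ↥Γ), x.2, rfl⟩))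
    · exact hyK (huniq A hA hAle hAX y (hΓL (x : ↥Γ).2) (((cm_mono hAP).trans hyn).trans (hPle.trans inf_le_right)))
  obtain ⟨m, hm, hmP⟩ := exists_conj_le hPΓ hPp hidx (le_sup_right : cm l₂ A ≤ Γ) ((h.pgrp A hA).map _)
  rw [cm_cm] at hmP
  have hmlK : m * l₂ ∈ K := huniq A hA hAle hAX _ (mul_mem (hΓL hm) hl₂) (hmP.trans (hPle.trans inf_le_right))
  have hmK : m⁻¹ ∉ K := fun h' => hl₂K (by simpa using mul_mem h' hmlK)
  have hkk : m * l₂ * k₀ ∈ K ⊓ L₁ := ⟨mul_mem hmlK hk₀.1, mul_mem (mul_mem (hΓL hm) hl₂) hk₀.2⟩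
  have hA'eq : cm (m * l₂ * k₀) C = cm (m * l₂) A := by rw [hAdef, cm_cm]
  refine ⟨m * l₂ * k₀, hkk.1, hkk.2, P, Γ, hA'eq.le.trans hmP, hPΓ, hPle.trans inf_le_right, hPp, hidx,
    fun h' => hmK (inv_mem (h' hm)), hΓL, fun x hx hxK => ?_⟩
  refine Subgroup.eq_of_le_of_card_ge ?_ ?_
  · rw [hA'eq]
    exact sup_le (hmP.trans hPΓ) (Local.map_conj_le fun y hy =>
      mul_mem (mul_mem hx (hPΓ (hmP hy))) (inv_mem hx))
  · exact hmin (m * l₂ * k₀, x) ⟨hkk, hΓL hx, hxK⟩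

end CfsgLib.RootCommute
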