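import Cfsg.Agent.Lib.RootCommute.Cases

/-!
The members of one Sylow subgroup, each with a frame: vectors fixed only inside the maximal subgroup lie in
the vectors fixed by their join, so that subgroup normalises the join and the members are root groups of
independent components.
-/

set_option autoImplicit false
set_option linter.unusedSectionVars false
set_option linter.unusedVariables false
set_option linter.style.haveILetI false

namespace CfsgLib.RootCommute

open CfsgLib CfsgLib.StrongFusion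
open CfsgLib.SL2Pair (fix)

universe u v

variable {P : Type u} [Group P] [Finite P] {U : Type v} [AddCommGroup U] [Finite U] {ρ : P →* AddMonoid.End U}
  {p : ℕ} [hp : Fact p.Prime] {T : Sylow p P} {M X : Subgroup P} {n : ℕ}

/-- A `p`-subgroup of `M` lies in a conjugate of `T` under `M`. -/
theorem Setting.exists_conj_le (hs : Setting ρ T M) {E : Subgroup P} (hE : IsPGroup p E) (hEM : E ≤ M) :
    ∃ k ∈ M, E ≤ cm k (T : Subgroup P) := by
  obtain ⟨m, hm, hme⟩ := StrongFusion.exists_conj_le hs.le_M T.2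
    (fun hd => T.not_dvd_index (hd.trans (Subgroup.relIndex_dvd_index_of_le hs.le_M))) hEM hE
  refine ⟨m⁻¹, inv_mem hm, ?_⟩
  have := cm_mono (g := m⁻¹) hme
  rwa [cm_inv_cm] at this

variable (ρ) in
/-- A regular subgroup with an opposite one outside `M`, generating `SL₂` on a natural module. -/
structure Framed (M : Subgroup P) (n : ℕ) (A R : Subgroup P) (z : P) : Prop where
  frame : Frame ρ n A R z
  not_le : ¬ R ≤ M
  keep : ∀ g ∈ A ⊔ R, g ∈ M → ∀ x ∈ img ρ A, ρ g x ∈ img ρ A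
  gen : ∀ g ∈ A ⊔ R, g ∉ M → A ⊔ cm g A = A ⊔ R
  natural : ∃ (F : Type) (_ : Field F) (_ : Fintype F), Fintype.card F = n ∧
    Nonempty (↥(A ⊔ R : Subgroup P) ≃* Matrix.SpecialLinearGroup (Fin 2) F)

theorem Framed.conj {A R : Subgroup P} {z : P} (h : Framed ρ M n A R z) {m : P} (hm : m ∈ M) :
    Framed ρ M n (cm m A) (cm m R) (m * z * m⁻¹) := by
  have hsup : cm m A ⊔ cm m R = cm m (A ⊔ R) := (Subgroup.map_sup A R _).symm
  refine ⟨h.frame.conj m, fun hle => h.not_le fun r hr => ?_, fun g hg hgM x hx => ?_, fun g hg hgM => ?_, ?_⟩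
  · have := M.mul_mem (M.mul_mem (M.inv_mem hm) (hle ⟨r, hr, rfl⟩)) hm
    simpa [mul_assoc] using this
  · rw [hsup] at hg
    obtain ⟨g', hg', rfl⟩ := hg
    have hg'M : g' ∈ M := by
      have := M.mul_mem (M.mul_mem (M.inv_mem hm) hgM) hm
      simpa [mul_assoc] using this
    have h1 := mem_img_cm ρ (g := m⁻¹) hx
    rw [cm_inv_cm] at h1
    have h2 := mem_img_cm ρ (g := m) (h.keep g' hg' hg'M _ h1)
    show ρ (m * g' * m⁻¹) x ∈ _
    rwa [act_mul, act_mul]
  · rw [hsup] at hg ⊢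
    obtain ⟨g', hg', rfl⟩ := hg
    have hg'M : g' ∉ M := fun h' => hgM (by
      show m * g' * m⁻¹ ∈ M
      exact M.mul_mem (M.mul_mem hm h') (M.inv_mem hm))
    show cm m A ⊔ cm (m * g' * m⁻¹) (cm m A) = _
    rw [cm_cm _ m A, show m * g' * m⁻¹ * m = m * g' by group, ← cm_cm m g' A]
    exact ((Subgroup.map_sup A (cm g' A) _).symm.trans (congrArg _ (h.gen g' hg' hg'M)))
  · obtain ⟨F, iF, iF', hF, ⟨e⟩⟩ := h.natural
    exact ⟨F, iF, iF', hF, ⟨(MulEquiv.subgroupCongr hsup).trans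
      (((A ⊔ R).equivMapOfInjective (MulAut.conj m).toMonoidHom (MulAut.conj m).injective).symm.trans e)⟩⟩

variable (ρ) in
/-- The members in one Sylow subgroup, with frames. -/
structure Roots (T : Sylow p P) (M X : Subgroup P) (n : ℕ) (mem : Set (Subgroup P))
    (opp : Subgroup P → Subgroup P) (zed : Subgroup P → P) : Prop where
  set_up : Setting ρ T M
  nonempty : mem.Nonempty
  sup_eq : X = sSup mem
  le : X ≤ (T : Subgroup P)
  framed : ∀ A ∈ mem, Framed ρ M n A (opp A) (zed A)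
  apart : ∀ A ∈ mem, ∀ B ∈ mem, Apart ρ A B
  carried : ∀ g, ∀ A ∈ mem, cm g A ≤ X → cm g A ∈ mem
  closed : ∀ g, cm g X ≤ (T : Subgroup P) → cm g X = X

/-- Members and frames exist. -/
theorem exists_roots (hs : Setting ρ T M) (hoff : ∃ E, IsOffender ρ p E) :
    ∃ (X : Subgroup P) (n : ℕ) (mem : Set (Subgroup P)) (opp : Subgroup P → Subgroup P) (zed : Subgroup P → P),
      Roots ρ T M X n mem opp zed := by
  classical
  obtain ⟨cl₀, cl, g₀, n, C, R, z, hA, hd, hCcl, hreg, hap, hconj⟩ := exists_class hs hoff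
  set T' := (T : Subgroup P) with hT'
  set X := sSup (membersIn cl T') with hX
  have hXT : X ≤ T' := sSup_le fun S hS => hS.2
  have hwc : ∀ g, cm g X ≤ T' → cm g X = X := fun g hg => by
    refine Subgroup.eq_of_le_of_card_ge ?_ (Subgroup.card_map_of_injective (MulAut.conj g).injective).ge
    have h1 : X ≤ X.comap (MulAut.conj g).toMonoidHom := sSup_le fun B hB y hy =>
      le_sSup (show cm g B ∈ membersIn cl T' from ⟨hd.conj B hB.1 g, (cm_mono (le_sSup hB)).trans hg⟩) ⟨y, hy, rfl⟩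
    exact Subgroup.map_le_iff_le_comap.2 h1
  have hCX : C ≤ X := le_sSup (show C ∈ membersIn cl T' from ⟨hCcl, hA.le⟩)
  have hNX : Subgroup.normalizer (X : Set P) ≤ M := by
    refine hs.over_le _ (fun t ht => Local.mem_normalizer_of_map_conj_eq (hwc t (Local.map_conj_le fun r hr =>
      mul_mem (mul_mem ht (hXT hr)) (inv_mem ht)))) fun e => ?_
    exact hd.ne_bot C hCcl (le_bot_iff.1 (hs.no_core X (Subgroup.normalizer_eq_top_iff.1 e) (T.2.to_le hXT) ▸ hCX))
  have hcm : ∀ {B S : Subgroup P}, B ∈ membersIn cl T' → S ∈ membersIn cl T' → ∀ b ∈ B, ∀ s ∈ S, b * s = s * b :=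
    fun hB hS b hb s hs' => commute_of_separate hs.inj (hreg _ hB.1) (hreg _ hS.1) (hap _ hB.1 hB.2 _ hS.1 hS.2).1
      (hap _ hB.1 hB.2 _ hS.1 hS.2).2 hb hs'
  have hXc : ∀ {B : Subgroup P}, B ∈ membersIn cl T' → X ≤ Subgroup.centralizer (B : Set P) := fun {B} hB =>
    sSup_le fun S hS s hs' => Subgroup.mem_centralizer_iff.2 fun b hb => hcm hB hS b hb s hs'
  -- every member is carried from the anchor inside `M`
  have hframe : ∀ S ∈ membersIn cl T', ∃ R' z', Framed ρ M n S R' z' := by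
    intro S hS
    obtain ⟨g, hg⟩ := hconj S hS.1
    have hCm : C ∈ membersIn cl T' := ⟨hCcl, hA.le⟩
    set Z := Subgroup.centralizer (S : Set P) with hZ
    have hgX : cm g X ≤ Z := by
      rw [hZ, ← hg]
      refine Local.map_conj_le fun x hx => Subgroup.mem_centralizer_iff.2 ?_
      rintro _ ⟨b, hb, rfl⟩
      show g * b * g⁻¹ * (g * x * g⁻¹) = g * x * g⁻¹ * (g * b * g⁻¹)
      have := Subgroup.mem_centralizer_iff.1 (hXc hCm hx) b hb
      calc g * b * g⁻¹ * (g * x * g⁻¹) = g * (b * x) * g⁻¹ := by group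
        _ = g * (x * b) * g⁻¹ := by rw [this]
        _ = _ := by group
    obtain ⟨Q, hQ⟩ := ((T.2.to_le hXT).of_equiv (Subgroup.subgroupOfEquivOfLe (hXc hS)).symm).exists_le_sylow (G := ↥Z)
    obtain ⟨Q', hQ'⟩ := (((T.2.to_le hXT).map (MulAut.conj g).toMonoidHom).of_equiv
      (Subgroup.subgroupOfEquivOfLe hgX).symm).exists_le_sylow (G := ↥Z)
    obtain ⟨k, hk⟩ := MulAction.exists_smul_eq ↥Z Q' Q
    set Qm := (Q : Subgroup ↥Z).map Z.subtype with hQm
    have hXQ : X ≤ Qm := fun x hx => ⟨⟨x, hXc hS hx⟩, hQ hx, rfl⟩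
    have hkXQ : cm ((k : P) * g) X ≤ Qm := by
      rw [← cm_cm]
      rintro _ ⟨y, hy, rfl⟩
      refine ⟨k * ⟨y, hgX hy⟩ * k⁻¹, ?_, rfl⟩
      rw [← hk, Sylow.coe_subgroup_smul]
      exact ⟨⟨y, hgX hy⟩, hQ' hy, rfl⟩
    obtain ⟨a, ha⟩ := ZJFailure.exists_le_cm T ((Q.2 : IsPGroup p (Q : Subgroup ↥Z)).map Z.subtype)
    have h1 : cm a⁻¹ X = X := hwc _ ((cm_mono (hXQ.trans ha)).trans (cm_inv_cm a T').le)
    have h2 : cm (a⁻¹ * ((k : P) * g)) X = X := hwc _ (by
      rw [← cm_cm]; exact (cm_mono (hkXQ.trans ha)).trans (cm_inv_cm a T').le)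
    have hm : (k : P) * g ∈ M := by
      refine hNX (Local.mem_normalizer_of_map_conj_eq (cm_injective a⁻¹ ?_))
      rw [cm_cm]; exact h2.trans h1.symm
    have hkS : cm ((k : P) * g) C = S := by
      rw [← cm_cm, hg]
      exact cm_eq_self fun b hb => by
        rw [← Subgroup.mem_centralizer_iff.1 k.2 b hb, mul_inv_cancel_right]
    have hF : Framed ρ M n C R z := ⟨hA.frame, hA.not_le, hA.keep, hA.gen, hA.natural⟩
    exact ⟨_, _, hkS ▸ hF.conj hm⟩
  choose! opp zed hfr using hframe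
  exact ⟨X, n, membersIn cl T', opp, zed, hs, ⟨C, hCcl, hA.le⟩, rfl, hXT, hfr,
    fun A hA' B hB => hap A hA'.1 hA'.2 B hB.1 hB.2, fun g A hA' hle => ⟨hd.conj A hA'.1 g, hle.trans hXT⟩, hwc⟩

namespace Roots

variable {mem : Set (Subgroup P)} {opp : Subgroup P → Subgroup P} {zed : Subgroup P → P}
  (h : Roots ρ T M X n mem opp zed)
include h

theorem le_X {A : Subgroup P} (hA : A ∈ mem) : A ≤ X := by rw [h.sup_eq]; exact le_sSup hA

theorem reg {A : Subgroup P} (hA : A ∈ mem) : Regular ρ n A := (h.framed A hA).frame.regA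

theorem mem_ne_bot {A : Subgroup P} (hA : A ∈ mem) : A ≠ ⊥ := fun e => by
  have F := (h.framed A hA).frame
  have h1 := F.regA.card_grp
  rw [e, Subgroup.card_bot] at h1
  have h2 := F.regR.card_grp
  rw [← h1] at h2
  exact (h.framed A hA).not_le (by rw [Subgroup.eq_bot_of_card_eq _ h2]; exact bot_le)

theorem ne_bot : X ≠ ⊥ := fun e => by
  obtain ⟨A, hA⟩ := h.nonempty
  exact h.mem_ne_bot hA (le_bot_iff.1 (e ▸ h.le_X hA))

theorem nontriv : Nontrivial U := h.set_up.nontrivial_of_ne h.ne_bot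

theorem pgroup : IsPGroup p X := T.2.to_le h.le

theorem normal_T : (T : Subgroup P) ≤ Subgroup.normalizer (X : Set P) := fun t ht =>
  Local.mem_normalizer_of_map_conj_eq (h.closed t (Local.map_conj_le fun r hr =>
    mul_mem (mul_mem ht (h.le hr)) (inv_mem ht)))

theorem normalizer_le : Subgroup.normalizer (X : Set P) ≤ M := h.set_up.over_le _ h.normal_T fun e =>
  h.ne_bot (h.set_up.no_core X (Subgroup.normalizer_eq_top_iff.1 e) h.pgroup)

theorem img_mem_le_fix {A : Subgroup P} (hA : A ∈ mem) : img ρ A ≤ fix ρ X := fun x hx => by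
  have h2 : X ≤ pointStab ρ x := h.sup_eq.le.trans (sSup_le fun B hB b hb => (h.apart A hA B hB).1 hx b hb)
  exact fun a ha => h2 ha

theorem mem_fix {u : U} (hu : ∀ A ∈ mem, u ∈ fix ρ A) : u ∈ fix ρ X := fun a ha => by
  have h2 : X ≤ pointStab ρ u := h.sup_eq.le.trans (sSup_le fun B hB b hb => hu B hB b hb)
  exact h2 ha

theorem img_le_of_mem {W : AddSubgroup U} (hW : ∀ A ∈ mem, img ρ A ≤ W) : img ρ X ≤ W := by
  have h2 : X ≤ cosetStab ρ W := h.sup_eq.le.trans (sSup_le fun B hB b hb u => hW B hB (sub_mem_img ρ hb u))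
  exact (img_le ρ).2 fun a ha => h2 ha

theorem quad : img ρ X ≤ fix ρ X := h.img_le_of_mem fun _ hA => h.img_mem_le_fix hA

theorem comm : ∀ a ∈ X, ∀ b ∈ X, a * b = b * a := by
  intro a ha b hb
  refine act_ext ρ h.set_up.inj fun u => ?_
  rw [act_mul, act_mul]
  have e1 := h.quad (sub_mem_img ρ hb u) a ha
  have e2 := h.quad (sub_mem_img ρ ha u) b hb
  rw [map_sub] at e1 e2
  rw [eq_add_of_sub_eq e1, eq_add_of_sub_eq e2]
  abel

/-- An element carrying a vector fixed only inside `M` to a vector fixed by `X` lies in `M`. -/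
theorem mem_M {u : U} (hu : pointStab ρ u ≤ M) {g : P} (hg : ρ g u ∈ fix ρ X) : g ∈ M := by
  have hle : cm g⁻¹ X ≤ M := fun x hx => hu <| by
    have hu' : u ∈ fix ρ (cm g⁻¹ X) := (mem_fix_cm ρ).2 (by rwa [inv_inv])
    exact hu' x hx
  obtain ⟨k, hk, hle'⟩ := h.set_up.exists_conj_le (h.pgroup.map _) hle
  have h1 : cm k⁻¹ (cm g⁻¹ X) = X := by
    rw [cm_cm]
    refine h.closed _ ?_
    rw [← cm_cm]
    exact (cm_mono hle').trans (cm_inv_cm k _).le
  have h2 : k⁻¹ * g⁻¹ ∈ M := h.normalizer_le (Local.mem_normalizer_of_map_conj_eq (by rw [← cm, ← cm_cm]; exact h1))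
  have h3 := M.mul_mem hk h2
  rw [mul_inv_cancel_left] at h3
  simpa using M.inv_mem h3

/-- A vector fixed only inside `M` is fixed by `X`. -/
theorem good_le {u : U} (hu : pointStab ρ u ≤ M) : u ∈ fix ρ X := by
  have hU := h.set_up.smul_zero
  have hp2 := h.set_up.p_odd
  refine h.mem_fix fun A hA => ?_
  have hF := h.framed A hA
  have F := hF.frame
  set R := opp A
  have hAM : A ≤ M := (h.le_X hA).trans (h.le.trans h.set_up.le_M)
  obtain ⟨x, hx, y, hy, hv⟩ := F.dec u
  by_cases hy0 : y = 0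
  · rw [hy0, sub_zero] at hv
    have := add_mem hv.1 (F.regA.quad hx)
    rwa [sub_add_cancel] at this
  exfalso
  obtain ⟨c, hc, hc0⟩ : ∃ c ∈ img ρ A, c ≠ 0 := by
    by_contra hno; push Not at hno
    have h1 := F.regA.card_img
    rw [(AddSubgroup.eq_bot_iff_forall _).2 hno, AddSubgroup.card_bot] at h1
    exact h.mem_ne_bot hA (Subgroup.eq_bot_of_card_eq A (F.regA.card_grp.trans h1.symm))
  have hcR : c ∉ fix ρ R := fun e => hc0 (F.eq_zero_A hU hp2 hc e)
  obtain ⟨r, hr, hry⟩ := F.regR.exists_elt hcR hy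
  have hrc : ρ r c ∉ fix ρ A := fun e => hy0 (F.eq_zero_R hU hp2 hy (by
    rw [← hry]; exact sub_mem e (F.regA.quad hc)))
  obtain ⟨a, ha, hax⟩ := F.regA.exists_elt hrc (sub_mem hx hc)
  have hgc : ρ (a * r) (c + (u - x - y)) = u := by
    rw [map_add, act_mul, sub_eq_iff_eq_add.1 hax, sub_eq_iff_eq_add.1 hry, act_mul, hv.2 r hr, hv.1 a ha]; abel
  -- every conjugate transvection keeps `img A`
  have hbeta : ∀ b ∈ A, ρ b (ρ r c - c) - (ρ r c - c) = 0 := by
    intro b hb
    set δ := ρ r c - c with hδ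
    have hgb : a * r * b * (a * r)⁻¹ ∈ M := hu (by
      show ρ (a * r * b * (a * r)⁻¹) u = u
      rw [act_mul]
      conv_lhs => rw [← hgc, act_inv, act_mul ρ (a * r) b, map_add (ρ b), F.regA.quad hc b hb, hv.1 b hb, hgc])
    have hrb : r * b * r⁻¹ ∈ M := by
      have := M.mul_mem (M.mul_mem (M.inv_mem (hAM ha)) hgb) (hAM ha)
      simpa [mul_assoc] using this
    have hk := hF.keep _ (mul_mem (mul_mem (Subgroup.mem_sup_right hr) (Subgroup.mem_sup_left hb))
      (inv_mem (Subgroup.mem_sup_right hr))) hrb c hc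
    have hδR : δ ∈ img ρ R := sub_mem_img ρ hr c
    have hrδ : ρ r δ = δ := F.regR.quad hδR r hr
    have hri : ρ r⁻¹ c = c - δ := by
      have h0 : ρ r (c - δ) = c := by rw [map_sub, hrδ, hδ]; abel
      conv_lhs => rw [← h0, act_inv]
    set β := ρ b δ - δ with hβ
    have hβA : β ∈ img ρ A := sub_mem_img ρ hb δ
    have e : ρ (r * b * r⁻¹) c = (c - β) - (ρ r β - β) := by
      rw [act_mul, hri, act_mul, map_sub, F.regA.quad hc b hb, show ρ b δ = δ + β by rw [hβ]; abel, map_sub,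
        map_add, hrδ, show ρ r c = c + δ by rw [hδ]; abel]
      abel
    rw [e] at hk
    have h3 := sub_mem (sub_mem hc hβA) hk
    rw [sub_sub_cancel] at h3
    by_contra hne
    exact hne (F.eq_zero_A hU hp2 hβA fun s hs => by
      have h4 : ρ r β - β = 0 := F.eq_zero_R hU hp2 (sub_mem_img ρ hr β) (F.regA.quad h3)
      by_cases hr1 : r = 1
      · exact absurd (by rw [← hry, hδ, hr1, act_one, sub_self]) hy0
      · exact F.regR.ker r hr hr1 β (sub_eq_zero.1 h4) s hs)
  refine hy0 (hry ▸ F.eq_zero_R hU hp2 (sub_mem_img ρ hr c) fun b hb => sub_eq_zero.1 (hbeta b hb))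

/-- A nonzero vector fixed by `T` among the displacements of `X`, and its parts. -/
theorem exists_base : ∃ w ∈ img ρ X, w ∈ fix ρ (T : Subgroup P) ∧ pointStab ρ w ≤ M ∧
    ∀ A ∈ mem, ∃ c ∈ img ρ A, c ≠ 0 ∧ w - c ∈ fix ρ A ⊓ fix ρ (opp A) := by
  haveI := h.nontriv
  have hne : img ρ X ≠ ⊥ := fun e => by
    obtain ⟨A, hA⟩ := h.nonempty
    have h1 := (h.reg hA).card_img
    rw [le_bot_iff.1 (e ▸ img_mono ρ (h.le_X hA) : img ρ A ≤ ⊥), AddSubgroup.card_bot] at h1
    exact h.mem_ne_bot hA (Subgroup.eq_bot_of_card_eq A ((h.reg hA).card_grp.trans h1.symm))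
  obtain ⟨w, hw, hw0, hwT⟩ := exists_fix ρ h.set_up.smul_zero T.2 (W := img ρ X) (fun t ht x hx => by
    rw [← Local.map_conj_eq_of_mem_normalizer (h.normal_T ht)]; exact mem_img_cm ρ hx) hne
  have hst : pointStab ρ w ≤ M := h.set_up.stab_le (k := 1) M.one_mem (by rwa [cm_one]) hw0
  refine ⟨w, hw, hwT, hst, fun A hA => ?_⟩
  have hF := h.framed A hA
  obtain ⟨c, hc, hv⟩ := (hF.frame.mem_fix_iff h.set_up.smul_zero h.set_up.p_odd).1
    (fix_antitone ρ (h.le_X hA) (h.quad hw))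
  refine ⟨c, hc, fun e => hF.not_le fun r hr => hst (show ρ r w = w from ?_), hv⟩
  rw [e, sub_zero] at hv
  exact hv.2 r hr

/-- The displacements of each member are sums of vectors fixed only inside `M`. -/
theorem img_le_closure : img ρ X ≤ AddSubgroup.closure {u | pointStab ρ u ≤ M} := by
  have hU := h.set_up.smul_zero
  have hp2 := h.set_up.p_odd
  refine h.img_le_of_mem fun A hA => ?_
  obtain ⟨w, hw, hwT, hst, hpart⟩ := h.exists_base
  obtain ⟨c, hc, hc0, hv⟩ := hpart A hA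
  have hF := h.framed A hA
  have F := hF.frame
  set R := opp A
  have hgood : ∀ x ∈ img ρ A, x ≠ 0 → pointStab ρ (x + (w - c)) ≤ M := by
    intro x hx hx0
    have hcR : c ∉ fix ρ R := fun e => hc0 (F.eq_zero_A hU hp2 hc e)
    obtain ⟨r, hr, hrc⟩ : ∃ r ∈ R, ρ r c ≠ c := by
      by_contra hno; push Not at hno; exact hcR hno
    set y := ρ r c - c with hy
    have hyR : y ∈ img ρ R := sub_mem_img ρ hr c
    have hrcA : ρ r c ∉ fix ρ A := fun e => hrc (sub_eq_zero.1 (F.eq_zero_R hU hp2 hyR (sub_mem e (F.regA.quad hc))))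
    obtain ⟨a, ha, hax⟩ := F.regA.exists_elt hrcA (sub_mem hx hc)
    have hxR : x ∉ fix ρ R := fun e => hx0 (F.eq_zero_A hU hp2 hx e)
    obtain ⟨r', hr', hr'x⟩ := F.regR.exists_elt hxR (neg_mem hyR)
    set g := r' * a * r with hg
    have hgw : ρ g w = x + (w - c) := by
      conv_lhs => rw [show w = c + (w - c) by abel]
      rw [hg, act_mul, map_add, hv.2 r hr, act_mul, map_add, sub_eq_iff_eq_add.1 hax, hv.1 a ha,
        show ρ r c = y + c by rw [hy]; abel, show x - c + (y + c) = x + y by abel, map_add, map_add, hv.2 r' hr',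
        F.regR.quad hyR r' hr', sub_eq_iff_eq_add.1 hr'x]
      abel
    have hgM : g ∈ M := h.mem_M hst (by
      rw [hgw]
      exact add_mem (h.img_mem_le_fix hA hx) (sub_mem (h.quad hw) (h.img_mem_le_fix hA hc)))
    intro s hs
    have h1 : g⁻¹ * s * g ∈ M := hst (show ρ (g⁻¹ * s * g) w = w by
      rw [act_mul, act_mul, hgw, show ρ s (x + (w - c)) = _ from hs, ← hgw, act_inv])
    have := M.mul_mem (M.mul_mem hgM h1) (M.inv_mem hgM)
    simpa [mul_assoc] using this
  intro x hx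
  by_cases hx0 : x = 0
  · rw [hx0]; exact zero_mem _
  have hxx : x + x ≠ 0 := fun e => hx0 (eq_zero_of_add_self hU hp2 e)
  rw [show x = (x + x + (w - c)) - (x + (w - c)) by abel]
  exact sub_mem (AddSubgroup.subset_closure (hgood _ (add_mem hx hx) hxx))
    (AddSubgroup.subset_closure (hgood _ hx hx0))

/-- `M` normalises `X`. -/
theorem conj_eq {m : P} (hm : m ∈ M) : cm m X = X := by
  have hcl : ∀ m ∈ M, img ρ (cm m X) ≤ fix ρ X := by
    intro m hm x hx
    have h1 := mem_img_cm ρ (g := m⁻¹) hx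
    rw [cm_inv_cm] at h1
    have h2 : AddSubgroup.closure {u | pointStab ρ u ≤ M} ≤ (fix ρ X).comap (ρ m : U →+ U) :=
      (AddSubgroup.closure_le _).2 fun u (hu : pointStab ρ u ≤ M) => h.good_le fun s hs => by
        have h3 : m⁻¹ * s * m ∈ M := hu (show ρ (m⁻¹ * s * m) u = u by
          rw [act_mul, act_mul, show ρ s (ρ m u) = ρ m u from hs, act_inv])
        have := M.mul_mem (M.mul_mem hm h3) (M.inv_mem hm)
        simpa [mul_assoc] using this
    have h4 : ρ m (ρ m⁻¹ x) ∈ fix ρ X := h2 (h.img_le_closure h1)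
    rwa [act_inv'] at h4
  have hXp' : IsPGroup p ↥(cm m X) := h.pgroup.map _
  have hp12 : IsPGroup p ↥(cm m X ⊔ X) := by
    refine hXp'.to_sup_of_normal_right' h.pgroup fun a ha => ZJFailure.mem_normalizer_of_forall fun b hb => ?_
    have hcomm : a * b = b * a := by
      refine act_ext ρ h.set_up.inj fun u => ?_
      rw [act_mul, act_mul]
      have e1 : ρ a (ρ b u - u) = ρ b u - u := by
        have h1 : ρ m⁻¹ (ρ b u - u) ∈ fix ρ X := by
          have h2 := mem_img_cm ρ (g := m⁻¹) (sub_mem_img ρ hb u)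
          exact hcl m⁻¹ (inv_mem hm) h2
        exact (mem_fix_cm ρ).2 h1 a ha
      have e2 : ρ b (ρ a u - u) = ρ a u - u := hcl m hm (sub_mem_img ρ ha u) b hb
      rw [map_sub] at e1 e2
      rw [eq_add_of_sub_eq e1, eq_add_of_sub_eq e2]
      abel
    rw [hcomm, mul_inv_cancel_right]; exact hb
  have hle : cm m X ⊔ X ≤ M := sup_le
    (Local.map_conj_le fun x hx => mul_mem (mul_mem hm (h.set_up.le_M (h.le hx))) (inv_mem hm))
    (h.le.trans h.set_up.le_M)
  obtain ⟨k, hk, hk'⟩ := h.set_up.exists_conj_le hp12 hle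
  have h1 : cm k⁻¹ (cm m X) = X := by
    rw [cm_cm]; exact h.closed _ (by
      rw [← cm_cm]; exact (cm_mono (le_sup_left.trans hk')).trans (cm_inv_cm k _).le)
  have h2 : cm k⁻¹ X = X := h.closed _ ((cm_mono (le_sup_right.trans hk')).trans (cm_inv_cm k _).le)
  exact cm_injective k⁻¹ (h1.trans h2.symm)

theorem permute {m : P} (hm : m ∈ M) {A : Subgroup P} (hA : A ∈ mem) : cm m A ∈ mem :=
  h.carried m A hA ((cm_mono (h.le_X hA)).trans (h.conj_eq hm).le)

theorem fix_inv {m : P} (hm : m ∈ M) {x : U} (hx : x ∈ fix ρ X) : ρ m x ∈ fix ρ X := by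
  rw [← h.conj_eq hm, mem_fix_cm, act_inv]; exact hx

theorem img_inv {m : P} (hm : m ∈ M) {x : U} (hx : x ∈ img ρ X) : ρ m x ∈ img ρ X := by
  rw [← h.conj_eq hm]; exact mem_img_cm ρ hx

/-- An element trivial on `fix X` and into it agrees with an element of each member off that member's fixed vectors. -/
theorem exists_match {g : P} (hg : g ∈ flag ρ ⊥ (fix ρ X)) {A : Subgroup P} (hA : A ∈ mem) :
    ∃ a ∈ A, ∀ y ∈ img ρ (opp A), ρ (a⁻¹ * g) y = y := by
  have hs := h.set_up
  have hU := hs.smul_zero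
  have hp2 := hs.p_odd
  have hF := h.framed A hA
  have F := hF.frame
  set R := opp A
  have hflagA : A ≤ flag ρ ⊥ (fix ρ X) := fun a ha =>
    ⟨fun x hx => by rw [AddSubgroup.mem_bot.1 hx, map_zero],
      fun x hx => by rw [hx a (h.le_X hA ha), sub_self]; exact zero_mem _,
      fun u => h.img_mem_le_fix hA (sub_mem_img ρ ha u)⟩
  obtain ⟨w, hw, hwT, hst, hpart⟩ := h.exists_base
  obtain ⟨c, hc, hc0, hv⟩ := hpart A hA
  have hcR : c ∉ fix ρ R := fun e => hc0 (F.eq_zero_A hU hp2 hc e)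
  obtain ⟨r₀, hr₀, hrc₀⟩ : ∃ r ∈ R, ρ r c ≠ c := by
    by_contra hno; push Not at hno; exact hcR hno
  set y₀ := ρ r₀ c - c with hy₀
  have hy₀R : y₀ ∈ img ρ R := sub_mem_img ρ hr₀ c
  have hy₀0 : y₀ ≠ 0 := sub_ne_zero.2 hrc₀
  have hsh := fun {g} (hg : g ∈ flag ρ ⊥ (fix ρ X)) => shear_both hs F hF.not_le h.le h.normal_T (h.le_X hA)
    (h.img_mem_le_fix hA) h.quad hg
  obtain ⟨a, ha, hay⟩ := F.regA.exists_elt (fun e => hy₀0 (F.eq_zero_R hU hp2 hy₀R e)) ((hsh hg).2 y₀ hy₀R)
  refine ⟨a, ha, ?_⟩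
  set g' := a⁻¹ * g with hg'
  have hg'f : g' ∈ flag ρ ⊥ (fix ρ X) := mul_mem (inv_mem (hflagA ha)) hg
  have hfix : ρ g' y₀ = y₀ := by rw [hg', act_mul, ← sub_left_inj.1 hay, act_inv]
  have hgC : ∀ x ∈ fix ρ X, ρ g' x = x := fun x hx => sub_eq_zero.1 (AddSubgroup.mem_bot.1 (hg'f.2.1 x hx))
  have hwX : w ∈ fix ρ X := h.quad hw
  have hrc : ρ r₀ c = y₀ + c := by rw [hy₀]; abel
  have hM : r₀⁻¹ * g' * r₀ ∈ M := hst (show ρ (r₀⁻¹ * g' * r₀) w = w by
    have e : ρ r₀ w = y₀ + w := by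
      conv_lhs => rw [show w = c + (w - c) by abel, map_add, hrc, hv.2 r₀ hr₀]
      abel
    rw [act_mul, e, act_mul, map_add, hfix, hgC w hwX, ← e, act_inv])
  have hr₀1 : r₀ ≠ 1 := fun e => hrc₀ (by rw [e, act_one])
  intro y hy
  obtain ⟨u', hu'⟩ := F.regR.exists_vec hr₀ hr₀1 hy
  obtain ⟨x, hx, y', hy', hv'⟩ := F.dec u'
  have hRfix : ∀ w ∈ img ρ R, ρ r₀ w = w := fun w hw => F.regR.quad hw r₀ hr₀
  have hw' : ρ r₀ x = y + x := by
    rw [← hu', show u' = x + y' + (u' - x - y') by abel, map_add, map_add, hRfix y' hy', hv'.2 r₀ hr₀]; abel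
  set γ := ρ g' y - y with hγd
  have hγ : γ ∈ img ρ A := (hsh hg'f).2 y hy
  have hxX : x ∈ fix ρ X := h.img_mem_le_fix hA hx
  have h1 := h.fix_inv hM hxX
  rw [act_mul, hw', act_mul, map_add, hgC x hxX] at h1
  have h2 : ρ r₀⁻¹ (ρ g' y + x) = (x + γ) - (ρ r₀ γ - γ) := by
    have h0 : ρ r₀ ((x + γ) - (ρ r₀ γ - γ)) = ρ g' y + x := by
      rw [map_sub, map_add, hRfix _ (sub_mem_img ρ hr₀ γ), hw', hγd]; abel
    conv_lhs => rw [← h0, act_inv]
  rw [h2] at h1
  have h3 := sub_mem (add_mem hxX (h.img_mem_le_fix hA hγ)) h1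
  rw [sub_sub_cancel] at h3
  have h4 : ρ r₀ γ = γ := sub_eq_zero.1 (F.eq_zero_R hU hp2 (sub_mem_img ρ hr₀ γ) (fix_antitone ρ (h.le_X hA) h3))
  exact sub_eq_zero.1 (F.eq_zero_A hU hp2 hγ (F.regR.ker r₀ hr₀ hr₀1 γ h4))

theorem mem_flag {B : Subgroup P} (hB : B ≤ X) : B ≤ flag ρ ⊥ (fix ρ X) := fun g hg =>
  ⟨fun x hx => by rw [AddSubgroup.mem_bot.1 hx, map_zero],
    fun x hx => by rw [hx g (hB hg), sub_self]; exact zero_mem _, fun u => h.quad (sub_mem_img ρ (hB hg) u)⟩

/-- Two members differ in their components. -/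
theorem cases {A S : Subgroup P} (hA : A ∈ mem) (hS : S ∈ mem) (hne : S ≠ A) :
    img ρ S ≤ fix ρ A ⊓ fix ρ (opp A) ∧ img ρ (opp A) ≤ fix ρ S := by
  have hs := h.set_up
  have hU := hs.smul_zero
  have hp2 := hs.p_odd
  have hF := h.framed A hA
  have F := hF.frame
  set R := opp A
  have rS := h.reg hS
  have hb := fun g hg => shear_both hs F hF.not_le h.le h.normal_T (h.le_X hA) (h.img_mem_le_fix hA) h.quad
    (h.mem_flag (h.le_X hS) (hg : g ∈ S))
  by_cases hy : img ρ R ≤ fix ρ S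
  · refine ⟨(img_le ρ).2 fun g hg u => ?_, hy⟩
    obtain ⟨x, hx, y, hy', hv⟩ := F.dec u
    rw [show u = x + y + (u - x - y) by abel, map_add, map_add, (h.apart A hA S hS).1 hx g hg,
      hy hy' g hg, add_sub_add_left_eq_sub]
    exact (hb g hg).1 _ hv
  exfalso
  obtain ⟨y, hy', hyS⟩ := SetLike.not_le_iff_exists.1 hy
  have hle : img ρ S ≤ img ρ A := rS.img_le_of hyS fun g hg => (hb g hg).2 y hy'
  have hfixle : fix ρ A ≤ fix ρ S := by
    intro w hw g hg
    obtain ⟨x, hx, hv⟩ := (F.mem_fix_iff hU hp2).1 hw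
    have h1 : ρ g (w - x) - (w - x) = 0 := F.eq_zero_A hU hp2 (hle (sub_mem_img ρ hg _)) ((hb g hg).1 _ hv).2
    rw [map_sub, (h.apart A hA S hS).1 hx g hg, sub_sub_sub_cancel_right] at h1
    exact sub_eq_zero.1 h1
  refine hne (Subgroup.eq_of_le_of_card_ge (fun g hg => ?_) (F.regA.card_grp.trans rS.card_grp.symm).le)
  obtain ⟨a, ha, hmatch⟩ := h.exists_match (h.mem_flag (h.le_X hS) hg) hA
  have h1 : a⁻¹ * g = 1 := act_ext ρ hs.inj fun u => by
    obtain ⟨x, hx, z', hz', hv⟩ := F.dec u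
    have hfA : u - z' ∈ fix ρ A := by
      rw [show u - z' = x + (u - x - z') by abel]
      exact add_mem (F.regA.quad hx) hv.1
    rw [act_one, show u = (u - z') + z' by abel, map_add, hmatch z' hz', act_mul, hfixle hfA g hg,
      inv_fixed ρ (hfA a ha)]
  rw [← inv_mul_eq_one.1 h1]; exact ha

/-- Everything is reached from `fix X` and the opposite displacements. -/
theorem span_eq_top {W : AddSubgroup U} (h1 : fix ρ X ≤ W) (h2 : ∀ A ∈ mem, img ρ (opp A) ≤ W) : W = ⊤ := by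
  classical
  have key : ∀ s : Finset (Subgroup P), ∀ u, (∀ A ∈ mem, A ∉ s → u ∈ fix ρ A) → u ∈ W := by
    intro s
    induction s using Finset.induction_on with
    | empty => exact fun u hu => h1 (h.mem_fix fun A hA => hu A hA (Finset.notMem_empty A))
    | insert B s _ ih =>
      intro u hu
      by_cases hB : B ∈ mem
      · obtain ⟨x, hx, y, hy, hv⟩ := (h.framed B hB).frame.dec u
        rw [show u = (u - y) + y by abel]
        refine add_mem (ih _ fun A hA hAs => ?_) (h2 B hB hy)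
        by_cases hAB : A = B
        · subst hAB
          rw [show u - y = x + (u - x - y) by abel]
          exact add_mem ((h.reg hA).quad hx) hv.1
        · exact sub_mem (hu A hA (by simp [hAB, hAs])) ((h.cases hB hA hAB).2 hy)
      · exact ih u fun A hA hAs => hu A hA (by simp [hAs, show A ≠ B from fun e => hB (e ▸ hA)])
  haveI : Fintype (Subgroup P) := Fintype.ofFinite _
  exact eq_top_iff.2 fun u _ => key Finset.univ u fun A _ hA => absurd (Finset.mem_univ A) hA

/-- An element trivial on `fix X` and into it lies among the members off which it is not trivial. -/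
theorem mem_of_rest {g : P} (hg : g ∈ flag ρ ⊥ (fix ρ X)) {H : Subgroup P}
    (hH : ∀ A ∈ mem, A ≤ H ∨ ∀ y ∈ img ρ (opp A), ρ g y = y) : g ∈ H := by
  classical
  have key : ∀ s : Finset (Subgroup P), ∀ g ∈ flag ρ ⊥ (fix ρ X),
      (∀ A ∈ s, A ∈ mem → A ≤ H) → (∀ A ∈ mem, A ∉ s → ∀ y ∈ img ρ (opp A), ρ g y = y) → g ∈ H := by
    intro s
    induction s using Finset.induction_on with
    | empty =>
      intro g hg _ hfix
      have hg1 : g = 1 := by
        refine act_ext ρ h.set_up.inj fun u => ?_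
        rw [act_one]
        let W : AddSubgroup U :=
          { carrier := {u | ρ g u = u}
            zero_mem' := map_zero _
            add_mem' := fun {a b} (ha : ρ g a = a) (hb : ρ g b = b) => show ρ g (a + b) = a + b by
              rw [map_add, ha, hb]
            neg_mem' := fun {a} (ha : ρ g a = a) => show ρ g (-a) = -a by rw [map_neg, ha] }
        exact (h.span_eq_top (W := W) (fun x hx => sub_eq_zero.1 (AddSubgroup.mem_bot.1 (hg.2.1 x hx)))
          fun A hA y hy => hfix A hA (Finset.notMem_empty A) y hy).ge (AddSubgroup.mem_top u)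
      rw [hg1]; exact H.one_mem
    | insert B s _ ih =>
      intro g hg hs' hfix
      by_cases hB : B ∈ mem
      · obtain ⟨a, ha, hmatch⟩ := h.exists_match hg hB
        have h1 := ih (a⁻¹ * g) (mul_mem (inv_mem (h.mem_flag (h.le_X hB) ha)) hg)
          (fun A hA => hs' A (Finset.mem_insert_of_mem hA)) fun A hA hAs y hy => by
            by_cases hAB : A = B
            · subst hAB; exact hmatch y hy
            · rw [act_mul, hfix A hA (by simp [hAB, hAs]) y hy]
              exact inv_fixed ρ ((h.cases hA hB (Ne.symm hAB)).2 hy a ha)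
        have := H.mul_mem (hs' B (Finset.mem_insert_self B s) hB ha) h1
        rwa [mul_inv_cancel_left] at this
      · exact ih g hg (fun A hA => hs' A (Finset.mem_insert_of_mem hA)) fun A hA hAs =>
          hfix A hA (by simp [hAs, show A ≠ B from fun e => hB (e ▸ hA)])
  haveI : Fintype (Subgroup P) := Fintype.ofFinite _
  refine key (Finset.univ.filter fun A => A ≤ H) g hg (fun A hA _ => (Finset.mem_filter.1 hA).2) fun A hA hAs => ?_
  exact (hH A hA).resolve_left fun hle => hAs (Finset.mem_filter.2 ⟨Finset.mem_univ A, hle⟩)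

end Roots

end CfsgLib.RootCommute
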