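import Cfsg.Agent.Lib.RootCommute.Roots

/-!
The whole space is the sum of the components, so the vectors fixed by the join are its displacements.
-/

set_option autoImplicit false
set_option linter.unusedSectionVars false
set_option linter.unusedVariables false
set_option linter.style.haveILetI false

namespace CfsgLib.RootCommute

open CfsgLib CfsgLib.StrongFusion
open CfsgLib.SL2Pair (fix)

universe u v

variable {P : Type u} [Group P] [Finite P] {U : Type v} [AddCommGroup U] [Finite U] {ρ : P →* AddMonoid.End U}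
  {p : ℕ} [hp : Fact p.Prime] {T : Sylow p P} {M X : Subgroup P} {n : ℕ}

namespace Roots

variable {mem : Set (Subgroup P)} {opp : Subgroup P → Subgroup P} {zed : Subgroup P → P}
  (h : Roots ρ T M X n mem opp zed)
include h

/-- Fixed vectors that are sums of components are displacements. -/
theorem inf_sum_le (s : Finset (Subgroup P)) (hs : ∀ A ∈ s, A ∈ mem) :
    fix ρ X ⊓ (img ρ X ⊔ s.sup fun A => img ρ (opp A)) ≤ img ρ X := by
  classical
  induction s using Finset.induction_on with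
  | empty => simp
  | insert B s hBs ih =>
    intro u hu
    rw [Finset.sup_insert, sup_left_comm] at hu
    obtain ⟨hu1, hu2⟩ := hu
    obtain ⟨y, hy, u', hu', rfl⟩ := AddSubgroup.mem_sup.1 hu2
    have hB := hs B (Finset.mem_insert_self B s)
    have hle : img ρ X ⊔ s.sup (fun A => img ρ (opp A)) ≤ fix ρ B :=
      sup_le (h.quad.trans (fix_antitone ρ (h.le_X hB))) (Finset.sup_le fun A hA =>
        (h.cases (hs A (Finset.mem_insert_of_mem hA)) hB fun e => hBs (e ▸ hA)).2)
    have hy0 : y = 0 := (h.framed B hB).frame.eq_zero_R h.set_up.smul_zero h.set_up.p_odd hy (by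
      have := sub_mem (fix_antitone ρ (h.le_X hB) hu1) (hle hu')
      rwa [add_sub_cancel_right] at this)
    rw [hy0, zero_add] at hu1 ⊢
    exact ih (fun A hA => hs A (Finset.mem_insert_of_mem hA)) ⟨hu1, hu'⟩

/-- The part off `fix A` of an image under `M` lies in one component. -/
theorem part_mem {m : P} (hm : m ∈ M) {A : Subgroup P} (hA : A ∈ mem) {y : U} (hy : y ∈ img ρ (opp A)) :
    ∃ y' ∈ img ρ (opp (cm m A)), ρ m y - y' ∈ fix ρ X := by
  classical
  have hA' := h.permute hm hA
  obtain ⟨x, hx, y', hy', hv⟩ := (h.framed _ hA').frame.dec (ρ m y)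
  refine ⟨y', hy', h.mem_fix fun B hB => ?_⟩
  by_cases hBA : B = cm m A
  · subst hBA
    rw [show ρ m y - y' = x + (ρ m y - x - y') by abel]
    exact add_mem ((h.reg hA').quad hx) hv.1
  · have hB' := h.permute (inv_mem hm) hB
    have hne : cm m⁻¹ B ≠ A := fun e => hBA (by rw [← e, cm_cm, mul_inv_cancel, cm_one])
    have h1 : ρ m y ∈ fix ρ B := by
      have := (h.cases hA hB' hne).2 hy
      rwa [mem_fix_cm, inv_inv] at this
    exact sub_mem h1 ((h.cases hA' hB hBA).2 hy')

/-- The space is the sum of the displacements of all components, so `fix X` is `img X`. -/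
theorem fix_eq : fix ρ X = img ρ X := by
  classical
  refine le_antisymm ?_ h.quad
  haveI : Fintype (Subgroup P) := Fintype.ofFinite _
  have hU := h.set_up.smul_zero
  have hp2 := h.set_up.p_odd
  set s : Finset (Subgroup P) := Finset.univ.filter fun A => A ∈ mem with hs
  have hsm : ∀ A, A ∈ s ↔ A ∈ mem := fun A => by simp [hs]
  set W := img ρ X ⊔ s.sup (fun A => img ρ (opp A)) with hW
  suffices hWt : W = ⊤ from fun u hu =>
    h.inf_sum_le s (fun A hA => (hsm A).1 hA) ⟨hu, hWt.ge (AddSubgroup.mem_top u)⟩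
  have hRW : ∀ A ∈ mem, img ρ (opp A) ≤ W := fun A hA =>
    (Finset.le_sup (f := fun A => img ρ (opp A)) ((hsm A).2 hA)).trans le_sup_right
  have hinvR : ∀ A ∈ mem, ∀ r ∈ opp A, ∀ x ∈ W, ρ r x ∈ W := fun A hA r hr x hx => by
    have := W.add_mem (hRW A hA (sub_mem_img ρ hr x)) hx
    rwa [sub_add_cancel] at this
  obtain ⟨w, hw, hwT, hst, hpart⟩ := h.exists_base
  have hTy : ∀ t ∈ (T : Subgroup P), ∀ A ∈ mem, ∀ y ∈ img ρ (opp A), ρ t y ∈ W := by
    intro t ht A hA
    have htM := h.set_up.le_M ht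
    obtain ⟨c₀, hc₀, hc₀0, hv₀⟩ := hpart A hA
    have hA' := h.permute htM hA
    obtain ⟨cA, hcA, hcA0, hvA⟩ := hpart _ hA'
    have F' := (h.framed _ hA').frame
    -- a fixed part is a displacement once it does not cancel the base vector
    have key : ∀ y ∈ img ρ (opp A), ∀ y' ∈ img ρ (opp (cm t A)), ρ t y - y' ∈ fix ρ X →
        (∀ x ∈ img ρ (cm t A), ρ t y - y' + w - x ∈ fix ρ (cm t A) ⊓ fix ρ (opp (cm t A)) → x ≠ 0) →
        ρ t y - y' ∈ img ρ X := by
      intro y hy y' hy' hc hne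
      set e := ρ t y - y' with he
      have heX : e + w ∈ fix ρ X := add_mem hc (h.quad hw)
      obtain ⟨x, hx, hv⟩ := (F'.mem_fix_iff hU hp2).1 (fix_antitone ρ (h.le_X hA') heX)
      have hx0 := hne x hx hv
      obtain ⟨r', hr', hr'x⟩ := F'.regR.exists_elt (fun e' => hx0 (F'.eq_zero_A hU hp2 hx e')) (neg_mem hy')
      obtain ⟨r, hr, hrc⟩ := (h.framed A hA).frame.regR.exists_elt
        (fun e' => hc₀0 ((h.framed A hA).frame.eq_zero_A hU hp2 hc₀ e')) hy
      have hg : ρ (r' * t * r) w = e + w := by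
        have e1 : ρ r w = y + w := by
          conv_lhs => rw [show w = c₀ + (w - c₀) by abel, map_add, hv₀.2 r hr, sub_eq_iff_eq_add.1 hrc]
          abel
        rw [act_mul, e1, act_mul, map_add, hwT t ht, show ρ t y + w = y' + x + (e + w - x) by rw [he]; abel,
          map_add, map_add, hv.2 r' hr', F'.regR.quad hy' r' hr', sub_eq_iff_eq_add.1 hr'x]
        abel
      have hgM := h.mem_M hst (show ρ (r' * t * r) w ∈ fix ρ X by rw [hg]; exact heX)
      have := sub_mem (h.img_inv hgM hw) hw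
      rwa [hg, add_sub_cancel_right] at this
    intro y hy
    obtain ⟨y', hy', hc⟩ := h.part_mem htM hA hy
    suffices he : ρ t y - y' ∈ img ρ X by
      have := W.add_mem (AddSubgroup.mem_sup_left (T := s.sup fun A => img ρ (opp A)) he) (hRW _ hA' hy')
      rwa [sub_add_cancel] at this
    by_cases hcase : ∀ x ∈ img ρ (cm t A), ρ t y - y' + w - x ∈ fix ρ (cm t A) ⊓ fix ρ (opp (cm t A)) → x ≠ 0
    · exact key y hy y' hy' hc hcase
    push Not at hcase
    obtain ⟨x, hx, hv, rfl⟩ := hcase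
    rw [sub_zero] at hv
    -- then twice the vector does not cancel it
    have h2 := key (y + y) (add_mem hy hy) (y' + y') (add_mem hy' hy') (by
      rw [map_add, add_sub_add_comm]; exact add_mem hc hc) (fun x hx' hv' hx0 => by
      rw [hx0, sub_zero, map_add, add_sub_add_comm, add_assoc] at hv'
      have h3 := sub_mem hv' hv
      rw [add_sub_cancel_right] at h3
      have h4 := sub_mem hv h3
      rw [add_sub_cancel_left] at h4
      have h5 := sub_mem h4 hvA
      rw [sub_sub_cancel] at h5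
      exact hcA0 (F'.eq_zero_A hU hp2 hcA h5.2))
    rw [map_add, add_sub_add_comm] at h2
    obtain ⟨k, hk⟩ := ((Nat.Prime.odd_of_ne_two hp.out hp2) : Odd p)
    have h6 := sub_mem (nsmul_mem h2 (k + 1)) (show p • (ρ t y - y') ∈ img ρ X by rw [hU]; exact zero_mem _)
    rwa [← two_nsmul, ← mul_nsmul, show 2 * (k + 1) = p + 1 by omega, succ_nsmul, add_sub_cancel_left] at h6
  have hinvT : ∀ t ∈ (T : Subgroup P), ∀ x ∈ W, ρ t x ∈ W := by
    intro t ht x hx
    obtain ⟨i, hi, v, hv, rfl⟩ := AddSubgroup.mem_sup.1 hx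
    rw [map_add]
    refine W.add_mem (AddSubgroup.mem_sup_left (h.img_inv (h.set_up.le_M ht) hi)) ?_
    have h1 : s.sup (fun A => img ρ (opp A)) ≤ W.comap (ρ t : U →+ U) :=
      Finset.sup_le fun A hA y hy => hTy t ht A ((hsm A).1 hA) y hy
    exact h1 hv
  obtain ⟨A₀, hA₀⟩ := h.nonempty
  -- with the displacements of `T` it is everything
  have hfull : W ⊔ img ρ (T : Subgroup P) = ⊤ := by
    set Y := W ⊔ img ρ (T : Subgroup P)
    have hTc : (T : Subgroup P) ≤ cosetStab ρ Y := fun t ht x => AddSubgroup.mem_sup_right (sub_mem_img ρ ht x)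
    have hne : cosetStab ρ Y = ⊤ := by
      by_contra hne
      exact (h.framed A₀ hA₀).not_le fun r hr =>
        h.set_up.over_le _ hTc hne (fun x => AddSubgroup.mem_sup_left (hRW A₀ hA₀ (sub_mem_img ρ hr x)))
    exact h.set_up.full Y fun g x => hne.ge (Subgroup.mem_top g) x
  obtain ⟨L, ⟨hLW, hLi⟩, hmin⟩ := Set.exists_min_image
    {L : AddSubgroup U | W ⊔ L = ⊤ ∧ ∀ t ∈ (T : Subgroup P), ∀ x ∈ L, ρ t x ∈ L} (fun L => Nat.card L)
    (Set.toFinite _) ⟨⊤, sup_top_eq W, fun _ _ _ _ => trivial⟩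
  by_contra hWne
  have hL0 : L ≠ ⊥ := fun e => hWne (by rw [← hLW, e, sup_bot_eq])
  have hlt := disp_lt ρ hU T.2 hLi hL0
  set D := AddSubgroup.closure {w | ∃ a ∈ (T : Subgroup P), ∃ x ∈ L, w = ρ a x - x} with hD
  have hDW : W ⊔ D = ⊤ := by
    refine eq_top_iff.2 (hfull.ge.trans (sup_le le_sup_left ((img_le ρ).2 fun a ha u => ?_)))
    obtain ⟨i, hi, l, hl, rfl⟩ := AddSubgroup.mem_sup.1 (hLW.ge (AddSubgroup.mem_top u))
    rw [map_add, add_sub_add_comm]
    exact (W ⊔ D).add_mem (AddSubgroup.mem_sup_left (sub_mem (hinvT a ha i hi) hi))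
      (AddSubgroup.mem_sup_right (AddSubgroup.subset_closure ⟨a, ha, l, hl, rfl⟩))
  have hDi : ∀ t ∈ (T : Subgroup P), ∀ x ∈ D, ρ t x ∈ D := fun t ht x hx => by
    have := D.add_mem (AddSubgroup.subset_closure ⟨t, ht, x, hlt.le hx, rfl⟩) hx
    rwa [sub_add_cancel] at this
  exact (hlt.trans_le' le_rfl).ne (AddSubgroup.eq_of_le_of_card_ge hlt.le (hmin D ⟨hDW, hDi⟩))

end Roots

end CfsgLib.RootCommute
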