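import Cfsg.Agent.Lib.RootCommute.Coords
import Cfsg.Agent.Lib.RootBlocks.Defs

/-!
The members and their opposites are natural blocks.
-/

set_option autoImplicit false
set_option linter.unusedSectionVars false
set_option linter.style.haveILetI false

namespace CfsgLib.RootCommute

open CfsgLib CfsgLib.StrongFusion
open CfsgLib.SL2Pair (fix)
open CfsgLib.RootBlocks (Blocks)

universe u v

variable {P : Type u} [Group P] [Finite P] {U : Type v} [AddCommGroup U] [Finite U] {ρ : P →* AddMonoid.End U}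
  {p : ℕ} [hp : Fact p.Prime] {T : Sylow p P} {M X : Subgroup P} {n : ℕ}

namespace Roots

variable {mem : Set (Subgroup P)} {opp : Subgroup P → Subgroup P} {zed : Subgroup P → P}
  (h : Roots ρ T M X n mem opp zed)
include h

/-- The join of a member and its opposite is natural on the space. -/
theorem exists_natural {A : Subgroup P} (hA : A ∈ mem) :
    ∃ (K : Type) (_ : Field K) (_ : Fintype K) (π : U →+ (Fin 2 → K)), Fintype.card K = n ∧
      (∀ u, π u = 0 ↔ u ∈ fix ρ (A ⊔ opp A)) ∧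
      (∀ g ∈ A ⊔ opp A, ∃ L : (Fin 2 → K) →ₗ[K] (Fin 2 → K), ∀ u, π (ρ g u) = L (π u)) ∧
      Function.Surjective π := by
  classical
  have hs := h.set_up
  have hU := hs.smul_zero
  have hp2 := hs.p_odd
  have hF := h.framed A hA
  have F := hF.frame
  set Γ := A ⊔ opp A with hΓ
  set σ : ↥Γ →* AddMonoid.End U := ρ.comp Γ.subtype with hσdef
  have hσ : Function.Injective σ := fun a b e => Subtype.ext (hs.inj e)
  set A₁ := A.subgroupOf Γ
  have hA₁ : A₁.map Γ.subtype = A := by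
    rw [Subgroup.subgroupOf_map_subtype, inf_eq_left.2 le_sup_left]
  have hA₁p : IsPGroup p A₁ := (T.2.to_le ((h.le_X hA).trans h.le)).of_equiv
    (Subgroup.subgroupOfEquivOfLe (le_sup_left : A ≤ Γ)).symm
  obtain ⟨T₀, hT₀⟩ := hA₁p.exists_le_sylow
  obtain ⟨w₁, hw₁, hw₁0⟩ := h.img_ne_bot hA
  have hTM : (T₀ : Subgroup ↥Γ) ≤ M.subgroupOf Γ := fun g hg => by
    by_contra hgM
    have h1 := hF.gen g g.2 hgM
    have h2 : Γ ≤ (T₀ : Subgroup ↥Γ).map Γ.subtype := by
      refine hΓ.le.trans (h1.ge.trans ?_)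
      refine sup_le (hA₁.ge.trans (Subgroup.map_mono hT₀)) ?_
      rintro _ ⟨a, ha, rfl⟩
      exact ⟨g * ⟨a, Subgroup.mem_sup_left ha⟩ * g⁻¹, mul_mem (mul_mem hg (hT₀ ha)) (inv_mem hg), rfl⟩
    obtain ⟨k, hk⟩ := ((T₀.2 : IsPGroup p (T₀ : Subgroup ↥Γ)).map Γ.subtype) ⟨zed A, h2 F.z_mem⟩
    have hz2 := F.z_sq hU hp2 hs.inj
    have hz : zed A = 1 := by
      obtain ⟨j, hj⟩ := ((hp.out.odd_of_ne_two hp2).pow : Odd (p ^ k))
      have hk' : zed A ^ p ^ k = 1 := congrArg Subtype.val hk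
      rwa [hj, pow_succ, pow_mul, pow_two, hz2, one_pow, one_mul] at hk'
    have h3 := F.negA w₁ hw₁
    rw [hz, act_one, eq_neg_iff_add_eq_zero] at h3
    exact hw₁0 (eq_zero_of_add_self hU hp2 h3)
  have hMne : M.subgroupOf Γ ≠ ⊤ := fun e => hF.not_le fun r hr =>
    (Subgroup.subgroupOf_eq_top.1 e) (Subgroup.mem_sup_right hr)
  have hfixσ : ∀ E : Subgroup ↥Γ, fix σ E = fix ρ (E.map Γ.subtype) := fun E => by
    ext u
    exact ⟨fun hu g ⟨g', hg', e⟩ => e ▸ hu g' hg', fun hu g hg => hu g ⟨g, hg, rfl⟩⟩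
  have hmuσ : ∀ E : Subgroup ↥Γ, mu σ E = mu ρ (E.map Γ.subtype) := fun E => by
    rw [mu, mu, hfixσ, Subgroup.card_map_of_injective Γ.subtype_injective]
  have hmuA : mu ρ A = Nat.card U := by rw [mu, F.regA.card_grp, ← F.regA.idx]
  obtain ⟨-, K, iK, iK', π, m, hKc, -, hπs, hπk, hπm, -, -⟩ :=
    RootTwo.exists_coords hσ hU T₀ hMne hTM (A := A₁) hT₀
      (fun e => h.mem_ne_bot hA (by rw [← hA₁, e, Subgroup.map_bot]))
      (fun a ha b hb => Subtype.ext (F.regA.comm _ ha _ hb))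
      (fun a ha => Subtype.ext (h.pow_eq_one hA ha))
      (by rw [hmuσ, hA₁, hmuA])
      (fun E hE hE0 hEne => by
        rw [hmuσ, hmuσ, hA₁, mu, mu]
        have hlt : Nat.card ↥(E.map Γ.subtype) < Nat.card A := by
          rw [Subgroup.card_map_of_injective Γ.subtype_injective, ← hA₁,
            Subgroup.card_map_of_injective Γ.subtype_injective]
          exact lt_of_le_of_ne (Nat.card_le_card_of_injective _ (Subgroup.inclusion_injective hE))
            fun e => hEne (Subgroup.eq_of_le_of_card_ge hE e.ge)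
        obtain ⟨a, ha, ha1⟩ : ∃ a ∈ E, a ≠ 1 := by
          by_contra hno; push Not at hno; exact hE0 ((Subgroup.eq_bot_iff_forall E).2 hno)
        have hfix : fix ρ (E.map Γ.subtype) = fix ρ A := le_antisymm
          (fun u hu => F.regA.ker a (hE ha) (fun e => ha1 (Subtype.ext e)) u (hu a ⟨a, ha, rfl⟩))
          (fix_antitone ρ ((Subgroup.map_mono hE).trans hA₁.le))
        rw [hfix]
        exact Nat.mul_lt_mul_of_pos_right hlt Nat.card_pos)
      (fun g hg => by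
        refine Subgroup.map_injective Γ.subtype_injective ?_
        rw [← MonoidHom.range_eq_map, Subgroup.range_subtype, Subgroup.map_sup, hA₁]
        refine le_antisymm (sup_le le_sup_left ?_) ?_
        · rintro _ ⟨y, -, rfl⟩; exact y.2
        · conv_lhs => rw [hΓ, ← hF.gen g g.2 hg]
          refine sup_le le_sup_left ?_
          rintro _ ⟨a, ha, rfl⟩
          exact Subgroup.mem_sup_right ⟨g * ⟨a, Subgroup.mem_sup_left ha⟩ * g⁻¹, ⟨⟨a, Subgroup.mem_sup_left ha⟩, ha, rfl⟩, rfl⟩)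
      (by
        obtain ⟨w, hw, hw0, hwT⟩ := exists_fix σ hU (E := (T₀ : Subgroup ↥Γ)) T₀.2 (W := img ρ Γ)
          (fun g _ x hx => by
            have := mem_img_cm ρ (g := (g : P)) hx
            rwa [show cm (g : P) Γ = Γ from Local.map_conj_eq_of_mem_normalizer (Subgroup.le_normalizer g.2)] at this)
          (fun e => hw₁0 (AddSubgroup.mem_bot.1 (e.le (img_mono ρ le_sup_left hw₁))))
        refine ⟨w, hwT, ?_⟩
        by_contra hno
        push Not at hno
        exact hw0 (F.disjoint hU hp2 hw fun g hg => hno ⟨g, hg⟩))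
  refine ⟨K, iK, iK', π, ?_, fun u => ?_, fun g hg => ⟨m ⟨g, hg⟩, fun u => hπm ⟨g, hg⟩ u⟩, hπs⟩
  · rw [hKc, ← F.regA.card_grp, ← hA₁, Subgroup.card_map_of_injective Γ.subtype_injective]
  · rw [hπk, hfixσ, ← MonoidHom.range_eq_map, Subgroup.range_subtype]

/-- **The blocks.** -/
theorem exists_blocks : ∃ (ι : Type u) (_ : Fintype ι) (F : Type) (_ : Field F) (_ : Fintype F),
    Nonempty (Blocks ρ T ι F) := by
  classical
  have hs := h.set_up
  have hU := hs.smul_zero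
  obtain ⟨A₀, hA₀⟩ := h.nonempty
  obtain ⟨F, iF, iF', π₀, hF₀, -, -, -⟩ := h.exists_natural hA₀
  set ι := {E : Subgroup P // E ∈ mem} with hι
  haveI : Fintype ι := Fintype.ofFinite ι
  let Γ : ι → Subgroup P := fun i => (i : Subgroup P) ⊔ opp i
  -- coordinates over one field
  have hblock : ∀ i : ι, (p : F) = 0 ∧ ∃ (ex ey : F →+ U) (av rv : F → P),
      ((∀ t, av t ∈ (i : Subgroup P)) ∧ (∀ a ∈ (i : Subgroup P), ∃ t, av t = a) ∧ (∀ t, rv t ∈ opp (i : Subgroup P)) ∧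
        (∀ r ∈ opp (i : Subgroup P), ∃ t, rv t = r)) ∧
      ((∀ t x, ρ (av t) (ex x) = ex x) ∧ (∀ t y, ρ (av t) (ey y) = ey y + ex (t * y)) ∧
        (∀ t y, ρ (rv t) (ey y) = ey y) ∧ (∀ t x, ρ (rv t) (ex x) = ex x + ey (t * x))) ∧
      ((∀ x, ex x ∈ img ρ (i : Subgroup P)) ∧ (∀ y, ey y ∈ img ρ (opp (i : Subgroup P))) ∧
        (∀ u, ∃ x y, u - (ex x + ey y) ∈ fix ρ (Γ i)) ∧
        ∀ x y, ex x + ey y ∈ fix ρ (Γ i) → x = 0 ∧ y = 0) := by
    intro i
    obtain ⟨K, iK, iK', π, hK, hk, hm, hπs⟩ := h.exists_natural i.2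
    obtain ⟨hp0, ex, ey, av, rv, ⟨h1, h2, h3, h4⟩, ⟨h5, h6, h7, h8⟩, h9, h10, h11, h12⟩ :=
      h.exists_block i.2 hK π hk hm hπs
    let e : F ≃+* K := FiniteField.ringEquivOfCardEq (hF₀.trans hK.symm)
    refine ⟨e.injective (by rw [map_natCast, hp0, map_zero]), ex.comp e.toAddMonoidHom, ey.comp e.toAddMonoidHom,
      av ∘ e, rv ∘ e, ⟨fun t => h1 _, fun a ha => ?_, fun t => h3 _, fun r hr => ?_⟩,
      ⟨fun t x => h5 _ _, fun t y => ?_, fun t y => h7 _ _, fun t x => ?_⟩,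
      fun x => h9 _, fun y => h10 _, fun u => ?_, fun x y hxy => ?_⟩
    · obtain ⟨t, rfl⟩ := h2 a ha; exact ⟨e.symm t, congrArg av (e.apply_symm_apply t)⟩
    · obtain ⟨t, rfl⟩ := h4 r hr; exact ⟨e.symm t, congrArg rv (e.apply_symm_apply t)⟩
    · show ρ (av (e t)) (ey (e y)) = ey (e y) + ex (e (t * y))
      rw [map_mul]; exact h6 _ _
    · show ρ (rv (e t)) (ex (e x)) = ex (e x) + ey (e (t * x))
      rw [map_mul]; exact h8 _ _
    · obtain ⟨x, y, hxy⟩ := h11 u
      exact ⟨e.symm x, e.symm y, by simpa using hxy⟩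
    · obtain ⟨a, b⟩ := h12 _ _ hxy
      exact ⟨e.injective (a.trans (map_zero e).symm), e.injective (b.trans (map_zero e).symm)⟩
  choose hp0 ex ey av rv hgrp hact hspace using hblock
  have hperm : ∀ {m : P}, m ∈ M → ∀ i : ι, ∃ j : ι, cm m (i : Subgroup P) = (j : Subgroup P) ∧ cm m (Γ i) = Γ j :=
    fun {m} hm i => ⟨⟨_, h.permute hm i.2⟩, rfl, h.join_perm hm i.2⟩
  have hxfix : ∀ {i j : ι}, i ≠ j → ∀ x, ex j x ∈ fix ρ (Γ i) ∧ ey j x ∈ fix ρ (Γ i) := fun {i j} hij x => by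
    have h1 := h.img_join_le_fix i.2 j.2 fun e => hij (Subtype.ext e.symm)
    exact ⟨h1 (img_mono ρ le_sup_left ((hspace j).1 x)), h1 (img_mono ρ le_sup_right ((hspace j).2.1 x))⟩
  -- orbits of the Sylow subgroup generate normal subgroups
  set O : Set ι := {i | ∃ t ∈ (T : Subgroup P), cm t A₀ = (i : Subgroup P)}
  set G₀ := ⨆ i : O, Γ i with hG₀
  have hi₀ : (⟨A₀, hA₀⟩ : ι) ∈ O := ⟨1, one_mem _, cm_one _⟩
  have hnot : ¬ G₀ ≤ M := fun hle =>
    (h.framed A₀ hA₀).not_le ((le_sup_right.trans (le_iSup (fun i : O => Γ i) ⟨_, hi₀⟩)).trans hle)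
  have hnormO : (T : Subgroup P) ≤ Subgroup.normalizer (G₀ : Set P) := fun t ht => by
    refine ZJFailure.mem_normalizer_of_forall fun x hx => ?_
    have h1 : G₀ ≤ G₀.comap (MulAut.conj t).toMonoidHom := iSup_le fun i y hy => by
      obtain ⟨s, hs', hsi⟩ := i.2
      obtain ⟨j, hj, hjΓ⟩ := hperm (hs.le_M ht) (i : ι)
      exact le_iSup (fun i : O => Γ i) ⟨j, t * s, mul_mem ht hs', by rw [← hj, ← cm_cm, hsi]⟩ (hjΓ.le ⟨y, hy, rfl⟩)
    exact h1 hx
  have hNtop : Subgroup.normalizer (G₀ : Set P) = ⊤ := by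
    by_contra hne
    exact hnot (Subgroup.le_normalizer.trans (hs.over_le _ hnormO hne))
  have hGn : G₀.Normal := Subgroup.normalizer_eq_top_iff.1 hNtop
  have hGT : G₀ ⊔ (T : Subgroup P) = ⊤ := by
    by_contra hne
    exact hnot (le_sup_left.trans (hs.over_le _ le_sup_right hne))
  have hfix₀ : fix ρ G₀ = ⊥ := by
    by_contra hne
    obtain ⟨w, hw, hw0, hwT⟩ := exists_fix ρ hU (E := (T : Subgroup P)) T.2 (W := fix ρ G₀)
      (fun t _ x hx g hg => by
        have h3 := hGn.conj_mem g hg t⁻¹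
        rw [inv_inv] at h3
        have h4 := congrArg (ρ t) (hx _ h3)
        rwa [← act_mul, ← mul_assoc, mul_inv_cancel_left, act_mul] at h4) hne
    refine hw0 (hs.no_fixed w fun g => ?_)
    have h5 : G₀ ⊔ (T : Subgroup P) ≤ pointStab ρ w := sup_le (fun a ha => hw a ha) fun a ha => hwT a ha
    exact h5 (hGT ▸ Subgroup.mem_top g)
  have hfix : ∀ u, (∀ i, u ∈ fix ρ (Γ i)) → u = 0 := fun u hu => by
    have h2 : G₀ ≤ pointStab ρ u := iSup_le fun j g hg => hu j g hg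
    have h3 : u ∈ fix ρ G₀ := fun g hg => h2 hg
    rwa [hfix₀, AddSubgroup.mem_bot] at h3
  have hall : ∀ i : ι, i ∈ O := fun i => by
    by_contra hni
    have h2 : G₀ ≤ pointStab ρ (ex i 1) :=
      iSup_le fun j g hg => (hxfix (fun e : (j : ι) = i => hni (e ▸ j.2)) 1).1 g hg
    have h1 : ex i 1 ∈ fix ρ G₀ := fun g hg => h2 hg
    rw [hfix₀, AddSubgroup.mem_bot] at h1
    exact one_ne_zero ((hspace i).2.2.2 1 0 (by rw [map_zero, add_zero, h1]; exact zero_mem _)).1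
  have hrest : ∀ (x y : ι → F) j, (∑ i, (ex i (x i) + ey i (y i))) - (ex j (x j) + ey j (y j)) ∈ fix ρ (Γ j) :=
    fun x y j => by
      rw [← Finset.sum_erase_eq_sub (Finset.mem_univ j)]
      exact sum_mem fun i hi => add_mem (hxfix (Finset.ne_of_mem_erase hi).symm _).1 (hxfix (Finset.ne_of_mem_erase hi).symm _).2
  refine ⟨ι, inferInstance, F, iF, iF', ⟨{
      inj := hs.inj, smul_zero := hU, cast_zero := hp0 ⟨A₀, hA₀⟩
      A := fun i => (i : Subgroup P), grp := Γ, ex := ex, ey := ey, av := av, rv := rv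
      av_mem := ?_, av_surj := ?_, A_le_grp := ?_, rv_mem := ?_, gen := ?_, A_le := ?_
      a_ex := ?_, a_ey := ?_, r_ey := ?_, r_ex := ?_, other := ?_, dec := ?_, indep := ?_
      perm := ?_, trans := ?_, nonempty := ⟨⟨A₀, hA₀⟩⟩, sup := ?_ }⟩⟩
  · exact fun i => (hgrp i).1
  · exact fun i => (hgrp i).2.1
  · exact fun i => le_sup_left
  · exact fun i t => Subgroup.mem_sup_right ((hgrp i).2.2.1 t)
  · intro i
    refine congrArg ((i : Subgroup P) ⊔ ·) (le_antisymm (fun g hg => ?_) ?_)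
    · obtain ⟨t, ht⟩ := (hgrp i).2.2.2 g hg
      exact Subgroup.subset_closure ⟨t, ht⟩
    · exact (Subgroup.closure_le _).2 (by rintro _ ⟨t, rfl⟩; exact (hgrp i).2.2.1 t)
  · exact fun i => (h.le_X i.2).trans h.le
  · exact fun i => (hact i).1
  · exact fun i => (hact i).2.1
  · exact fun i => (hact i).2.2.1
  · exact fun i => (hact i).2.2.2
  · exact fun i j hij g hg x => ⟨(hxfix hij x).1 g hg, (hxfix hij x).2 g hg⟩
  · intro u
    choose x y hxy using fun i => (hspace i).2.2.1 u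
    refine ⟨x, y, sub_eq_zero.1 (hfix _ fun j => ?_)⟩
    have h1 := sub_mem (hxy j) (hrest x y j)
    rwa [sub_sub_sub_cancel_right] at h1
  · intro x y hsum j
    have h1 := hrest x y j
    rw [hsum, zero_sub, neg_mem_iff] at h1
    exact (hspace j).2.2.2 _ _ h1
  · exact fun t ht i => hperm (hs.le_M ht) i
  · intro i j
    obtain ⟨s, hs', hsi⟩ := hall i
    obtain ⟨t, ht, htj⟩ := hall j
    have hts : t * s⁻¹ ∈ (T : Subgroup P) := mul_mem ht (inv_mem hs')
    obtain ⟨k, hk, hkΓ⟩ := hperm (hs.le_M hts) i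
    have hkj : k = j := Subtype.ext (by rw [← hk, ← htj, ← cm_cm, ← hsi, cm_inv_cm])
    exact ⟨_, hts, hkj ▸ hk, hkj ▸ hkΓ⟩
  · have h1 : G₀ ≤ ⨆ i : ι, Γ i := iSup_le fun i => le_iSup Γ i.1
    rw [eq_top_iff, ← hGT]
    exact sup_le_sup_right h1 _

end Roots

end CfsgLib.RootCommute
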